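import Cfsg.Agent.Components.Misc.SweepLocal
import Cfsg.Agent.Components.Supplement
import Cfsg.Agent.Components.LBalanceTwo.Basic
import Cfsg.Agent.Components.Amalgam.Graph
import Cfsg.Agent.Thompson.Subgroup
import Cfsg.Agent.Thompson.ElemToolkit
import Cfsg.Prelude.Def_JComponents
import Mathlib

/-!
Generic facts used for `J`-components: conjugates, parts of odd order, the Thompson subgroup, Sylow
subgroups inside a subgroup, and the commutation map of an element of order 3 on an elementary 2-group.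
-/

set_option autoImplicit false
set_option linter.unusedSectionVars false
set_option linter.style.haveILetI false

namespace Cfsg.Lib.JComp

open Subgroup
open scoped commutatorElement

variable {G : Type*} [Group G]

/-- The conjugate of a subgroup. -/
abbrev cj (g : G) (H : Subgroup G) : Subgroup G := H.map (MulAut.conj g).toMonoidHom

theorem mem_cj {g x : G} {H : Subgroup G} : x ∈ cj g H ↔ g⁻¹ * x * g ∈ H := by
  constructor
  · rintro ⟨h, hh, rfl⟩
    simpa [mul_assoc] using hh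
  · intro h
    exact ⟨_, h, by simp [mul_assoc]⟩

theorem conj_mem_cj {g h : G} {H : Subgroup G} (hh : h ∈ H) : g * h * g⁻¹ ∈ cj g H := ⟨h, hh, rfl⟩

theorem cj_cj (a b : G) (H : Subgroup G) : cj a (cj b H) = cj (a * b) H := by
  ext x
  simp only [mem_cj]
  group

theorem cj_one (H : Subgroup G) : cj 1 H = H := by ext x; simp [mem_cj]

theorem cj_inv_cj (g : G) (H : Subgroup G) : cj g⁻¹ (cj g H) = H := by rw [cj_cj, inv_mul_cancel, cj_one]

theorem cj_cj_inv (g : G) (H : Subgroup G) : cj g (cj g⁻¹ H) = H := by rw [cj_cj, mul_inv_cancel, cj_one]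

theorem card_cj (g : G) (H : Subgroup G) : Nat.card (cj g H) = Nat.card H :=
  card_map_of_injective (MulAut.conj g).injective

theorem cj_eq_self {g : G} {H : Subgroup G} (h : g ∈ normalizer (H : Set G)) : cj g H = H := by
  ext x
  rw [mem_cj]
  exact (mem_normalizer_iff''.1 h x).symm

theorem mem_normalizer_of_cj {g : G} {H : Subgroup G} (h : cj g H = H) : g ∈ normalizer (H : Set G) := by
  refine mem_normalizer_iff''.2 fun x => ?_
  conv_lhs => rw [← h]
  exact mem_cj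

theorem mem_normalizer_of_cj_le [Finite G] {g : G} {H : Subgroup G} (h : cj g H ≤ H) :
    g ∈ normalizer (H : Set G) :=
  mem_normalizer_of_cj (eq_of_le_of_card_ge h (card_cj g H).ge)

/-- A finite version of the normalizer criterion. -/
theorem le_normalizer_of_conj [Finite G] {H K : Subgroup G} (h : ∀ g ∈ K, ∀ x ∈ H, g * x * g⁻¹ ∈ H) :
    K ≤ normalizer (H : Set G) := fun g hg =>
  mem_normalizer_of_cj_le (by rintro _ ⟨x, hx, rfl⟩; exact h g hg x hx)

theorem conj_mem {H : Subgroup G} {g x : G} (hg : g ∈ normalizer (H : Set G)) (hx : x ∈ H) :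
    g * x * g⁻¹ ∈ H := (mem_normalizer_iff.1 hg x).1 hx

theorem pCoreOf_cj (p : ℕ) (g : G) (H : Subgroup G) :
    Cfsg.pCoreOf p (cj g H) = cj g (Cfsg.pCoreOf p H) :=
  Cfsg.Lib.Amalgam.pCoreOf_map_conj p H g

theorem normalizer_le_pCoreOf (p : ℕ) (H : Subgroup G) :
    normalizer (H : Set G) ≤ normalizer (Cfsg.pCoreOf p H : Set G) := fun g hg => by
  refine mem_normalizer_of_cj ?_
  rw [← pCoreOf_cj, cj_eq_self hg]

theorem pCoreOf_le {p : ℕ} (H : Subgroup G) : Cfsg.pCoreOf p H ≤ H := map_subtype_le _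

theorem isPGroup_pCoreOf [Finite G] {p : ℕ} (H : Subgroup G) : IsPGroup p (Cfsg.pCoreOf p H) :=
  (Cfsg.Lib.Components.isPGroup_pCore p).map _

theorem le_pCoreOf [Finite G] {p : ℕ} {H A : Subgroup G} (hA : IsPGroup p A) (hAH : A ≤ H)
    (hn : H ≤ normalizer (A : Set G)) : A ≤ Cfsg.pCoreOf p H := by
  haveI : (A.subgroupOf H).Normal := normal_subgroupOf_of_le_normalizer hn
  rw [← map_subgroupOf_eq_of_le hAH]
  exact Subgroup.map_mono (Cfsg.Lib.Components.le_pCore (hA.of_equiv (subgroupOfEquivOfLe hAH).symm))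

theorem le_pCoreOf_of_subnormal [Finite G] {p : ℕ} {H A : Subgroup G} (hA : IsPGroup p A) (hAH : A ≤ H)
    (hsn : (A.subgroupOf H).IsSubnormal) : A ≤ Cfsg.pCoreOf p H := by
  rw [← map_subgroupOf_eq_of_le hAH]
  exact Subgroup.map_mono
    (Cfsg.Lib.Components.le_pCore_of_subnormal hsn (hA.of_equiv (subgroupOfEquivOfLe hAH).symm))

/-! ### odd and 2-power orders -/

theorem eq_one_of_odd {P : Subgroup G} (hP : IsPGroup 2 P) {x : G} (hx : x ∈ P) (ho : Odd (orderOf x)) :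
    x = 1 := by
  obtain ⟨k, hk⟩ := hP ⟨x, hx⟩
  have hk' : x ^ 2 ^ k = 1 := congrArg Subtype.val hk
  refine orderOf_eq_one_iff.1 (Nat.eq_one_of_dvd_coprimes (ho.coprime_two_right.pow_right k) dvd_rfl
    (orderOf_dvd_of_pow_eq_one hk'))

theorem exists_odd_pow [Finite G] (y : G) : ∃ s : ℕ, Odd (orderOf (y ^ 2 ^ s)) := by
  obtain ⟨a, b, hb, hab⟩ := Nat.exists_eq_two_pow_mul_odd (orderOf_pos y).ne'
  refine ⟨a, ?_⟩
  rw [orderOf_pow, hab, Nat.gcd_mul_right_left, Nat.mul_div_cancel_left _ (pow_pos two_pos a)]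
  exact hb

theorem mem_of_odd_of_pow_mem {N : Subgroup G} {g : G} (ho : Odd (orderOf g)) {k : ℕ} (h : g ^ 2 ^ k ∈ N) :
    g ∈ N := by
  obtain ⟨m, hm⟩ := exists_pow_eq_self_of_coprime (x := g) (n := 2 ^ k) (ho.coprime_two_left.pow_left k)
  exact hm ▸ pow_mem h m

/-- A normal subgroup of 2-power index contains the elements of odd order. -/
theorem mem_of_two_power_index {N X : Subgroup G} (hNX : X ≤ normalizer (N : Set G))
    (hidx : ∃ k, N.relIndex X = 2 ^ k) {g : G} (hg : g ∈ X) (ho : Odd (orderOf g)) : g ∈ N := by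
  obtain ⟨k, hk⟩ := hidx
  haveI : (N.subgroupOf X).Normal := normal_subgroupOf_of_le_normalizer hNX
  have h := Subgroup.pow_index_mem (N.subgroupOf X) ⟨g, hg⟩
  rw [mem_subgroupOf] at h
  refine mem_of_odd_of_pow_mem ho (k := k) ?_
  rw [← hk]
  exact h

/-- A normal subgroup with 2-group complement has 2-power index. -/
theorem relIndex_sup_two_pow [Finite G] {N Q : Subgroup G} (hQ : IsPGroup 2 Q) :
    Q ≤ normalizer (N : Set G) → ∃ k, N.relIndex (N ⊔ Q) = 2 ^ k := by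
  intro h
  haveI : Fact (Nat.Prime 2) := ⟨Nat.prime_two⟩
  have h1 : N.relIndex (N ⊔ Q) = N.relIndex Q := by
    haveI : (N.subgroupOf (N ⊔ Q)).Normal :=
      normal_subgroupOf_of_le_normalizer (sup_le le_normalizer h)
    set Y := N ⊔ Q
    haveI := ‹(N.subgroupOf Y).Normal›
    have := Subgroup.relIndex_sup_right (H := Q.subgroupOf Y) (K := N.subgroupOf Y)
    rw [← subgroupOf_sup le_sup_right le_sup_left, sup_comm, subgroupOf_self, relIndex_top_right,
      relIndex_subgroupOf le_sup_right] at this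
    exact this
  obtain ⟨n, hn⟩ := IsPGroup.iff_card.1 hQ
  obtain ⟨k, -, hk⟩ := (Nat.dvd_prime_pow Nat.prime_two).1 (hn ▸ relIndex_dvd_card N Q)
  exact ⟨k, h1.trans hk⟩

/-- The subgroup generated by the elements of odd order. -/
def oddGen (X : Subgroup G) : Subgroup G := closure {g : G | g ∈ X ∧ Odd (orderOf g)}

theorem oddGen_le (X : Subgroup G) : oddGen X ≤ X := (closure_le X).2 fun _ h => h.1

theorem mem_oddGen {X : Subgroup G} {g : G} (hg : g ∈ X) (ho : Odd (orderOf g)) : g ∈ oddGen X :=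
  subset_closure ⟨hg, ho⟩

theorem oddGen_idem (X : Subgroup G) : oddGen (oddGen X) = oddGen X := by
  refine le_antisymm (oddGen_le _) ((closure_le _).2 fun g hg => mem_oddGen (mem_oddGen hg.1 hg.2) hg.2)

theorem oddGen_mono {X Y : Subgroup G} (h : X ≤ Y) : oddGen X ≤ oddGen Y :=
  closure_mono fun _ hg => ⟨h hg.1, hg.2⟩

theorem cj_oddGen (g : G) (X : Subgroup G) : cj g (oddGen X) = oddGen (cj g X) := by
  rw [oddGen, oddGen, cj, MonoidHom.map_closure]
  congr 1
  ext y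
  simp only [Set.mem_image, Set.mem_ofPred_eq, MulEquiv.coe_toMonoidHom]
  constructor
  · rintro ⟨x, ⟨hx, ho⟩, rfl⟩
    exact ⟨conj_mem_cj hx, by rw [MulEquiv.orderOf_eq]; exact ho⟩
  · rintro ⟨hy, ho⟩
    obtain ⟨x, hx, rfl⟩ := hy
    exact ⟨x, ⟨hx, by rw [MulEquiv.coe_toMonoidHom, MulEquiv.orderOf_eq] at ho; exact ho⟩, rfl⟩

theorem normalizer_le_oddGen (X : Subgroup G) :
    normalizer (X : Set G) ≤ normalizer (oddGen X : Set G) := fun g hg => by
  refine mem_normalizer_of_cj ?_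
  rw [cj_oddGen, cj_eq_self hg]

/-! ### elementary abelian 2-subgroups -/

theorem elem_of_sq {A : Subgroup G} (h : ∀ a ∈ A, a * a = 1) : Cfsg.IsElementaryAbelian 2 A := by
  refine ⟨⟨⟨fun a b => Subtype.ext ?_⟩⟩, fun a ha => by rw [pow_two]; exact h a ha⟩
  show (a : G) * b = b * a
  have hi : ∀ u ∈ A, u⁻¹ = u := fun u hu => inv_eq_of_mul_eq_one_right (h u hu)
  calc (a : G) * b = ((a : G) * b)⁻¹ := (hi _ (mul_mem a.2 b.2)).symm
    _ = b * a := by rw [mul_inv_rev, hi _ a.2, hi _ b.2]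

theorem elem_sq {A : Subgroup G} (hA : Cfsg.IsElementaryAbelian 2 A) {a : G} (ha : a ∈ A) : a * a = 1 := by
  rw [← pow_two]; exact hA.2 a ha

theorem elem_inv {A : Subgroup G} (hA : Cfsg.IsElementaryAbelian 2 A) {a : G} (ha : a ∈ A) : a⁻¹ = a :=
  inv_eq_of_mul_eq_one_right (elem_sq hA ha)

theorem elem_comm {A : Subgroup G} (hA : Cfsg.IsElementaryAbelian 2 A) {a b : G} (ha : a ∈ A) (hb : b ∈ A) :
    a * b = b * a :=
  Cfsg.Lib.ElemToolkit.comm_of hA.1 ha hb

theorem elem_isPGroup {A : Subgroup G} (hA : Cfsg.IsElementaryAbelian 2 A) : IsPGroup 2 A := fun a =>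
  ⟨1, Subtype.ext (by simpa using hA.2 a a.2)⟩

theorem elem_cj {A : Subgroup G} (hA : Cfsg.IsElementaryAbelian 2 A) (g : G) :
    Cfsg.IsElementaryAbelian 2 (cj g A) := by
  refine elem_of_sq ?_
  rintro _ ⟨a, ha, rfl⟩
  rw [← map_mul, elem_sq hA ha, map_one]

theorem mem_omegaCenterOf {X : Subgroup G} {x : G} :
    x ∈ Cfsg.omegaCenterOf X ↔ x ∈ X ∧ (∀ y ∈ X, y * x = x * y) ∧ x * x = 1 := by
  constructor
  · intro hx
    unfold Cfsg.omegaCenterOf Cfsg.omegaOne at hx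
    induction hx using closure_induction with
    | mem y hy =>
      exact ⟨(mem_inf.1 hy.1).1, mem_centralizer_iff.1 (mem_inf.1 hy.1).2, by rw [← pow_two]; exact hy.2⟩
    | one => exact ⟨one_mem _, fun y _ => by simp, one_mul 1⟩
    | mul u v _ _ hu hv =>
      refine ⟨mul_mem hu.1 hv.1, fun y hy => ?_, ?_⟩
      · rw [← mul_assoc, hu.2.1 y hy, mul_assoc, hv.2.1 y hy, mul_assoc]
      · have h := hv.2.1 u hu.1
        rw [mul_assoc, ← mul_assoc v u v, ← h, mul_assoc u v v, hv.2.2, mul_one, hu.2.2]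
    | inv u _ hu => rw [inv_eq_of_mul_eq_one_right hu.2.2]; exact hu
  · rintro ⟨h1, h2, h3⟩
    exact subset_closure ⟨mem_inf.2 ⟨h1, mem_centralizer_iff.2 h2⟩, by rw [pow_two]; exact h3⟩

theorem omegaCenterOf_le (X : Subgroup G) : Cfsg.omegaCenterOf X ≤ X := fun _ h => (mem_omegaCenterOf.1 h).1

theorem elem_omegaCenterOf (X : Subgroup G) : Cfsg.IsElementaryAbelian 2 (Cfsg.omegaCenterOf X) :=
  elem_of_sq fun _ h => (mem_omegaCenterOf.1 h).2.2

theorem omegaCenterOf_cj (g : G) (X : Subgroup G) :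
    Cfsg.omegaCenterOf (cj g X) = cj g (Cfsg.omegaCenterOf X) := by
  ext x
  rw [mem_cj, mem_omegaCenterOf, mem_omegaCenterOf, mem_cj]
  refine and_congr Iff.rfl (and_congr ⟨fun h y hy => ?_, fun h y hy => ?_⟩ ⟨fun h => ?_, fun h => ?_⟩)
  · have := h (g * y * g⁻¹) (conj_mem_cj hy)
    calc y * (g⁻¹ * x * g) = g⁻¹ * (g * y * g⁻¹ * x) * g := by group
      _ = g⁻¹ * (x * (g * y * g⁻¹)) * g := by rw [this]
      _ = g⁻¹ * x * g * y := by group
  · have := h _ (mem_cj.1 hy)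
    calc y * x = g * ((g⁻¹ * y * g) * (g⁻¹ * x * g)) * g⁻¹ := by group
      _ = g * ((g⁻¹ * x * g) * (g⁻¹ * y * g)) * g⁻¹ := by rw [this]
      _ = x * y := by group
  · calc g⁻¹ * x * g * (g⁻¹ * x * g) = g⁻¹ * (x * x) * g := by group
      _ = 1 := by rw [h]; group
  · calc x * x = g * ((g⁻¹ * x * g) * (g⁻¹ * x * g)) * g⁻¹ := by group
      _ = 1 := by rw [h]; group

theorem normalizer_le_omegaCenterOf (X : Subgroup G) :
    normalizer (X : Set G) ≤ normalizer (Cfsg.omegaCenterOf X : Set G) := fun g hg => by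
  refine mem_normalizer_of_cj ?_
  rw [← omegaCenterOf_cj, cj_eq_self hg]

theorem wOf_cj (g : G) (K : Subgroup G) : Cfsg.wOf (cj g K) = cj g (Cfsg.wOf K) := by
  rw [Cfsg.wOf, Cfsg.wOf, pCoreOf_cj, omegaCenterOf_cj, cj, cj, cj, map_commutator]

theorem normalizer_le_wOf (K : Subgroup G) :
    normalizer (K : Set G) ≤ normalizer (Cfsg.wOf K : Set G) := fun g hg => by
  refine mem_normalizer_of_cj ?_
  rw [← wOf_cj, cj_eq_self hg]

/-! ### the Thompson subgroup -/

/-- `A` is an elementary abelian 2-subgroup of largest order of `T`. -/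
abbrev MaxE (T A : Subgroup G) : Prop := Cfsg.Lib.Thompson.IsMaxElem 2 T A

/-- The Thompson subgroup for the prime 2. -/
abbrev Jof (T : Subgroup G) : Subgroup G := Cfsg.thompsonSubgroupOf 2 T

theorem jof_eq (T : Subgroup G) : Jof T = sSup {A | MaxE T A} := Cfsg.Lib.Thompson.thompsonSubgroupOf_eq T

theorem maxE_le_jof {T A : Subgroup G} (hA : MaxE T A) : A ≤ Jof T := by
  rw [jof_eq]; exact le_sSup hA

theorem jof_le (T : Subgroup G) : Jof T ≤ T := map_subtype_le _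

theorem jof_le_iff {T X : Subgroup G} : Jof T ≤ X ↔ ∀ A, MaxE T A → A ≤ X := by
  rw [jof_eq]; exact sSup_le_iff

theorem jof_cj (g : G) (T : Subgroup G) : Jof (cj g T) = cj g (Jof T) :=
  (Cfsg.Lib.Thompson.map_thompsonSubgroupOf (f := (MulAut.conj g).toMonoidHom)
    (MulAut.conj g).injective.injOn).symm

/-- If `T` has an elementary abelian subgroup contained in `S` and no larger one lives in `S`, the
largest ones of `T` inside `S` are largest in `S`. -/
theorem maxE_of_rank {T S A : Subgroup G} (hA : MaxE T A) (hAS : A ≤ S)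
    (hr : ∀ B, B ≤ S → Cfsg.IsElementaryAbelian 2 B → Nat.card B ≤ Nat.card A) : MaxE S A :=
  ⟨hAS, hA.2.1, hr⟩

theorem rank_of_jof_eq [Finite G] {T S : Subgroup G} (h : Jof S = Jof T) {A : Subgroup G} (hA : MaxE T A) :
    MaxE S A := by
  refine maxE_of_rank hA ((maxE_le_jof hA).trans (h ▸ jof_le S)) fun B hB hBe => ?_
  obtain ⟨A', hA'⟩ := Cfsg.Lib.Thompson.exists_isMaxElem (p := 2) S
  exact (hA'.2.2 B hB hBe).trans (hA.2.2 A' ((maxE_le_jof hA').trans (h ▸ jof_le T)) hA'.2.1)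

theorem jof_le_jof [Finite G] {T S A : Subgroup G} (hA : MaxE T A) (hJS : Jof T ≤ S)
    (hr : ∀ B, B ≤ S → Cfsg.IsElementaryAbelian 2 B → Nat.card B ≤ Nat.card A) : Jof T ≤ Jof S :=
  jof_le_iff.2 fun A' hA' => maxE_le_jof (maxE_of_rank hA' ((maxE_le_jof hA').trans hJS)
    fun B hB hBe => (hr B hB hBe).trans (hA'.2.2 A hA.1 hA.2.1))

theorem jof_eq_of_between [Finite G] {T R : Subgroup G} (h1 : Jof T ≤ R) (h2 : R ≤ T) : Jof R = Jof T := by
  obtain ⟨A, hA⟩ := Cfsg.Lib.Thompson.exists_isMaxElem (p := 2) T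
  have hr : ∀ B, B ≤ R → Cfsg.IsElementaryAbelian 2 B → Nat.card B ≤ Nat.card A :=
    fun B hB hBe => hA.2.2 B (hB.trans h2) hBe
  refine le_antisymm (jof_le_iff.2 fun B hB => maxE_le_jof ⟨hB.1.trans h2, hB.2.1, fun D hD hDe => ?_⟩)
    (jof_le_jof hA h1 hr)
  exact (hA.2.2 D hD hDe).trans (hB.2.2 A ((maxE_le_jof hA).trans h1) hA.2.1)

/-! ### Sylow 2-subgroups of a subgroup -/

variable [Finite G]

theorem card_odd_two {P : Subgroup G} (hP : IsPGroup 2 P) {n : ℕ} (h : n ∣ Nat.card P) (ho : Odd n) : n = 1 := by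
  haveI : Fact (Nat.Prime 2) := ⟨Nat.prime_two⟩
  obtain ⟨k, hk⟩ := IsPGroup.iff_card.1 hP
  exact Nat.eq_one_of_dvd_coprimes (ho.coprime_two_right.pow_right k) dvd_rfl (hk ▸ h)

theorem sylowIn_eq_of_le {T L R : Subgroup G} (hT : Cfsg.IsSylowTwoIn T L) (hTR : T ≤ R) (hRL : R ≤ L)
    (hR : IsPGroup 2 R) : R = T := by
  refine le_antisymm (relIndex_eq_one.1 (card_odd_two hR (relIndex_dvd_card T R) ?_)) hTR
  exact Odd.of_dvd_nat hT.2.2 (by rw [← relIndex_mul_relIndex T R L hTR hRL]; exact dvd_mul_right _ _)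

theorem sylowIn_normal_le {T L P : Subgroup G} (hT : Cfsg.IsSylowTwoIn T L) (hP : IsPGroup 2 P) (hPL : P ≤ L)
    (hn : L ≤ normalizer (P : Set G)) : P ≤ T := by
  rw [← sylowIn_eq_of_le hT (le_sup_left : T ≤ T ⊔ P) (sup_le hT.1 hPL)
    (hT.2.1.to_sup_of_normal_right' hP (hT.1.trans hn))]
  exact le_sup_right

theorem exists_conj_le {T L P : Subgroup G} (hT : Cfsg.IsSylowTwoIn T L) (hPL : P ≤ L) (hP : IsPGroup 2 P) :
    ∃ l ∈ L, P ≤ cj l T := by
  haveI : Fact (Nat.Prime 2) := ⟨Nat.prime_two⟩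
  have hnd : ¬ 2 ∣ (T.subgroupOf L).index := fun h => by
    have := hT.2.2
    rw [Nat.odd_iff] at this
    change 2 ∣ T.relIndex L at h
    omega
  let Ts : Sylow 2 ↥L := (hT.2.1.of_equiv (subgroupOfEquivOfLe hT.1).symm).toSylow hnd
  obtain ⟨Q, hQ⟩ := (hP.of_equiv (subgroupOfEquivOfLe hPL).symm).exists_le_sylow
  obtain ⟨l, hl⟩ := MulAction.exists_smul_eq ↥L Ts Q
  refine ⟨l, l.2, fun x hx => ?_⟩
  have h2 : (⟨x, hPL hx⟩ : L) ∈ (Q : Subgroup L) := hQ hx
  rw [← hl, Sylow.coe_subgroup_smul] at h2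
  obtain ⟨t, ht, hte⟩ := h2
  exact ⟨t, ht, congrArg Subtype.val hte⟩

theorem exists_sylowIn {H P : Subgroup G} (hPH : P ≤ H) (hP : IsPGroup 2 P) :
    ∃ S, P ≤ S ∧ Cfsg.IsSylowTwoIn S H := by
  haveI : Fact (Nat.Prime 2) := ⟨Nat.prime_two⟩
  obtain ⟨Q, hQ⟩ := (hP.of_equiv (subgroupOfEquivOfLe hPH).symm).exists_le_sylow
  refine ⟨(Q : Subgroup H).map H.subtype, fun x hx => ⟨⟨x, hPH hx⟩, hQ hx, rfl⟩, map_subtype_le _,
    Q.isPGroup'.map _, ?_⟩
  rw [Subgroup.relIndex, subgroupOf, comap_map_eq_self_of_injective H.subtype_injective, ← Nat.not_even_iff_odd,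
    even_iff_two_dvd]
  exact Q.not_dvd_index

theorem sylowIn_cj {T L : Subgroup G} (hT : Cfsg.IsSylowTwoIn T L) (g : G) :
    Cfsg.IsSylowTwoIn (cj g T) (cj g L) :=
  ⟨map_mono hT.1, hT.2.1.map _, by
    rw [cj, cj, relIndex_map_map_of_injective _ _ (MulAut.conj g).injective]; exact hT.2.2⟩

theorem sylowIn_inf {T L N : Subgroup G} (hT : Cfsg.IsSylowTwoIn T L) (hNL : N ≤ L)
    (hn : L ≤ normalizer (N : Set G)) : Cfsg.IsSylowTwoIn (T ⊓ N) N := by
  refine ⟨inf_le_right, hT.2.1.to_le inf_le_left, ?_⟩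
  rw [← Nat.not_even_iff_odd, even_iff_two_dvd]
  refine Cfsg.Lib.LBalTwo.inf_relIndex_odd hNL hn hT.1 ?_
  rw [← even_iff_two_dvd, Nat.not_even_iff_odd]
  exact hT.2.2

/-- The Frattini argument for a normal subgroup `N` and the Thompson subgroup. -/
theorem frattini_jof {T L N : Subgroup G} (hT : Cfsg.IsSylowTwoIn T L) (hNL : N ≤ L)
    (hn : L ≤ normalizer (N : Set G)) (hJ : Jof T ≤ N) :
    ∀ l ∈ L, ∃ g ∈ N, ∃ n ∈ L ⊓ normalizer (Jof T : Set G), l = g * n := by
  intro l hl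
  have hR := sylowIn_inf hT hNL hn
  have hJR : Jof (T ⊓ N) = Jof T := jof_eq_of_between (le_inf (jof_le T) hJ) inf_le_left
  have h2 : cj l (T ⊓ N) ≤ N := by
    rintro _ ⟨x, hx, rfl⟩
    exact conj_mem (hn hl) (mem_inf.1 hx).2
  obtain ⟨g, hg, hle⟩ := exists_conj_le hR h2 (hR.2.1.map _)
  have he : cj l (T ⊓ N) = cj g (T ⊓ N) := eq_of_le_of_card_ge hle (by rw [card_cj, card_cj])
  refine ⟨g, hg, g⁻¹ * l, mem_inf.2 ⟨mul_mem (inv_mem (hNL hg)) hl, mem_normalizer_of_cj ?_⟩, by group⟩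
  rw [← hJR, ← jof_cj, ← cj_cj, he, cj_inv_cj]

/-! ### the commutation map of an element of order 3 -/

/-- `v ↦ [x, v]` on a group of exponent 2. -/
def dl (x v : G) : G := x * v * x⁻¹ * v

/-- An element of order dividing 3 normalizing an elementary abelian 2-group. -/
structure Mover (Z : Subgroup G) (x : G) : Prop where
  elem : Cfsg.IsElementaryAbelian 2 Z
  norm : x ∈ normalizer (Z : Set G)
  cube : x ^ 3 = 1

/-- The image of `dl`. -/
def dlR (x : G) (Z : Subgroup G) : Subgroup G := closure {r | ∃ v ∈ Z, dl x v = r}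

namespace Mover

variable {Z : Subgroup G} {x : G}

theorem dl_mem (h : Mover Z x) {v : G} (hv : v ∈ Z) : dl x v ∈ Z := mul_mem (conj_mem h.norm hv) hv

theorem dl_mul (h : Mover Z x) {u v : G} (hu : u ∈ Z) (hv : v ∈ Z) : dl x (u * v) = dl x u * dl x v := by
  have hc := elem_comm h.elem (conj_mem h.norm hv) hu
  calc dl x (u * v) = x * u * x⁻¹ * (x * v * x⁻¹ * u) * v := by simp only [dl]; group
    _ = x * u * x⁻¹ * (u * (x * v * x⁻¹)) * v := by rw [hc]
    _ = _ := by simp only [dl]; group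

theorem mem_dlR (h : Mover Z x) {r : G} : r ∈ dlR x Z ↔ ∃ v ∈ Z, dl x v = r := by
  refine ⟨fun hr => ?_, fun hr => subset_closure hr⟩
  unfold dlR at hr
  induction hr using closure_induction with
  | mem y hy => exact hy
  | one => exact ⟨1, one_mem _, by simp [dl]⟩
  | mul a b _ _ ha hb =>
    obtain ⟨u, hu, rfl⟩ := ha
    obtain ⟨v, hv, rfl⟩ := hb
    exact ⟨u * v, mul_mem hu hv, h.dl_mul hu hv⟩
  | inv a _ ha =>
    obtain ⟨u, hu, rfl⟩ := ha
    exact ⟨u, hu, (elem_inv h.elem (h.dl_mem hu)).symm⟩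

theorem dlR_le (h : Mover Z x) : dlR x Z ≤ Z := fun r hr => by
  obtain ⟨v, hv, rfl⟩ := h.mem_dlR.1 hr
  exact h.dl_mem hv

theorem conj3 (h : Mover Z x) (v : G) : x * (x * (x * v * x⁻¹) * x⁻¹) * x⁻¹ = v := by
  calc x * (x * (x * v * x⁻¹) * x⁻¹) * x⁻¹ = x ^ 3 * v * (x ^ 3)⁻¹ := by
        simp only [pow_succ, pow_zero]; group
    _ = v := by rw [h.cube]; group

theorem conj_dl (x v : G) : x * dl x v * x⁻¹ = dl x (x * v * x⁻¹) := by simp only [dl]; group

theorem conj_mem_dlR (h : Mover Z x) {r : G} (hr : r ∈ dlR x Z) : x * r * x⁻¹ ∈ dlR x Z := by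
  obtain ⟨v, hv, rfl⟩ := h.mem_dlR.1 hr
  exact h.mem_dlR.2 ⟨_, conj_mem h.norm hv, (conj_dl x v).symm⟩

/-- In `dlR x Z` the three translates of an element multiply to one. -/
theorem sum_eq_one (h : Mover Z x) {r : G} (hr : r ∈ dlR x Z) :
    r * (x * r * x⁻¹) * (x * (x * r * x⁻¹) * x⁻¹) = 1 := by
  obtain ⟨v, hv, rfl⟩ := h.mem_dlR.1 hr
  set a := x * v * x⁻¹ with ha
  set b := x * a * x⁻¹ with hb
  have hc : x * b * x⁻¹ = v := h.conj3 v
  have e1 : x * dl x v * x⁻¹ = b * a := by rw [conj_dl, dl, hb, ha]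
  have e2 : x * (x * dl x v * x⁻¹) * x⁻¹ = v * b := by
    rw [e1, show x * (b * a) * x⁻¹ = (x * b * x⁻¹) * (x * a * x⁻¹) by group, hc, ← hb]
  have haZ : a ∈ Z := conj_mem h.norm hv
  have hbZ : b ∈ Z := conj_mem h.norm haZ
  rw [e2, e1, show dl x v = a * v from rfl]
  calc a * v * (b * a) * (v * b) = a * v * (b * a) * (b * v) := by rw [elem_comm h.elem hv hbZ]
    _ = a * v * b * ((a * b) * v) := by group
    _ = a * v * b * ((b * a) * v) := by rw [elem_comm h.elem haZ hbZ]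
    _ = a * v * (b * b) * (a * v) := by group
    _ = 1 := by rw [elem_sq h.elem hbZ, mul_one, elem_sq h.elem (mul_mem haZ hv)]

theorem fix_eq_one (h : Mover Z x) {r : G} (hr : r ∈ dlR x Z) (hf : x * r * x⁻¹ = r) : r = 1 := by
  have := h.sum_eq_one hr
  rwa [hf, hf, elem_sq h.elem (h.dlR_le hr), one_mul] at this

/-- `dl x` maps its image onto itself. -/
theorem dl_conj_self (h : Mover Z x) {r : G} (hr : r ∈ dlR x Z) : dl x (x * r * x⁻¹) = r := by
  have h1 := h.sum_eq_one hr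
  set a := x * r * x⁻¹ with ha
  set b := x * a * x⁻¹ with hb
  show b * a = r
  have hrZ := h.dlR_le hr
  have haZ : a ∈ Z := conj_mem h.norm hrZ
  have hbZ : b ∈ Z := conj_mem h.norm haZ
  calc b * a = a * b := elem_comm h.elem hbZ haZ
    _ = r * r * (a * b) := by rw [elem_sq h.elem hrZ, one_mul]
    _ = r * (r * a * b) := by group
    _ = r := by rw [h1, mul_one]

theorem dlR_idem (h : Mover Z x) {r : G} (hr : r ∈ dlR x Z) : r ∈ dlR x (dlR x Z) :=
  subset_closure ⟨_, h.conj_mem_dlR hr, h.dl_conj_self hr⟩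

/-- Every element is a fixed element times one in the image. -/
theorem split (h : Mover Z x) {v : G} (hv : v ∈ Z) :
    ∃ c ∈ Z, ∃ r ∈ dlR x Z, x * c * x⁻¹ = c ∧ v = c * r := by
  set a := x * v * x⁻¹ with ha
  set b := x * a * x⁻¹ with hb
  have haZ : a ∈ Z := conj_mem h.norm hv
  have hbZ : b ∈ Z := conj_mem h.norm haZ
  refine ⟨v * a * b, mul_mem (mul_mem hv haZ) hbZ, dl x a, h.mem_dlR.2 ⟨a, haZ, rfl⟩, ?_, ?_⟩
  · rw [show x * (v * a * b) * x⁻¹ = a * b * (x * b * x⁻¹) by rw [hb, ha]; group, hb, ha, h.conj3 v,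
      ← ha, ← hb]
    rw [mul_assoc v a b, elem_comm h.elem (mul_mem haZ hbZ) hv]
  · show v = v * a * b * (b * a)
    calc v = v * (a * (b * b) * a) := by rw [elem_sq h.elem hbZ, mul_one, elem_sq h.elem haZ, mul_one]
      _ = _ := by group

/-- An invariant subgroup of the image is trivial or has at least four elements. -/
theorem four_le (h : Mover Z x) {U : Subgroup G} (hU : U ≤ dlR x Z)
    (hinv : ∀ u ∈ U, x * u * x⁻¹ ∈ U) {u : G} (hu : u ∈ U) (hu1 : u ≠ 1) : 4 ≤ Nat.card U := by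
  classical
  set a := x * u * x⁻¹ with ha
  set b := x * a * x⁻¹ with hb
  have haU : a ∈ U := hinv u hu
  have hbU : b ∈ U := hinv a haU
  have hc : x * b * x⁻¹ = u := h.conj3 u
  have hua : u ≠ a := fun e => hu1 (h.fix_eq_one (hU hu) (ha.symm.trans e.symm))
  have hab : a ≠ b := fun e => hua (by
    have := e
    rw [hb, ha] at this
    exact mul_left_cancel (mul_right_cancel this))
  have hub : u ≠ b := fun e => hua (by
    calc u = x * b * x⁻¹ := hc.symm
      _ = x * u * x⁻¹ := by rw [← e]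
      _ = a := ha.symm)
  have ha1 : a ≠ 1 := fun e => hu1 (by
    calc u = x⁻¹ * a * x := by rw [ha]; group
      _ = 1 := by rw [e]; group)
  have hb1 : b ≠ 1 := fun e => ha1 (by
    calc a = x⁻¹ * b * x := by rw [hb]; group
      _ = 1 := by rw [e]; group)
  have hs : ({⟨1, one_mem U⟩, ⟨u, hu⟩, ⟨a, haU⟩, ⟨b, hbU⟩} : Finset U).card = 4 := by
    simp [Subtype.ext_iff, hu1.symm, ha1.symm, hb1.symm, hua, hab, hub]
  rw [← hs]
  letI := Fintype.ofFinite U
  rw [Nat.card_eq_fintype_card]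
  exact Finset.card_le_univ _

/-- A nontrivial invariant subgroup of a four-element image is everything. -/
theorem irred (h : Mover Z x) (hcard : Nat.card (dlR x Z) ≤ 4) {U : Subgroup G} (hU : U ≤ dlR x Z)
    (hinv : ∀ u ∈ U, x * u * x⁻¹ ∈ U) {u : G} (hu : u ∈ U) (hu1 : u ≠ 1) : U = dlR x Z :=
  eq_of_le_of_card_ge hU (hcard.trans (h.four_le hU hinv hu hu1))

end Mover

end Cfsg.Lib.JComp
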