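import Cfsg.Agent.JComp.Center
import Cfsg.Agent.FFModule.Model
import Cfsg.Agent.Blocks.ItoDegrees
import Cfsg.Agent.S0612
import Cfsg.Agent.S0617

/-!
The failure of factorization in a member of `jOvergroups T`: the involutions of the members of largest order,
each paired with an element of order 3 it inverts.
-/

set_option autoImplicit false
set_option linter.unusedSectionVars false
set_option linter.style.haveILetI false

namespace Cfsg.Lib.JComp

open Subgroup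
open scoped commutatorElement

universe u

variable {G : Type u} [Group G]

/-- The 2-core of `L`. -/
abbrev Pc (L : Subgroup G) : Subgroup G := Cfsg.pCoreOf 2 L

/-- `Ω₁Z` of the 2-core. -/
abbrev Vm (L : Subgroup G) : Subgroup G := Cfsg.omegaCenterOf (Pc L)

/-- The kernel of `L` on `Ω₁Z` of its 2-core. -/
abbrev Cv (L : Subgroup G) : Subgroup G := L ⊓ centralizer (Vm L : Set G)

/-- What is used of a member of `jOvergroups T`. -/
structure Setting (T L : Subgroup G) : Prop where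
  syl : Cfsg.IsSylowTwoIn T L
  nle : ¬ Jof T ≤ Pc L
  cen : centralizer (Pc L : Set G) ≤ Pc L
  solv : Group.IsSolvable L
  cnorm : Cv L ≤ normalizer (T : Set G)

variable [Finite G]

theorem setting_of (hN : ∀ N : Subgroup G, Cfsg.IsTwoLocal N → Group.IsSolvable ↥N)
    (hZ : ∀ S : Sylow 2 G, centralizer (Cfsg.omegaCenterOf (S : Subgroup G) : Set G) ≤
      normalizer ((S : Subgroup G) : Set G))
    {T L : Subgroup G} (hT1 : T ≠ ⊥) (hLT : L ∈ Cfsg.jOvergroups T) : Setting T L := by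
  obtain ⟨hs, hnle, hcen⟩ := hLT
  have hPn : L ≤ normalizer (Pc L : Set G) := le_normalizer_pCoreOf L
  refine ⟨hs, hnle, hcen, ?_, ?_⟩
  · have hP1 : Pc L ≠ ⊥ := fun e => hT1 (eq_bot_iff.2 fun t _ => by
      have : t ∈ centralizer (Pc L : Set G) := mem_centralizer_iff.2 fun p hp => by
        change p ∈ Pc L at hp
        rw [e, mem_bot] at hp; simp [hp]
      simpa [e] using hcen this)
    haveI := hN _ ⟨Pc L, isPGroup_pCoreOf L, hP1, rfl⟩
    exact Cfsg.Lib.Coprime.isSolvable_of_le hPn inferInstance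
  · obtain ⟨S, hTS⟩ := hs.2.1.exists_le_sylow
    have hPT : Pc L ≤ T := sylowIn_normal_le hs (isPGroup_pCoreOf L) (pCoreOf_le L) hPn
    have hZV : Cfsg.omegaCenterOf (S : Subgroup G) ≤ Vm L := by
      intro z hz
      obtain ⟨-, hzc, hz2⟩ := mem_omegaCenterOf.1 hz
      have hzP : z ∈ Pc L := hcen (mem_centralizer_iff.2 fun p hp => hzc p (hTS (hPT hp)))
      exact mem_omegaCenterOf.2 ⟨hzP, fun p hp => hzc p (hTS (hPT hp)), hz2⟩
    intro g hg
    obtain ⟨hgL, hgc⟩ := mem_inf.1 hg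
    have hgS := hZ S (centralizer_le hZV hgc)
    refine mem_normalizer_of_cj_le ?_
    have heq : T = (S : Subgroup G) ⊓ L :=
      (sylowIn_eq_of_le hs (le_inf hTS hs.1) inf_le_right (S.isPGroup'.to_le inf_le_left)).symm
    conv_rhs => rw [heq]
    rintro _ ⟨t, ht, rfl⟩
    exact mem_inf.2 ⟨conj_mem hgS (hTS ht), mul_mem (mul_mem hgL (hs.1 ht)) (inv_mem hgL)⟩

/-- The normal subgroup generated in `L` by `J`. -/
def N0 (T L : Subgroup G) : Subgroup G := closure {g : G | ∃ l ∈ L, ∃ j ∈ Jof T, l * j * l⁻¹ = g}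

/-- An involution of `J` and an element of order 3 of `L` it inverts, acting on a four-subgroup of `V`. -/
structure Atom (T L : Subgroup G) (x a : G) : Prop where
  xL : x ∈ L
  x3 : x ^ 3 = 1
  xC : x ∉ Cv L
  aJ : a ∈ Jof T
  a2 : a * a = 1
  ax : a * x * a = x⁻¹
  norm : N0 T L ≤ normalizer ((zpowers x ⊔ Cv L : Subgroup G) : Set G)
  card : Nat.card (dlR x (Vm L)) ≤ 4
  brk : ∀ v ∈ Vm L, a * v * a * v ∈ dlR x (Vm L)

namespace Setting

variable {T L : Subgroup G}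

theorem P_norm (_ : Setting T L) : L ≤ normalizer (Pc L : Set G) := le_normalizer_pCoreOf L

theorem P_le_T (h : Setting T L) : Pc L ≤ T := sylowIn_normal_le h.syl (isPGroup_pCoreOf L) (pCoreOf_le L) h.P_norm

theorem V_norm (h : Setting T L) : L ≤ normalizer (Vm L : Set G) :=
  h.P_norm.trans (normalizer_le_omegaCenterOf _)

theorem P_le_C (_ : Setting T L) : Pc L ≤ Cv L := le_inf (pCoreOf_le L) fun _ hp =>
  mem_centralizer_iff.2 fun _ hv => ((mem_omegaCenterOf.1 hv).2.1 _ hp).symm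

theorem C_norm (h : Setting T L) : L ≤ normalizer (Cv L : Set G) := by
  refine le_normalizer_of_conj fun g hg c hc => ?_
  obtain ⟨hcL, hcc⟩ := mem_inf.1 hc
  refine mem_inf.2 ⟨mul_mem (mul_mem hg hcL) (inv_mem hg), mem_centralizer_iff.2 fun v hv => ?_⟩
  have hv' := conj_mem (inv_mem (h.V_norm hg)) hv
  have := mem_centralizer_iff.1 hcc _ hv'
  calc v * (g * c * g⁻¹) = g * ((g⁻¹ * v * g⁻¹⁻¹) * c) * g⁻¹ := by group
    _ = g * (c * (g⁻¹ * v * g⁻¹⁻¹)) * g⁻¹ := by rw [this]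
    _ = _ := by group

theorem two_le_P (h : Setting T L) {R : Subgroup G} (hR : IsPGroup 2 R) (hRC : R ≤ Cv L) : R ≤ Pc L := by
  have hS := sylowIn_inf h.syl (inf_le_left : Cv L ≤ L) h.C_norm
  have hn : Cv L ≤ normalizer ((T ⊓ Cv L : Subgroup G) : Set G) :=
    Cfsg.Lib.Coprime.le_normalizer_inf h.cnorm le_normalizer
  have huniq : ∀ Q : Subgroup G, IsPGroup 2 Q → Q ≤ Cv L → Q ≤ T ⊓ Cv L := fun Q hQ hQC =>
    sylowIn_normal_le' hS hQ hQC hn
  have hLn : L ≤ normalizer ((T ⊓ Cv L : Subgroup G) : Set G) := fun l hl =>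
    mem_normalizer_of_cj_le (huniq _ (hS.2.1.map _) (by
      rintro _ ⟨y, hy, rfl⟩
      exact conj_mem (h.C_norm hl) (mem_inf.1 hy).2))
  exact (huniq R hR hRC).trans (le_pCoreOf hS.2.1 (inf_le_right.trans inf_le_left) hLn)
where
  sylowIn_normal_le' {S C Q : Subgroup G} (hS : Cfsg.IsSylowTwoIn S C) (hQ : IsPGroup 2 Q) (hQC : Q ≤ C)
      (hn : C ≤ normalizer (S : Set G)) : Q ≤ S := by
    rw [← sylowIn_eq_of_le hS (le_sup_left : S ≤ S ⊔ Q) (sup_le hS.1 hQC)
      (hS.2.1.to_sup_of_normal_left' hQ (hQC.trans hn))]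
    exact le_sup_right

theorem mem_P_of_sq (h : Setting T L) {c : G} (hc : c ∈ Cv L) (h2 : c * c ∈ Pc L) : c ∈ Pc L := by
  refine h.two_le_P ?_ (zpowers_le.2 hc) (mem_zpowers c)
  obtain ⟨k, hk⟩ := isPGroup_pCoreOf L ⟨c * c, h2⟩
  have hk' : (c * c) ^ 2 ^ k = 1 := congrArg Subtype.val hk
  obtain ⟨m, -, hm⟩ := (Nat.dvd_prime_pow Nat.prime_two).1
    (orderOf_dvd_of_pow_eq_one (show c ^ 2 ^ (k + 1) = 1 by rw [pow_succ', pow_mul, pow_two]; exact hk'))
  exact IsPGroup.of_card (n := m) (by rw [Nat.card_zpowers, hm])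

theorem J_le_L (h : Setting T L) : Jof T ≤ L := (jof_le T).trans h.syl.1

theorem N0_le (h : Setting T L) : N0 T L ≤ L := (closure_le L).2 (by
  rintro _ ⟨l, hl, j, hj, rfl⟩
  exact mul_mem (mul_mem hl (h.J_le_L hj)) (inv_mem hl))

theorem J_le_N0 (_ : Setting T L) : Jof T ≤ N0 T L := fun j hj =>
  subset_closure ⟨1, one_mem _, j, hj, by simp⟩

theorem N0_norm (_ : Setting T L) : L ≤ normalizer (N0 T L : Set G) := by
  refine le_normalizer_of_conj fun g hg x hx => ?_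
  unfold N0 at hx ⊢
  induction hx using closure_induction with
  | mem y hy =>
    obtain ⟨l, hl, j, hj, rfl⟩ := hy
    exact subset_closure ⟨g * l, mul_mem hg hl, j, hj, by group⟩
  | one => simp
  | mul a b _ _ ha hb =>
    rw [show g * (a * b) * g⁻¹ = g * a * g⁻¹ * (g * b * g⁻¹) by group]
    exact mul_mem ha hb
  | inv a _ ha =>
    rw [show g * a⁻¹ * g⁻¹ = (g * a * g⁻¹)⁻¹ by group]
    exact inv_mem ha

theorem comm_N0 (h : Setting T L) {c g : G} (hc : c ∈ Cv L) (hg : g ∈ N0 T L) : ⁅c, g⁆ ∈ Pc L := by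
  suffices hall : ∀ c ∈ Cv L, ⁅c, g⁆ ∈ Pc L from hall c hc
  clear hc c
  unfold N0 at hg
  induction hg using closure_induction with
  | mem y hy =>
    obtain ⟨l, hl, j, hj, rfl⟩ := hy
    intro c hc
    have hc' := conj_mem (inv_mem (h.C_norm hl)) hc
    set c' := l⁻¹ * c * l⁻¹⁻¹ with hc'def
    rw [show ⁅c, l * j * l⁻¹⁆ = l * ⁅c', j⁆ * l⁻¹ by rw [hc'def]; simp only [commutatorElement_def]; group]
    refine conj_mem (h.P_norm hl) (h.two_le_P (R := T ⊓ Cv L) (h.syl.2.1.to_le inf_le_left) inf_le_right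
      (mem_inf.2 ⟨?_, ?_⟩))
    · rw [commutatorElement_def]
      exact mul_mem (conj_mem (h.cnorm hc') (jof_le T hj)) (inv_mem (jof_le T hj))
    · rw [commutatorElement_def, mul_assoc, mul_assoc]
      exact mul_mem hc' (by simpa [mul_assoc] using conj_mem (h.C_norm (h.J_le_L hj)) (inv_mem hc'))
  | one => intro c _; rw [commutatorElement_one_right]; exact one_mem _
  | mul a b ha hb iha ihb =>
    intro c hc
    rw [show ⁅c, a * b⁆ = ⁅c, a⁆ * (a * ⁅c, b⁆ * a⁻¹) by simp only [commutatorElement_def]; group]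
    exact mul_mem (iha c hc) (conj_mem (h.P_norm (h.N0_le ha)) (ihb c hc))
  | inv a ha iha =>
    intro c hc
    rw [show ⁅c, a⁻¹⁆ = a⁻¹ * ⁅c, a⁆⁻¹ * a⁻¹⁻¹ by simp only [commutatorElement_def]; group]
    exact conj_mem (inv_mem (h.P_norm (h.N0_le ha))) (inv_mem (iha c hc))

theorem mover (h : Setting T L) {x : G} (hx : x ∈ L) (hx3 : x ^ 3 = 1) : Mover (Vm L) x :=
  ⟨elem_omegaCenterOf _, h.V_norm hx, hx3⟩

theorem mem_Cv_iff {g : G} (hg : g ∈ L) :
    g ∈ Cv L ↔ ∀ v ∈ Vm L, g * v * g⁻¹ = v := by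
  rw [mem_inf, mem_centralizer_iff]
  refine ⟨fun hc v hv => mul_inv_eq_iff_eq_mul.2 (hc.2 v hv).symm, fun hc => ⟨hg, fun v hv => ?_⟩⟩
  exact (mul_inv_eq_iff_eq_mul.1 (hc v hv)).symm

end Setting

theorem best_of_max {X : Type u} [Group X] [Finite X] {V A : Subgroup X} (hV : Cfsg.IsElementaryAbelian 2 V)
    (hA : Cfsg.IsElementaryAbelian 2 A)
    (hmax : ∀ B, B ≤ A ⊔ V → Cfsg.IsElementaryAbelian 2 B → Nat.card B ≤ Nat.card A) :
    Cfsg.IsBestOffenderOn 2 V A := by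
  refine ⟨fun B hB => ?_, commutator_le.2 fun a ha b hb => ?_, fun a ha => by rw [hA.2 a ha]; exact one_mem _⟩
  · set C := V ⊓ centralizer (B : Set X)
    have hel := Cfsg.Lib.ElemToolkit.elementary_sup (Cfsg.Lib.ElemToolkit.elementary_mono hB hA)
      (Cfsg.Lib.ElemToolkit.elementary_mono (inf_le_left : C ≤ V) hV)
      fun b hb c hc => mem_centralizer_iff.1 hc.2 b hb
    have hle : B ⊓ C ≤ V ⊓ centralizer (A : Set X) := fun y hy =>
      mem_inf.2 ⟨(mem_inf.1 (mem_inf.1 hy).2).1, mem_centralizer_iff.2 fun a ha =>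
        elem_comm hA ha (hB (mem_inf.1 hy).1)⟩
    exact (Cfsg.Lib.ElemToolkit.mul_card_le B C).trans
      (Nat.mul_le_mul (hmax _ (sup_le_sup hB inf_le_left) hel) (Cfsg.Lib.ElemToolkit.card_le_card_of_le hle))
  · rw [commutatorElement_eq_one_iff_mul_comm.2 (elem_comm hA ha hb)]
    exact one_mem _

theorem sl_facts : ∀ t : Matrix.SpecialLinearGroup (Fin 2) (ZMod 2), t * t = 1 → t ≠ 1 →
    ∃ d, d ≠ 1 ∧ d * d * d = 1 ∧ t * d * t = d⁻¹ ∧ ∀ g, g * g * g = 1 → g = 1 ∨ g = d ∨ g = d⁻¹ := by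
  decide

theorem Setting.centralizer_V {T L : Subgroup G} (_ : Setting T L) :
    centralizer (((Vm L).subgroupOf L : Subgroup L) : Set L) = (Cv L).subgroupOf L := by
  have hVL : Vm L ≤ L := (omegaCenterOf_le _).trans (pCoreOf_le L)
  ext g
  rw [mem_subgroupOf, mem_inf, mem_centralizer_iff, mem_centralizer_iff]
  constructor
  · exact fun hc => ⟨g.2, fun v hv => congrArg Subtype.val (hc ⟨v, hVL hv⟩ (mem_subgroupOf.2 hv))⟩
  · exact fun hc v hv => Subtype.ext (hc.2 v (mem_subgroupOf.1 hv))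

theorem Setting.pCore_quot {T L : Subgroup G} (h : Setting T L) [((Vm L).subgroupOf L).Normal] :
    Cfsg.pCore 2 (L ⧸ centralizer (((Vm L).subgroupOf L : Subgroup L) : Set L)) = ⊥ := by
  haveI : Fact (Nat.Prime 2) := ⟨Nat.prime_two⟩
  set V' : Subgroup L := (Vm L).subgroupOf L with hV'
  have hcV : centralizer (V' : Set L) = (Cv L).subgroupOf L := h.centralizer_V
  set π := QuotientGroup.mk' (centralizer (V' : Set L))
  haveI := Cfsg.Lib.Components.pCore_normal' (G := L ⧸ centralizer (V' : Set L)) 2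
  set N' := (Cfsg.pCore 2 (L ⧸ centralizer (V' : Set L))).comap π with hN'
  haveI : N'.Normal := Normal.comap inferInstance _
  set Ng := N'.map L.subtype with hNg
  have hNgL : Ng ≤ L := map_subtype_le _
  have hLn : L ≤ normalizer (Ng : Set G) := by
    refine le_normalizer_of_conj fun g hg y hy => ?_
    obtain ⟨n, hn, rfl⟩ := hy
    exact ⟨_, Normal.conj_mem inferInstance n hn ⟨g, hg⟩, rfl⟩
  have hCN : Cv L ≤ Ng := fun c hc => by
    refine ⟨⟨c, (mem_inf.1 hc).1⟩, ?_, rfl⟩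
    have hc' : (⟨c, (mem_inf.1 hc).1⟩ : L) ∈ centralizer (V' : Set L) := by rw [hcV]; exact hc
    show π ⟨c, _⟩ ∈ Cfsg.pCore 2 (L ⧸ centralizer (V' : Set L))
    rw [show π ⟨c, _⟩ = 1 from (QuotientGroup.eq_one_iff _).2 hc']
    exact one_mem _
  have hS := sylowIn_inf h.syl hNgL hLn
  set Tn := T ⊓ Ng
  -- `Ng = C Tn`
  have hpow : ∀ y ∈ Ng, ∃ k : ℕ, y ^ 2 ^ k ∈ Cv L := by
    rintro _ ⟨n, hn, rfl⟩
    obtain ⟨k, hk⟩ := Cfsg.Lib.Components.isPGroup_pCore (G := L ⧸ centralizer (V' : Set L)) 2 ⟨π n, hn⟩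
    refine ⟨k, ?_⟩
    have hk' : π (n ^ 2 ^ k) = 1 := by rw [map_pow]; exact congrArg Subtype.val hk
    rw [QuotientGroup.mk'_apply, QuotientGroup.eq_one_iff, hcV, mem_subgroupOf] at hk'
    simpa using hk'
  have hCTn : Cv L ≤ normalizer (Tn : Set G) :=
    Cfsg.Lib.Coprime.le_normalizer_inf h.cnorm ((inf_le_left.trans hLn))
  have hle : Ng ≤ Cv L ⊔ Tn := by
    have hTnC : Tn ≤ normalizer (Cv L : Set G) := (inf_le_left.trans h.syl.1).trans h.C_norm
    haveI : ((Cv L).subgroupOf Ng).Normal := normal_subgroupOf_of_le_normalizer (hNgL.trans h.C_norm)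
    have hq : IsPGroup 2 (↥Ng ⧸ (Cv L).subgroupOf Ng) := by
      intro q
      induction q using QuotientGroup.induction_on with
      | _ y =>
        obtain ⟨k, hk⟩ := hpow y y.2
        exact ⟨k, by rw [← QuotientGroup.mk_pow, QuotientGroup.eq_one_iff, mem_subgroupOf]; simpa using hk⟩
    obtain ⟨n, hn⟩ := IsPGroup.iff_card.1 hq
    refine relIndex_eq_one.1 ?_
    have h1 : (Cv L ⊔ Tn).relIndex Ng ∣ 2 ^ n := by
      rw [← hn]
      exact relIndex_dvd_of_le_left Ng le_sup_left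
    have h2 : Odd ((Cv L ⊔ Tn).relIndex Ng) :=
      Odd.of_dvd_nat hS.2.2 (relIndex_dvd_of_le_left Ng le_sup_right)
    exact Nat.eq_one_of_dvd_coprimes (h2.coprime_two_right.pow_right n) dvd_rfl h1
  have hNn : Ng ≤ normalizer (Tn : Set G) := hle.trans (sup_le hCTn le_normalizer)
  have hLTn : L ≤ normalizer (Tn : Set G) := fun l hl => mem_normalizer_of_cj_le
    (Setting.two_le_P.sylowIn_normal_le' hS (hS.2.1.map _) (by
      rintro _ ⟨y, hy, rfl⟩
      exact conj_mem (hLn hl) (mem_inf.1 hy).2) hNn)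
  have hTnC : Tn ≤ Cv L :=
    (le_pCoreOf hS.2.1 (inf_le_left.trans h.syl.1) hLTn).trans h.P_le_C
  rw [eq_bot_iff]
  intro q hq
  obtain ⟨n, rfl⟩ := QuotientGroup.mk'_surjective _ q
  rw [mem_bot, QuotientGroup.mk'_apply, QuotientGroup.eq_one_iff, hcV]
  exact (hle.trans (sup_le le_rfl hTnC)) ⟨n, hq, rfl⟩

set_option maxHeartbeats 800000 in
open Cfsg.Lib.FF in
theorem Setting.exists_atoms {T L : Subgroup G} (h : Setting T L) {A : Subgroup G} (hA : MaxE T A) :
    A ≤ closure {a : G | a ∈ A ∧ ∃ x, Atom T L x a} ⊔ (A ⊓ Cv L) := by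
  classical
  haveI : Fact (Nat.Prime 2) := ⟨Nat.prime_two⟩
  set V' : Subgroup L := (Vm L).subgroupOf L with hV'
  haveI hV'n : V'.Normal := normal_subgroupOf_of_le_normalizer h.V_norm
  have hVL : Vm L ≤ L := (omegaCenterOf_le _).trans (pCoreOf_le L)
  have hVe : Cfsg.IsElementaryAbelian 2 V' :=
    elem_of_sq fun v hv => Subtype.ext (elem_sq (elem_omegaCenterOf _) (mem_subgroupOf.1 hv))
  have hcV : centralizer (V' : Set L) = (Cv L).subgroupOf L := h.centralizer_V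
  have hO : Cfsg.pCore 2 (L ⧸ centralizer (V' : Set L)) = ⊥ := h.pCore_quot
  haveI := h.solv
  have hsep : Cfsg.IsPSolvable 2 L := Cfsg.Lib.Blocks.isPSolvable_of_solvable inferInstance
  set J' := (Jof T).subgroupOf L with hJ'
  set N := normalClosure (J' : Set L) with hNdef
  haveI : N.Normal := normalClosure_normal
  have hs := setup_model V' hsep hVe hO N
  set r := rho V' with hr
  set H := N.map r with hH
  have hker : r.ker = (Cv L).subgroupOf L := by rw [hr, ker_rho, hcV]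
  -- offenders
  have hmax : ∀ A, MaxE T A → ∀ g : L, Cfsg.IsBestOffenderOn 2 V' (cj g (A.subgroupOf L)) := by
    intro A hA g
    have hAe : Cfsg.IsElementaryAbelian 2 (A.subgroupOf L) :=
      elem_of_sq fun a ha => Subtype.ext (elem_sq hA.2.1 (mem_subgroupOf.1 ha))
    refine best_of_max hVe (elem_cj hAe g) fun B hB hBe => ?_
    rw [card_cj, Nat.card_congr (subgroupOfEquivOfLe (hA.1.trans h.syl.1)).toEquiv]
    set B' := (cj g⁻¹ B).map L.subtype
    have hcardB : Nat.card B' = Nat.card B := by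
      rw [card_map_of_injective L.subtype_injective, card_cj]
    rw [← hcardB]
    refine hA.2.2 B' ?_ (elem_of_sq ?_)
    · rintro _ ⟨y, hy, rfl⟩
      have h2 : y ∈ A.subgroupOf L ⊔ V' := by
        have h3 : cj g⁻¹ B ≤ cj g⁻¹ (cj g (A.subgroupOf L) ⊔ V') := map_mono hB
        rw [show cj g⁻¹ (cj g (A.subgroupOf L) ⊔ V') = cj g⁻¹ (cj g (A.subgroupOf L)) ⊔ cj g⁻¹ V' from
          Subgroup.map_sup _ _ _, cj_inv_cj, cj_eq_self (H := V') (g := g⁻¹)
          (by rw [normalizer_eq_top_iff.2 hV'n]; exact mem_top _)] at h3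
        exact h3 hy
      have h4 : A.subgroupOf L ⊔ V' ≤ T.subgroupOf L :=
        sup_le (comap_mono hA.1) (comap_mono ((omegaCenterOf_le _).trans h.P_le_T))
      exact h4 h2
    · rintro _ ⟨y, hy, rfl⟩
      rw [← map_mul, elem_sq (elem_cj hBe _) hy, map_one]
  have hAN : ∀ A, MaxE T A → ∀ g : L, cj g (A.subgroupOf L) ≤ N := by
    intro A hA g
    rintro _ ⟨a, ha, rfl⟩
    exact Normal.conj_mem inferInstance a
      (le_normalClosure (show a ∈ J' from maxE_le_jof hA (mem_subgroupOf.1 ha))) g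
  have hS3 : H = ⨆ B : {B : Subgroup (Amb V') // B ≤ H ∧ Cfsg.IsBestOffenderOn 2 (vx V') B},
      (B : Subgroup (Amb V')) := by
    refine le_antisymm ?_ (iSup_le fun B => B.2.1)
    rw [hH, map_le_iff_le_comap]
    set U := (⨆ B : {B : Subgroup (Amb V') // B ≤ H ∧ Cfsg.IsBestOffenderOn 2 (vx V') B},
      (B : Subgroup (Amb V'))).comap r
    refine (closure_le U).2 ?_
    intro y hy
    obtain ⟨j, hj, hjy⟩ := Group.mem_conjugatesOfSet_iff.1 hy
    obtain ⟨g, rfl⟩ := isConj_iff.1 hjy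
    have hle : Jof T ≤ ((U.comap (MulAut.conj g).toMonoidHom).map L.subtype) :=
      jof_le_iff.2 fun A hA a ha => by
        refine ⟨⟨a, hA.1.trans h.syl.1 ha⟩, ?_, rfl⟩
        refine mem_comap.2 (mem_comap.2 ?_)
        exact mem_iSup_of_mem ⟨(cj g (A.subgroupOf L)).map r, map_mono (hAN A hA g),
          best_map V' (hmax A hA g)⟩ (mem_map_of_mem r (show _ ∈ cj g (A.subgroupOf L) from
            ⟨⟨a, hA.1.trans h.syl.1 ha⟩, mem_subgroupOf.2 ha, rfl⟩))
    obtain ⟨j', hj', he⟩ := hle (mem_subgroupOf.1 hj)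
    rw [show j' = j from Subtype.ext he] at hj'
    exact hj'
  have hH1 : H ≠ ⊥ := fun e => h.nle fun j hj => by
    have hj' : (⟨j, h.J_le_L hj⟩ : L) ∈ r.ker := by
      rw [MonoidHom.mem_ker, ← mem_bot, ← e]
      exact ⟨_, le_normalClosure (mem_subgroupOf.2 hj), rfl⟩
    rw [hker, mem_subgroupOf] at hj'
    exact h.two_le_P (R := T ⊓ Cv L) (h.syl.2.1.to_le inf_le_left) inf_le_right
      (mem_inf.2 ⟨jof_le T hj, hj'⟩)
  have hfaith : H ⊓ centralizer (vx V' : Set (Amb V')) = ⊥ := by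
    rw [eq_bot_iff]
    rintro x ⟨hx, hxc⟩
    exact mem_bot.2 (hs.faith x hx fun v hv => (mem_centralizer_iff.1 hxc v hv).symm)
  have hS1 : centralizer (Cfsg.pPrimeCore 2 ↥H : Set ↥H) ≤ Cfsg.pPrimeCore 2 ↥H := by
    intro y hy
    obtain ⟨q, hq, he⟩ := hs.self y y.2 fun q hq => by
      obtain ⟨q₀, hq₀, rfl⟩ := hq
      exact congrArg Subtype.val (mem_centralizer_iff.1 hy q₀ hq₀)
    exact Subtype.ext he ▸ hq
  obtain ⟨-, hfam, -, hsup, -, -⟩ := Cfsg.Agent.S0617.result (vx V') H hs.elem hs.norm hfaith hS1 hS3 hH1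
  -- the image of `A`
  set A' := A.subgroupOf L with hA'
  have hA'0 := hmax A hA 1
  have hA'N := hAN A hA 1
  rw [cj_one] at hA'0 hA'N
  set Ab := A'.map r with hAb
  set S := closure {a : G | a ∈ A ∧ ∃ x, Atom T L x a} ⊔ (A ⊓ Cv L) with hSdef
  have hSA : S ≤ A := sup_le ((closure_le A).2 fun a ha => ha.1) inf_le_left
  suffices himg : Ab ≤ (S.subgroupOf L).map r by
    intro a ha
    obtain ⟨s, hs', he⟩ := himg ⟨⟨a, hA.1.trans h.syl.1 ha⟩, mem_subgroupOf.2 ha, rfl⟩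
    have hsa : (s : G)⁻¹ * a ∈ A ⊓ Cv L := by
      refine mem_inf.2 ⟨mul_mem (inv_mem (hSA (mem_subgroupOf.1 hs'))) ha, ?_⟩
      have h7 : s⁻¹ * ⟨a, hA.1.trans h.syl.1 ha⟩ ∈ r.ker := by
        rw [MonoidHom.mem_ker, map_mul, map_inv, he, inv_mul_cancel]
      rw [hker, mem_subgroupOf] at h7
      simpa using h7
    have := mul_mem (mem_subgroupOf.1 hs' : (s : G) ∈ S) ((le_sup_right : A ⊓ Cv L ≤ S) hsa)
    rwa [mul_inv_cancel_left] at this
  by_cases hAb1 : Ab = ⊥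
  · rw [hAb1]; exact bot_le
  obtain ⟨k, Bi, hBi, -, hBsup⟩ := Cfsg.Agent.S0612.result (vx V') H hs.elem hs.norm hfaith hS1 hS3 hH1 Ab
    (map_mono hA'N) (best_map V' hA'0) hAb1
  rw [← hBsup]
  refine iSup_le fun i b hb => ?_
  obtain ⟨hBA, hBbest, hBne, hBmin⟩ := hBi i
  obtain ⟨⟨a, haL⟩, ha', rfl⟩ := hBA hb
  have haA : a ∈ A := mem_subgroupOf.1 ha'
  by_cases hb1 : r ⟨a, haL⟩ = 1
  · rw [hb1]; exact one_mem _
  set aL : L := ⟨a, haL⟩ with haLdef
  set E0 : Subgroup (Amb V') := ⁅((Cfsg.pPrimeCore 2 ↥H).map H.subtype), Bi i⁆ ⊔ Bi i with hE0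
  set EE : {E : Subgroup (Amb V') // ∃ A : Subgroup (Amb V'), A ≤ H ∧ Cfsg.IsBestOffenderOn 2 (vx V') A ∧
      ⁅vx V', A⁆ ≠ ⊥ ∧ (∀ B : Subgroup (Amb V'), B ≤ A → Cfsg.IsBestOffenderOn 2 (vx V') B →
      ⁅vx V', B⁆ ≠ ⊥ → B = A) ∧ E = ⁅((Cfsg.pPrimeCore 2 ↥H).map H.subtype), A⁆ ⊔ A} :=
    ⟨E0, Bi i, hBA.trans (map_mono hA'N), hBbest, hBne, hBmin, rfl⟩ with hEE
  obtain ⟨hEn, ⟨e⟩, hW4⟩ := hfam EE
  have hEH : E0 ≤ H := (le_iSup_of_le EE le_rfl).trans hsup.le
  have hbE : r aL ∈ E0 := mem_sup_right hb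
  have ha2 : a * a = 1 := elem_sq hA.2.1 haA
  have hb2 : r aL * r aL = 1 := by
    rw [← map_mul, show aL * aL = 1 from Subtype.ext ha2, map_one]
  obtain ⟨d0, hd1, hd3, htd, hdg⟩ := sl_facts (e ⟨r aL, hbE⟩) (by
    rw [← map_mul, show (⟨r aL, hbE⟩ : ↥E0) * ⟨r aL, hbE⟩ = 1 from Subtype.ext hb2, map_one])
    (fun he => hb1 (congrArg Subtype.val (e.injective (he.trans (map_one e).symm))))
  set dE : ↥E0 := e.symm d0 with hdE
  have hed : e dE = d0 := e.apply_symm_apply d0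
  set d := (dE : Amb V') with hd
  have hdcube : d ^ 3 = 1 := by
    have : dE * dE * dE = 1 := e.injective (by rw [map_mul, map_mul, hed, hd3, map_one])
    rw [pow_succ, pow_two]
    exact congrArg Subtype.val this
  have hdne : d ≠ 1 := fun he => hd1 (by rw [← hed, show dE = 1 from Subtype.ext he, map_one])
  have htd' : r aL * d * r aL = d⁻¹ := by
    have : (⟨r aL, hbE⟩ : ↥E0) * dE * ⟨r aL, hbE⟩ = dE⁻¹ :=
      e.injective (by rw [map_mul, map_mul, map_inv, hed]; exact htd)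
    exact congrArg Subtype.val this
  have hcube : ∀ g ∈ E0, g ^ 3 = 1 → g = 1 ∨ g = d ∨ g = d⁻¹ := by
    intro g hg hg3
    have h8 : (⟨g, hg⟩ : ↥E0) * ⟨g, hg⟩ * ⟨g, hg⟩ = 1 :=
      Subtype.ext (by show g * g * g = 1; rw [← pow_two, ← pow_succ]; exact hg3)
    rcases hdg (e ⟨g, hg⟩) (by rw [← map_mul, ← map_mul, h8, map_one]) with h9 | h9 | h9
    · exact Or.inl (congrArg Subtype.val (e.injective (h9.trans (map_one e).symm)))
    · exact Or.inr (Or.inl (congrArg Subtype.val (e.injective (h9.trans hed.symm))))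
    · exact Or.inr (Or.inr (congrArg Subtype.val
        (e.injective (h9.trans (by rw [map_inv, hed] : d0⁻¹ = e dE⁻¹)))))
  -- lift
  obtain ⟨kL, -, hkd⟩ := hEH dE.2
  set yL := ⁅kL, aL⁆ with hyL
  have hrainv : (r aL)⁻¹ = r aL := inv_eq_of_mul_eq_one_right hb2
  have hry : r yL = d * d := by
    rw [hyL, map_commutatorElement, hkd, commutatorElement_def, hrainv]
    calc d * r aL * d⁻¹ * r aL = d * (r aL * d⁻¹ * r aL) := by group
      _ = d * d := by
        congr 1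
        rw [← htd', show r aL * (r aL * d * r aL) * r aL = (r aL * r aL) * d * (r aL * r aL) by group,
          hb2, one_mul, mul_one]
  set y := (yL : G) with hy
  obtain ⟨s, hsodd⟩ := exists_odd_pow y
  set xL := yL ^ 2 ^ s with hxL
  set x := (xL : G) with hx
  have hxodd : Odd (orderOf x) := by rw [hx, hxL, SubmonoidClass.coe_pow]; exact hsodd
  have hai : a⁻¹ = a := inv_eq_of_mul_eq_one_right ha2
  have hay : a * y * a = y⁻¹ := by
    have e1 : y = (kL : G) * a * (kL : G)⁻¹ * a⁻¹ := by rw [hy, hyL, commutatorElement_def]; rfl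
    rw [e1]
    simp only [mul_inv_rev, inv_inv, hai, mul_assoc, ha2, mul_one]
  have hax : a * x * a = x⁻¹ := by
    have h10 : a * y ^ 2 ^ s * a = (a * y * a⁻¹) ^ 2 ^ s := by rw [conj_pow, hai]
    rw [hx, hxL, SubmonoidClass.coe_pow, ← hy, h10, hai, hay, inv_pow]
  have hrx : r xL = (d * d) ^ 2 ^ s := by rw [hxL, map_pow, hry]
  have hrx3 : r xL ^ 3 = 1 := by
    rw [hrx, ← pow_two, ← pow_mul, ← pow_mul, show 2 * (2 ^ s * 3) = 3 * (2 * 2 ^ s) by ring, pow_mul,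
      hdcube, one_pow]
  have hrx1 : r xL ≠ 1 := fun he => hdne (by
    rw [hrx, ← pow_two, ← pow_mul, ← pow_succ'] at he
    have h11 := pow_gcd_eq_one.2 ⟨he, hdcube⟩
    rwa [show Nat.gcd (2 ^ (s + 1)) 3 = 1 from Nat.Coprime.pow_left _ (by decide), pow_one] at h11)
  have hrxE : r xL ∈ E0 := hrx ▸ pow_mem (mul_mem dE.2 dE.2) _
  have hxC : x ∉ Cv L := fun hxC => hrx1 (by
    rw [← MonoidHom.mem_ker, hker]; exact mem_subgroupOf.2 hxC)
  have hx3 : x ^ 3 = 1 := by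
    have hc : x ^ 3 ∈ Cv L := by
      have h12 : xL ^ 3 ∈ r.ker := by rw [MonoidHom.mem_ker, map_pow, hrx3]
      rw [hker, mem_subgroupOf] at h12
      simpa using h12
    have haN : a ∈ N0 T L := h.J_le_N0 (maxE_le_jof hA haA)
    have hcm := h.comm_N0 hc haN
    rw [commutatorElement_def, show x ^ 3 * a * (x ^ 3)⁻¹ * a⁻¹ = x ^ 3 * (a * (x ^ 3)⁻¹ * a⁻¹) by group,
      ← inv_pow, ← conj_pow, hai, show a * x⁻¹ * a = (a⁻¹ * x * a⁻¹)⁻¹ by group, hai, hax, inv_inv] at hcm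
    have h14 := h.mem_P_of_sq hc hcm
    exact eq_one_of_odd (isPGroup_pCoreOf L) h14 (Odd.of_dvd_nat hxodd (orderOf_pow_dvd 3))
  have hM := h.mover xL.2 hx3
  set R := dlR x (Vm L) with hR
  -- transport of the image into the holomorph
  have hinl : ∀ (g : L) (v : G) (hv : v ∈ Vm L),
      ∃ hg : (g : G) * v * (g : G)⁻¹ * v ∈ Vm L,
        (SemidirectProduct.inl (⟨⟨_, hVL hg⟩, mem_subgroupOf.2 hg⟩ : V') : Amb V') =
          ⁅r g, (SemidirectProduct.inl (⟨⟨v, hVL hv⟩, mem_subgroupOf.2 hv⟩ : V') : Amb V')⁆ := by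
    intro g v hv
    refine ⟨mul_mem (conj_mem (h.V_norm g.2) hv) hv, ?_⟩
    rw [commutatorElement_def, hr, rho_conj, ← map_inv, ← map_mul]
    refine congrArg _ (Subtype.ext (Subtype.ext ?_))
    show (g : G) * v * (g : G)⁻¹ * v = (g : G) * v * (g : G)⁻¹ * v⁻¹
    rw [elem_inv (elem_omegaCenterOf _) hv]
  set Wb := ⁅vx V', E0⁆ with hWb
  have hmemW : ∀ g ∈ E0, ∀ v : V', ⁅g, (SemidirectProduct.inl v : Amb V')⁆ ∈ Wb := by
    intro g hg v
    rw [← commutatorElement_inv]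
    exact inv_mem (commutator_mem_commutator ⟨v, rfl⟩ hg)
  let toW : R → Wb := fun u => ⟨SemidirectProduct.inl
      (⟨⟨u.1, hVL (hM.dlR_le u.2)⟩, mem_subgroupOf.2 (hM.dlR_le u.2)⟩ : V'), by
    obtain ⟨v, hv, hdl⟩ := hM.mem_dlR.1 u.2
    obtain ⟨hg, he⟩ := hinl xL v hv
    have h13 : (⟨⟨u.1, hVL (hM.dlR_le u.2)⟩, mem_subgroupOf.2 (hM.dlR_le u.2)⟩ : V') =
        ⟨⟨_, hVL hg⟩, mem_subgroupOf.2 hg⟩ := Subtype.ext (Subtype.ext hdl.symm)
    rw [h13, he]
    exact hmemW _ hrxE _⟩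
  have htoW : Function.Injective toW := fun u u' he => by
    have := SemidirectProduct.inl_injective (congrArg Subtype.val he)
    exact Subtype.ext (congrArg (fun z : V' => ((z : L) : G)) this)
  have hRcard : Nat.card R ≤ 4 := (Nat.card_le_card_of_injective toW htoW).trans hW4.le
  have hR4 : 4 ≤ Nat.card R := by
    obtain ⟨v, hv, hne⟩ : ∃ v ∈ Vm L, dl x v ≠ 1 := by
      by_contra hno
      push Not at hno
      refine hxC ((Setting.mem_Cv_iff xL.2).2 fun v hv => ?_)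
      have := hno v hv
      rw [dl] at this
      rw [mul_eq_one_iff_eq_inv.1 this, elem_inv (elem_omegaCenterOf _) hv]
    exact hM.four_le le_rfl (fun u hu => hM.conj_mem_dlR hu) (hM.mem_dlR.2 ⟨v, hv, rfl⟩) hne
  have htsurj : Function.Surjective toW :=
    (htoW.bijective_of_nat_card_le (hW4.le.trans hR4)).2
  refine ⟨aL, mem_subgroupOf.2 (mem_sup_left (subset_closure ⟨haA, x, ?_⟩)), rfl⟩
  refine ⟨xL.2, hx3, hxC, maxE_le_jof hA haA, ha2, hax, ?_, hRcard, fun v hv => ?_⟩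
  · intro g hg
    have hgL := h.N0_le hg
    have hgN : (⟨g, hgL⟩ : L) ∈ N := by
      have hle : N0 T L ≤ N.map L.subtype := by
        refine (closure_le _).2 ?_
        rintro _ ⟨l, hl, j, hj, rfl⟩
        exact ⟨⟨l, hl⟩ * ⟨j, h.J_le_L hj⟩ * ⟨l, hl⟩⁻¹,
          Normal.conj_mem inferInstance _ (le_normalClosure (mem_subgroupOf.2 hj)) _, rfl⟩
      obtain ⟨n, hn, he⟩ := hle hg
      rwa [show (⟨g, hgL⟩ : L) = n from Subtype.ext he.symm]
    refine mem_normalizer_of_cj_le ?_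
    rw [show cj g (zpowers x ⊔ Cv L) = cj g (zpowers x) ⊔ cj g (Cv L) from Subgroup.map_sup _ _ _,
      cj_eq_self (h.C_norm hgL)]
    refine sup_le ?_ le_sup_right
    rw [cj, MonoidHom.map_zpowers, zpowers_le]
    show g * x * g⁻¹ ∈ zpowers x ⊔ Cv L
    set gL : L := ⟨g, hgL⟩
    have hgx : r (gL * xL * gL⁻¹) ∈ E0 := by
      rw [map_mul, map_mul, map_inv]
      exact conj_mem (hEn ⟨gL, hgN, rfl⟩) hrxE
    have hgx3 : r (gL * xL * gL⁻¹) ^ 3 = 1 := by
      rw [map_mul, map_mul, map_inv, conj_pow, hrx3]; group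
    have hxz : ∀ z : L, r z = r xL → (z : G) ∈ zpowers x ⊔ Cv L := by
      intro z hz
      have h15 : xL⁻¹ * z ∈ r.ker := by rw [MonoidHom.mem_ker, map_mul, map_inv, hz, inv_mul_cancel]
      rw [hker, mem_subgroupOf] at h15
      have h16 : x⁻¹ * (z : G) ∈ Cv L := by simpa using h15
      rw [show (z : G) = x * (x⁻¹ * (z : G)) by group]
      exact mul_mem (mem_sup_left (mem_zpowers x)) (mem_sup_right h16)
    have hxd : r xL = d ∨ r xL = d⁻¹ := (hcube _ hrxE hrx3).resolve_left hrx1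
    rcases hcube _ hgx hgx3 with h17 | h17 | h17
    · refine absurd ?_ hrx1
      rw [map_mul, map_mul, map_inv, mul_inv_eq_one] at h17
      exact mul_eq_left.1 h17
    · rcases hxd with h18 | h18
      · exact hxz _ (h17.trans h18.symm)
      · have := hxz (gL * xL * gL⁻¹)⁻¹ (by rw [map_inv, h17, h18])
        simpa [gL] using inv_mem this
    · rcases hxd with h18 | h18
      · have := hxz (gL * xL * gL⁻¹)⁻¹ (by rw [map_inv, h17, h18, inv_inv])
        simpa [gL] using inv_mem this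
      · exact hxz _ (h17.trans h18.symm)
  · obtain ⟨hg, he⟩ := hinl aL v hv
    obtain ⟨u, hu⟩ := htsurj ⟨SemidirectProduct.inl (⟨⟨_, hVL hg⟩, mem_subgroupOf.2 hg⟩ : V'),
      by rw [he]; exact hmemW _ hbE _⟩
    have h19 := SemidirectProduct.inl_injective (congrArg Subtype.val hu)
    have h20 : (u : G) = a * v * a⁻¹ * v := congrArg (fun z : V' => ((z : L) : G)) h19
    rw [hai] at h20
    rw [← h20]
    exact u.2

end Cfsg.Lib.JComp
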