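import Cfsg.Agent.JComp.Core

/-!
`Ω₁Z(J)` splits over the centre of `⟨K, J⟩` and `W_K`.
-/

set_option autoImplicit false
set_option linter.unusedSectionVars false
set_option linter.style.haveILetI false

namespace Cfsg.Lib.JComp

open Subgroup
open scoped commutatorElement

variable {G : Type*} [Group G] [Finite G] {T K : Subgroup G}

theorem isPGroup_jof (hT : IsPGroup 2 T) : IsPGroup 2 (Jof T) := hT.to_le (jof_le T)

theorem rank_comp (hT : IsPGroup 2 T) (hK : Cfsg.IsJComponent T K) {A : Subgroup G} (hA : MaxE T A)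
    {B : Subgroup G} (hB : B ≤ K ⊔ Jof T) (hBe : Cfsg.IsElementaryAbelian 2 B) :
    Nat.card B ≤ Nat.card A := by
  obtain ⟨S, hJS, hS⟩ := exists_sylowIn (le_sup_right : Jof T ≤ K ⊔ Jof T) (isPGroup_jof hT)
  have hA' := rank_of_jof_eq (hK.2.2.2.1 S hS hJS) hA
  obtain ⟨l, hl, hle⟩ := exists_conj_le hS hB (elem_isPGroup hBe)
  have h2 : cj l⁻¹ B ≤ S := by
    have := Subgroup.map_mono (f := (MulAut.conj l⁻¹).toMonoidHom) hle
    rw [show (cj l S).map (MulAut.conj l⁻¹).toMonoidHom = S from cj_inv_cj l S] at this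
    exact this
  have := hA'.2.2 _ h2 (elem_cj hBe _)
  rwa [card_cj] at this

theorem le_jof_comp (hT : IsPGroup 2 T) (hK : Cfsg.IsJComponent T K) {A : Subgroup G} (hA : MaxE T A)
    {X : Subgroup G} (hX : IsPGroup 2 X) (hJX : Jof T ≤ X) (hXY : X ≤ K ⊔ Jof T) {B : Subgroup G}
    (hB : B ≤ X) (hBe : Cfsg.IsElementaryAbelian 2 B) (hc : Nat.card A ≤ Nat.card B) : B ≤ Jof T := by
  obtain ⟨S, hXS, hS⟩ := exists_sylowIn hXY hX
  have hJS := hK.2.2.2.1 S hS (hJX.trans hXS)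
  change B ≤ Cfsg.thompsonSubgroupOf 2 T
  rw [← hJS]
  exact maxE_le_jof ⟨hB.trans hXS, hBe, fun D hD hDe => (rank_comp hT hK hA (hD.trans hS.1) hDe).trans hc⟩

/-- A 2-subgroup of `⟨K, J⟩` containing `J` normalizes it. -/
theorem le_normalizer_jof_comp (hK : Cfsg.IsJComponent T K) {X : Subgroup G} (hX : IsPGroup 2 X)
    (hJX : Jof T ≤ X) (hXY : X ≤ K ⊔ Jof T) : X ≤ normalizer (Jof T : Set G) := by
  obtain ⟨S, hXS, hS⟩ := exists_sylowIn hXY hX
  have hJS := hK.2.2.2.1 S hS (hJX.trans hXS)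
  refine hXS.trans ?_
  change S ≤ normalizer (Cfsg.thompsonSubgroupOf 2 T : Set G)
  rw [← hJS]
  exact le_normalizer.trans (Cfsg.Lib.Thompson.normalizer_le_normalizer_thompson S)

theorem main_center (hT : IsPGroup 2 T) (hK : Cfsg.IsJComponent T K) :
    Nat.card ↥(Cfsg.omegaCenterOf (Jof T) ⊓ Cfsg.wOf K) = 2 ∧
      (Cfsg.omegaCenterOf (Jof T) ⊓ ((K ⊔ Jof T) ⊓ centralizer ((K ⊔ Jof T) : Set G))) ⊔
        (Cfsg.omegaCenterOf (Jof T) ⊓ Cfsg.wOf K) = Cfsg.omegaCenterOf (Jof T) := by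
  have h := tri_of_comp hK
  set J := Jof T with hJdef
  set O := Cfsg.pCoreOf 2 K with hO
  set W := Cfsg.wOf K with hW
  have hW4 : Nat.card W = 4 := hK.2.2.2.2.1
  have hWe : Cfsg.IsElementaryAbelian 2 W := elem_of_sq hK.2.2.2.2.2
  have hWO : W ≤ O := h.wOf_le_core.trans (omegaCenterOf_le _)
  have hJO : J ≤ normalizer (O : Set G) := h.J_norm.trans (normalizer_le_pCoreOf 2 K)
  have hX : IsPGroup 2 (O ⊔ J : Subgroup G) :=
    (isPGroup_pCoreOf K).to_sup_of_normal_left' (isPGroup_jof hT) hJO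
  have hXY : O ⊔ J ≤ K ⊔ J := sup_le_sup_right (pCoreOf_le K) J
  have hJn : J ≤ normalizer (W : Set G) := h.J_norm.trans (normalizer_le_wOf K)
  -- a subgroup of largest order not centralizing `K` modulo `O`
  obtain ⟨A, hA, a, haA, hna⟩ : ∃ A, MaxE T A ∧ ∃ a ∈ A, a ∉ kCen K := by
    by_contra hno
    push Not at hno
    exact h.not_le_kCen (jof_le_iff.2 hno)
  have hAJ : A ≤ J := maxE_le_jof hA
  have hr : ∀ B, B ≤ K ⊔ J → Cfsg.IsElementaryAbelian 2 B → Nat.card B ≤ Nat.card A :=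
    fun B hB hBe => rank_comp hT hK hA hB hBe
  obtain ⟨-, hidx, hWA0, hWa, hsq⟩ := core h hA.2.1 hAJ hr haA hna
  set Ra := W ⊓ centralizer ({a} : Set G) with hRa
  have hRa2 : Nat.card Ra = 2 := by
    rw [← hW, hW4] at hsq
    have : Nat.card Ra ≤ 2 := by nlinarith
    interval_cases h5 : Nat.card Ra <;> simp_all
  set A0 := A ⊓ kCen K with hA0
  have hcA0W : ∀ b ∈ A0, ∀ w ∈ W, b * w = w * b := fun b hb w hw => mem_centralizer_iff.1 (hWA0 hw) b hb
  have hA0W : Cfsg.IsElementaryAbelian 2 (A0 ⊔ W) :=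
    Cfsg.Lib.ElemToolkit.elementary_sup (Cfsg.Lib.ElemToolkit.elementary_mono inf_le_left hA.2.1) hWe hcA0W
  have hA0Wle : A0 ⊔ W ≤ O ⊔ J :=
    sup_le ((inf_le_left.trans hAJ).trans le_sup_right) (hWO.trans le_sup_left)
  have hcard : Nat.card A ≤ Nat.card ↥(A0 ⊔ W) := by
    have h1 := Cfsg.Lib.ElemToolkit.mul_card_le A0 W
    have h2 : Nat.card ↥(A0 ⊓ W) ≤ 2 := hRa2 ▸ Cfsg.Lib.ElemToolkit.card_le_card_of_le fun y hy =>
      mem_inf.2 ⟨(mem_inf.1 hy).2, mem_centralizer_singleton_iff.2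
        (elem_comm hA.2.1 (mem_inf.1 (mem_inf.1 hy).1).1 haA)⟩
    rw [hW4] at h1
    have h3 : Nat.card A0 * 4 ≤ Nat.card ↥(A0 ⊔ W) * 2 := h1.trans (Nat.mul_le_mul_left _ h2)
    omega
  have hA0WJ : A0 ⊔ W ≤ J := le_jof_comp hT hK hA hX le_sup_right hXY hA0Wle hA0W hcard
  have hWJ : W ≤ J := le_sup_right.trans hA0WJ
  set Z0 := Cfsg.omegaCenterOf J with hZ0
  -- `C_W(J)`
  have hRaJ : Ra ≤ centralizer (J : Set G) := by
    obtain ⟨z, hzW, hz1, hzJ⟩ := exists_fixed (elem_isPGroup hWe) (isPGroup_jof hT) hJn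
      (fun e => by rw [e, card_bot] at hW4; omega)
    have hzRa : z ∈ Ra := mem_inf.2 ⟨hzW, mem_centralizer_singleton_iff.2 (hzJ a (hAJ haA)).symm⟩
    have heq : zpowers z = Ra := eq_of_le_of_card_ge (zpowers_le.2 hzRa) (by
      rw [hRa2, Nat.card_zpowers]
      have h1 : orderOf z ≠ 1 := fun e => hz1 (orderOf_eq_one_iff.1 e)
      have h0 := orderOf_pos z
      omega)
    rw [← heq, zpowers_le]
    exact mem_centralizer_iff.2 hzJ
  have hZW : Z0 ⊓ W = Ra := by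
    refine le_antisymm (fun y hy => ?_) fun y hy => ?_
    · obtain ⟨hy0, hyW⟩ := mem_inf.1 hy
      exact mem_inf.2 ⟨hyW, mem_centralizer_singleton_iff.2 ((mem_omegaCenterOf.1 hy0).2.1 a (hAJ haA)).symm⟩
    · exact mem_inf.2 ⟨mem_omegaCenterOf.2 ⟨hWJ (mem_inf.1 hy).1, mem_centralizer_iff.1 (hRaJ hy),
        elem_sq hWe (mem_inf.1 hy).1⟩, (mem_inf.1 hy).1⟩
  refine ⟨by rw [hZW, hRa2], le_antisymm (sup_le inf_le_left inf_le_left) fun z hz => ?_⟩
  obtain ⟨hzJ, hzc, hz2⟩ := mem_omegaCenterOf.1 hz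
  have hAK : A ≤ normalizer (K : Set G) := hAJ.trans h.J_norm
  have ha2 := elem_sq hA.2.1 haA
  obtain ⟨x, hxK, hx3, hax⟩ := h.exists_inverted (hAK haA) ha2 hna
  have hM := h.mover hxK hx3
  have hReq := h.wOf_eq hxK hx3
  -- elements centralizing a member of largest order lie in it
  have hself : ∀ B, MaxE T B → ∀ u ∈ T, u * u = 1 → (∀ b ∈ B, b * u = u * b) → u ∈ B := by
    intro B hB u hu hu2 hcu
    have hue : Cfsg.IsElementaryAbelian 2 (zpowers u) := elem_of_sq fun v hv => by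
      obtain ⟨n, rfl⟩ := mem_zpowers_iff.1 hv
      rw [← (Commute.refl u).mul_zpow, hu2, one_zpow]
    have hel := Cfsg.Lib.ElemToolkit.elementary_sup hB.2.1 hue fun b hb v hv => by
      obtain ⟨n, rfl⟩ := mem_zpowers_iff.1 hv
      exact ((show Commute b u from hcu b hb).zpow_right n).eq
    rw [eq_of_le_of_card_ge (le_sup_left : B ≤ B ⊔ zpowers u)
      (hB.2.2 _ (sup_le hB.1 (zpowers_le.2 hu)) hel)]
    exact mem_sup_right (mem_zpowers u)
  have hzA : z ∈ A := hself A hA z (jof_le T hzJ) hz2 fun b hb => hzc b (hAJ hb)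
  have hA0Wmax : MaxE T (A0 ⊔ W) :=
    ⟨hA0WJ.trans (jof_le T), hA0W, fun D hD hDe => (hA.2.2 D hD hDe).trans hcard⟩
  -- conjugation of `A0 W` by powers of `x` stays inside `J`
  have hconjJ : ∀ y ∈ K, ∀ u ∈ A0 ⊔ W, y * u * y⁻¹ ∈ J := by
    intro y hy u hu
    have hgen : ∀ u ∈ A0 ⊔ W, y * u * y⁻¹ ∈ O ⊔ J := by
      intro u hu
      rw [sup_comm] at hu
      obtain ⟨b, hb, w, hw, rfl⟩ := (Cfsg.Lib.Coprime.mem_sup_of_le_normalizer'
        (fun b hb => mem_normalizer_iff.2 fun v => ⟨fun hv => by rwa [hcA0W b hb v hv, mul_inv_cancel_right],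
          fun hv => by
            have h1 := hcA0W b hb _ hv
            have h2 : v = b * v * b⁻¹ := by
              calc v = b⁻¹ * (b * v * b⁻¹) * b := by group
                _ = b⁻¹ * (b * (b * v * b⁻¹)) := by rw [mul_assoc, ← h1]
                _ = _ := by group
            rw [h2]; exact hv⟩ : A0 ≤ normalizer (W : Set G))).1 hu
      rw [show y * (b * w) * y⁻¹ = ⁅y, b⁆ * b * (y * w * y⁻¹) by rw [commutatorElement_def]; group]
      refine mul_mem (mul_mem (mem_sup_left ((mem_kCen.1 (mem_inf.1 hb).2).2 y hy))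
        (mem_sup_right (hAJ (mem_inf.1 hb).1))) (mem_sup_left (hWO ?_))
      exact conj_mem (normalizer_le_wOf K (le_normalizer hy)) hw
    refine (le_jof_comp hT hK hA hX le_sup_right hXY (B := cj y (A0 ⊔ W)) ?_ (elem_cj hA0W _)
      (by rw [card_cj]; exact hcard)) (conj_mem_cj hu)
    rintro _ ⟨v, hv, rfl⟩
    exact hgen v hv
  have hzA0 : z ∈ A0 := by
    refine mem_inf.2 ⟨hzA, ?_⟩
    by_contra hzn
    obtain ⟨x', hx'K, hx'3, hzx⟩ := h.exists_inverted (hAK hzA) hz2 hzn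
    have hM' := h.mover hx'K hx'3
    have hWZ := h.wOf_le_core
    obtain ⟨w, hw, hw1⟩ := W.bot_or_exists_ne_one.resolve_left (fun e : W = ⊥ => by rw [e, card_bot] at hW4; omega)
    have hzi : z⁻¹ = z := inv_eq_of_mul_eq_one_right hz2
    have hfix : ∀ v ∈ W, z * v * z⁻¹ = v := fun v hv => by rw [← hzc v (hWJ hv), mul_inv_cancel_right]
    have hWeq' : W = _ := h.wOf_eq hx'K hx'3
    have h1 := hfix (x' * w * x'⁻¹) (hWeq' ▸ hM'.conj_mem_dlR (hWeq' ▸ hw))
    have h2 : z * (x' * w * x'⁻¹) * z⁻¹ = x'⁻¹ * w * x' := by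
      calc z * (x' * w * x'⁻¹) * z⁻¹ = (z * x' * z) * (z⁻¹ * w * z) * (z⁻¹ * x'⁻¹ * z⁻¹) := by group
        _ = _ := by
          rw [show z⁻¹ * x'⁻¹ * z⁻¹ = (z * x' * z)⁻¹ by group, hzx, inv_inv]
          have h3 := hfix w hw
          conv_lhs => rw [hzi]
          rw [hzi] at h3
          rw [h3]
    have h3 : x' * (x' * w * x'⁻¹) * x'⁻¹ = x' * w * x'⁻¹ :=
      calc x' * (x' * w * x'⁻¹) * x'⁻¹ = x'⁻¹ * (x' * (x' * (x' * w * x'⁻¹) * x'⁻¹) * x'⁻¹) * x' := by group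
        _ = x'⁻¹ * w * x' := by rw [hM'.conj3 w]
        _ = _ := h2.symm.trans h1
    exact hw1 (hM'.fix_eq_one (hWeq' ▸ hw) (mul_left_cancel (mul_right_cancel h3)))
  -- the two translates
  have htr : ∀ i : ℕ, x ^ i * z * (x ^ i)⁻¹ ∈ A0 ⊔ W := by
    intro i
    have hxi : x ^ i ∈ K := pow_mem hxK i
    refine hself _ hA0Wmax _ (jof_le T (hconjJ _ hxi z (mem_sup_left hzA0))) (by
      rw [show x ^ i * z * (x ^ i)⁻¹ * (x ^ i * z * (x ^ i)⁻¹) = x ^ i * (z * z) * (x ^ i)⁻¹ by group,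
        hz2]; group) fun u hu => ?_
    have hu' := hconjJ _ (inv_mem hxi) u hu
    have := hzc _ hu'
    calc u * (x ^ i * z * (x ^ i)⁻¹) = x ^ i * ((x ^ i)⁻¹ * u * (x ^ i)⁻¹⁻¹ * z) * (x ^ i)⁻¹ := by group
      _ = x ^ i * (z * ((x ^ i)⁻¹ * u * (x ^ i)⁻¹⁻¹)) * (x ^ i)⁻¹ := by rw [this]
      _ = _ := by group
  set z1 := x * z * x⁻¹ with hz1
  set z2 := x * z1 * x⁻¹ with hz2def
  have hz1m : z1 ∈ A0 ⊔ W := by simpa using htr 1
  have hz2m : z2 ∈ A0 ⊔ W := by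
    have := htr 2
    rwa [show x ^ 2 * z * (x ^ 2)⁻¹ = z2 by rw [hz2def, hz1, pow_two]; group] at this
  have hx3z : x * z2 * x⁻¹ = z := hM.conj3 z
  have hai := elem_inv hA.2.1 haA
  have haz : a * z * a = z := by rw [hzc a (hAJ haA), mul_assoc, ha2, mul_one]
  have haz1 : a * z1 * a = z2 := by
    calc a * z1 * a = (a * x * a) * (a⁻¹ * z * a⁻¹) * (a⁻¹ * x * a⁻¹)⁻¹ := by rw [hz1]; group
      _ = x⁻¹ * z * x := by rw [hai, hax, haz, inv_inv]
      _ = z2 := by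
        conv_lhs => rw [← hx3z]
        group
  have hwW : z1 * z2 ∈ W := by
    have hz1m' := hz1m
    rw [sup_comm] at hz1m'
    obtain ⟨b, hb, w, hw, hbw⟩ := (Cfsg.Lib.Coprime.mem_sup_of_le_normalizer'
      (fun b hb => (inf_le_left.trans hAJ).trans hJn hb : A0 ≤ normalizer (W : Set G))).1 hz1m'
    have hab := elem_comm hA.2.1 haA (mem_inf.1 hb).1
    have hb2 := elem_sq hA.2.1 (mem_inf.1 hb).1
    have e : z1 * z2 = w * (a * w * a⁻¹) := by
      calc z1 * z2 = b * w * (a * b * w * a) := by rw [← haz1, ← hbw]; group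
        _ = b * w * (b * a * w * a) := by rw [hab]
        _ = (b * w) * b * (a * w * a) := by group
        _ = (w * b) * b * (a * w * a) := by rw [hcA0W b hb w hw]
        _ = _ := by rw [mul_assoc w b b, hb2, mul_one, hai]
    rw [e]
    exact mul_mem hw (conj_mem (hJn (hAJ haA)) hw)
  have hcomm : z1 * z2 = z2 * z1 := elem_comm hA0W hz1m hz2m
  set d := z1 * z2 with hd
  have hdRa : d ∈ Ra := mem_inf.2 ⟨hwW, mem_centralizer_singleton_iff.2 (by
    have : a * d * a = d := by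
      calc a * d * a = a * z1 * (a * a) * z2 * a := by rw [hd, ha2]; group
        _ = (a * z1 * a) * (a * z2 * a) := by group
        _ = z2 * (a * (a * z1 * a) * a) := by rw [haz1]
        _ = z2 * ((a * a) * z1 * (a * a)) := by group
        _ = d := by rw [ha2, one_mul, mul_one, ← hcomm]
    calc d * a = a * d * a * a := by rw [this]
      _ = a * d := by rw [mul_assoc, ha2, mul_one])⟩
  set c := z * d with hc
  have hcY : c ∈ K ⊔ J := mul_mem (mem_sup_right hzJ) (mem_sup_right (hWJ hwW))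
  have hdZ : d ∈ Z0 ⊓ W := hZW.symm ▸ hdRa
  have hcJ : ∀ j ∈ J, j * c = c * j := fun j hj =>
    (Commute.mul_right (hzc j hj) (mem_centralizer_iff.1 (hRaJ hdRa) j hj)).eq
  have hcx : x * c * x⁻¹ = c := by
    rw [hc, hd, show x * (z * (z1 * z2)) * x⁻¹ = z1 * z2 * (x * z2 * x⁻¹) by
      rw [hz2def, hz1]; group, hx3z]
    exact elem_comm hA0W (mul_mem hz1m hz2m) (mem_sup_left hzA0)
  have hOJ : O ≤ normalizer (J : Set G) := le_sup_left.trans (le_normalizer_jof_comp hK hX le_sup_right hXY)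
  have hcK : ∀ k ∈ K, k * c = c * k := by
    have hle : K ≤ centralizer ({c} : Set G) := by
      conv_lhs => rw [← h.comm]
      refine commutator_le.2 fun k hk j hj => ?_
      obtain ⟨o, ho, i, -, rfl⟩ := h.mem_cases hxK hx3 hk
      have hxi : x ^ i ∈ centralizer ({c} : Set G) :=
        pow_mem (mem_centralizer_singleton_iff.2 (mul_inv_eq_iff_eq_mul.1 hcx)) i
      have hxO : x ^ i ∈ normalizer (O : Set G) := le_normalizer_pCoreOf K (pow_mem hxK i)
      set o' := (x ^ i)⁻¹ * o * (x ^ i)⁻¹⁻¹ with ho'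
      have ho'O : o' ∈ O := conj_mem (inv_mem hxO) ho
      rw [show ⁅o * x ^ i, j⁆ = x ^ i * (o' * j * o'⁻¹) * (x ^ i)⁻¹ * j⁻¹ by
        rw [ho', commutatorElement_def]; group]
      refine mul_mem (mul_mem (mul_mem hxi (mem_centralizer_singleton_iff.2 (hcJ _ ?_))) (inv_mem hxi))
        (inv_mem (mem_centralizer_singleton_iff.2 (hcJ j hj)))
      exact conj_mem (hOJ ho'O) hj
    exact fun k hk => mem_centralizer_singleton_iff.1 (hle hk)
  have hcZ : c ∈ (K ⊔ J) ⊓ centralizer ((K ⊔ J) : Set G) := by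
    refine mem_inf.2 ⟨hcY, mem_centralizer_iff.2 fun g hg => ?_⟩
    have hle : K ⊔ J ≤ centralizer ({c} : Set G) := sup_le
      (fun k hk => mem_centralizer_singleton_iff.2 (hcK k hk))
      (fun j hj => mem_centralizer_singleton_iff.2 (hcJ j hj))
    exact mem_centralizer_singleton_iff.1 (hle (hg.elim (fun h => mem_sup_left h) (fun h => mem_sup_right h)))
  have hzcd : z = c * d := by rw [hc, mul_assoc, elem_sq hWe hwW, mul_one]
  rw [hzcd]
  exact mul_mem (mem_sup_left (mem_inf.2 ⟨mul_mem hz (mem_inf.1 hdZ).1, hcZ⟩)) (mem_sup_right hdZ)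

end Cfsg.Lib.JComp
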