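import Cfsg.Agent.JComp.Offender
import Cfsg.Agent.S0223

/-!
The three possibilities for `Ω₁Z(J(T))` at a component outside `M`.
-/

set_option autoImplicit false
set_option linter.unusedSectionVars false
set_option linter.style.haveILetI false

namespace Cfsg.Lib.JComp

open Subgroup
open scoped commutatorElement Pointwise

universe u

variable {G : Type u} [Group G] [Finite G]

theorem sylow_smul_coe (S : Sylow 2 G) (g : G) :
    ((g • S : Sylow 2 G) : Subgroup G) = cj g (S : Subgroup G) := by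
  rw [Sylow.coe_subgroup_smul]; rfl

theorem omegaCenterOf_ne_bot {S : Subgroup G} (hS : IsPGroup 2 S) (hS1 : S ≠ ⊥) :
    Cfsg.omegaCenterOf S ≠ ⊥ := by
  haveI : Fact (Nat.Prime 2) := ⟨Nat.prime_two⟩
  obtain ⟨z, hzS, hz1, hzc⟩ := exists_fixed hS hS le_normalizer hS1
  obtain ⟨⟨w, hw⟩, hwo⟩ := exists_prime_orderOf_dvd_card' (G := zpowers z) 2
    (Cfsg.Lib.Embedded.dvd_of_ne_bot (hS.to_le (zpowers_le.2 hzS)) fun e => hz1 (mem_bot.1 (e ▸ mem_zpowers z)))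
  rw [orderOf_mk] at hwo
  intro e
  have hw2 : w * w = 1 := by rw [← pow_two, ← hwo, pow_orderOf_eq_one]
  have hm : w ∈ Cfsg.omegaCenterOf S := mem_omegaCenterOf.2 ⟨zpowers_le.2 hzS hw, fun y hy => by
    obtain ⟨n, rfl⟩ := mem_zpowers_iff.1 hw
    exact ((show Commute y z from hzc y hy).zpow_right n).eq, hw2⟩
  rw [e, mem_bot] at hm
  rw [hm, orderOf_one] at hwo
  omega

theorem two_le_card {Z : Subgroup G} (h : Z ≠ ⊥) : 2 ≤ Nat.card Z := by
  haveI : Nontrivial Z := (nontrivial_iff_ne_bot Z).2 h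
  exact Finite.one_lt_card

theorem maxE_absorb {T : Subgroup G} {z : G} (hzT : z ∈ T) (hz2 : z * z = 1)
    (hc : ∀ j ∈ Jof T, j * z = z * j) : z ∈ Cfsg.omegaCenterOf (Jof T) := by
  obtain ⟨A, hA⟩ := Cfsg.Lib.Thompson.exists_isMaxElem (p := 2) T
  refine mem_omegaCenterOf.2 ⟨maxE_le_jof hA ?_, hc, hz2⟩
  have hel := Cfsg.Lib.ElemToolkit.elementary_sup hA.2.1 (zpowers_elem hz2).1 fun b hb v hv => by
    obtain ⟨n, rfl⟩ := mem_zpowers_iff.1 hv
    exact ((show Commute b z from hc b (maxE_le_jof hA hb)).zpow_right n).eq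
  rw [eq_of_le_of_card_ge (le_sup_left : A ≤ A ⊔ zpowers z)
    (hA.2.2 _ (sup_le hA.1 (zpowers_le.2 hzT)) hel)]
  exact mem_sup_right (mem_zpowers z)

theorem omega_le_omega_jof (T : Subgroup G) : Cfsg.omegaCenterOf T ≤ Cfsg.omegaCenterOf (Jof T) := fun z hz => by
  obtain ⟨h1, h2, h3⟩ := mem_omegaCenterOf.1 hz
  exact maxE_absorb h1 h3 fun j hj => h2 j (jof_le T hj)

theorem omega_le_Vm {S L : Subgroup G} (hcen : centralizer (Pc L : Set G) ≤ Pc L) (hPS : Pc L ≤ S) :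
    Cfsg.omegaCenterOf S ≤ Vm L := fun z hz => by
  obtain ⟨-, h2, h3⟩ := mem_omegaCenterOf.1 hz
  exact mem_omegaCenterOf.2 ⟨hcen (mem_centralizer_iff.2 fun p hp => h2 p (hPS hp)), fun p hp => h2 p (hPS hp), h3⟩

/-- `Ω₁Z(J)` inside the centre of `⟨K, J⟩`. -/
def Zc (T K : Subgroup G) : Subgroup G :=
  Cfsg.omegaCenterOf (Jof T) ⊓ ((K ⊔ Jof T) ⊓ centralizer ((K ⊔ Jof T) : Set G))

theorem Zc_le (T K : Subgroup G) : Zc T K ≤ Cfsg.omegaCenterOf (Jof T) := inf_le_left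

theorem Zc_cen {T K : Subgroup G} {z : G} (hz : z ∈ Zc T K) : K ⊔ Jof T ≤ centralizer ({z} : Set G) := by
  have h := mem_centralizer_iff.1 (mem_inf.1 (mem_inf.1 hz).2).2
  exact sup_le (fun k hk => mem_centralizer_singleton_iff.2 (h k (Or.inl hk)))
    fun j hj => mem_centralizer_singleton_iff.2 (h j (Or.inr hj))

theorem Zc_norm {T K : Subgroup G} :
    normalizer (K : Set G) ⊓ normalizer (Jof T : Set G) ≤ normalizer (Zc T K : Set G) := by
  refine le_normalizer_of_conj fun s hs z hz => ?_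
  obtain ⟨hsK, hsJ⟩ := mem_inf.1 hs
  obtain ⟨hz0, hz1⟩ := mem_inf.1 hz
  obtain ⟨hzY, hzc⟩ := mem_inf.1 hz1
  have hsY : s ∈ normalizer ((K ⊔ Jof T : Subgroup G) : Set G) := mem_normalizer_of_cj (by
    rw [show cj s (K ⊔ Jof T) = cj s K ⊔ cj s (Jof T) from Subgroup.map_sup _ _ _, cj_eq_self hsK, cj_eq_self hsJ])
  refine mem_inf.2 ⟨conj_mem (normalizer_le_omegaCenterOf _ hsJ) hz0, mem_inf.2 ⟨conj_mem hsY hzY,
    mem_centralizer_iff.2 fun y hy => ?_⟩⟩
  have hy' : s⁻¹ * y * s⁻¹⁻¹ ∈ (K : Set G) ∪ (Jof T : Set G) :=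
    hy.imp (conj_mem (inv_mem hsK)) (conj_mem (inv_mem hsJ))
  have := mem_centralizer_iff.1 hzc _ hy'
  calc y * (s * z * s⁻¹) = s * (s⁻¹ * y * s⁻¹⁻¹ * z) * s⁻¹ := by group
    _ = s * (z * (s⁻¹ * y * s⁻¹⁻¹)) * s⁻¹ := by rw [this]
    _ = _ := by group

theorem card_jof_center_le {T K : Subgroup G} (hT : IsPGroup 2 T) (hK : Cfsg.IsJComponent T K) :
    Nat.card ↥(Cfsg.omegaCenterOf (Jof T)) ≤ 2 * Nat.card (Zc T K) := by
  obtain ⟨h2, hsup⟩ := main_center hT hK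
  conv_lhs => rw [← hsup]
  refine (Cfsg.Lib.FF.card_sup_le (fun y hy => centralizer_le_normalizer _ (mem_centralizer_iff.2
    fun w hw => elem_comm (elem_omegaCenterOf (Jof T)) (mem_inf.1 hw).1 (mem_inf.1 hy).1))).trans ?_
  rw [h2, mul_comm]
  exact le_rfl

theorem card_mul_le_of_disjoint {A B C : Subgroup G} (hA : A ≤ C) (hB : B ≤ C) (h : A ⊓ B = ⊥) :
    Nat.card A * Nat.card B ≤ Nat.card C := by
  have h1 := Cfsg.Lib.ElemToolkit.mul_card_le A B
  rw [h, card_bot, mul_one] at h1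
  exact h1.trans (Cfsg.Lib.ElemToolkit.card_le_card_of_le (sup_le hA hB))

theorem four_cases {Z : Subgroup G} (hZe : Cfsg.IsElementaryAbelian 2 Z) (h4 : Nat.card Z = 4) {z z1 : G}
    (hz : z ∈ Z) (hz1 : z1 ∈ Z) (hzn : z ≠ 1) (hz1n : z1 ≠ 1) (hne : z ≠ z1) {u : G} (hu : u ∈ Z) :
    u = 1 ∨ u = z ∨ u = z1 ∨ u = z * z1 := by
  classical
  by_contra hno
  push Not at hno
  obtain ⟨h1, h2, h3, h5⟩ := hno
  have hp : z * z1 ≠ 1 := fun e => hne ((mul_eq_one_iff_eq_inv.1 e).trans (elem_inv hZe hz1))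
  letI := Fintype.ofFinite Z
  have hs : ({⟨1, one_mem Z⟩, ⟨u, hu⟩, ⟨z, hz⟩, ⟨z1, hz1⟩, ⟨z * z1, mul_mem hz hz1⟩} : Finset Z).card = 5 := by
    simp [Subtype.ext_iff, h1, Ne.symm h1, h2, h3, h5, hzn, Ne.symm hzn, hz1n, Ne.symm hz1n, hne, Ne.symm hp]
  have := Finset.card_le_univ
    ({⟨1, one_mem Z⟩, ⟨u, hu⟩, ⟨z, hz⟩, ⟨z1, hz1⟩, ⟨z * z1, mul_mem hz hz1⟩} : Finset Z)
  rw [hs, ← Nat.card_eq_fintype_card, h4] at this
  omega

theorem comp_not_le_nJ {T K : Subgroup G} (hT : IsPGroup 2 T) (hK : Cfsg.IsJComponent T K) :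
    ¬ K ≤ normalizer (Jof T : Set G) := fun hle => (tri_of_comp hK).not_two_group ((isPGroup_jof hT).to_le (by
  conv_lhs => rw [← (tri_of_comp hK).comm]
  refine commutator_le.2 fun k hk j hj => ?_
  rw [commutatorElement_def]
  exact mul_mem (conj_mem (hle hk) hj) (inv_mem hj)))

section Max

variable {T K L : Subgroup G} (hLmax : Cfsg.IsMaximalTwoLocal L) (hKL : K ⊔ Jof T ≤ L)
  (huniq : ∀ L' : Subgroup G, Cfsg.IsMaximalTwoLocal L' → K ⊔ Jof T ≤ L' → L' = L)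

include hLmax

theorem pc_ne_bot : Pc L ≠ ⊥ := by
  obtain ⟨U, hU, hU1, he⟩ := hLmax.1
  intro e
  refine hU1 (eq_bot_iff.2 (e ▸ ?_))
  exact le_pCoreOf hU (he ▸ le_normalizer) (he ▸ le_rfl)

theorem normalizer_max : normalizer (L : Set G) ≤ L :=
  (normalizer_le_pCoreOf 2 L).trans (hLmax.2 _ ⟨_, isPGroup_pCoreOf L, pc_ne_bot hLmax, rfl⟩
    (le_normalizer_pCoreOf L)).le

theorem cj_maximal (g : G) : Cfsg.IsMaximalTwoLocal (cj g L) := by
  have hloc : ∀ (h : G) (H : Subgroup G), Cfsg.IsTwoLocal H → Cfsg.IsTwoLocal (cj h H) := by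
    rintro h H ⟨U, hU, hU1, rfl⟩
    exact ⟨cj h U, hU.map _, fun e => hU1 ((map_eq_bot_iff_of_injective _ (MulAut.conj h).injective).1 e),
      (normalizer_cj h U).symm⟩
  refine ⟨hloc g L hLmax.1, fun N hN hle => ?_⟩
  have h1 : L ≤ cj g⁻¹ N := by
    have := map_mono (f := (MulAut.conj g⁻¹).toMonoidHom) hle
    change cj g⁻¹ (cj g L) ≤ _ at this
    rwa [cj_inv_cj] at this
  rw [← hLmax.2 _ (hloc g⁻¹ N hN) h1, cj_cj_inv]

include huniq

theorem moved (hJL : Jof T ≤ L) {n : G} (hn : n ∈ normalizer (Jof T : Set G)) (hK : cj n K ≤ L) : n ∈ L := by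
  have h1 : K ≤ cj n⁻¹ L := by
    have := map_mono (f := (MulAut.conj n⁻¹).toMonoidHom) hK
    change cj n⁻¹ (cj n K) ≤ _ at this
    rwa [cj_inv_cj] at this
  have h2 : Jof T ≤ cj n⁻¹ L :=
    (cj_eq_self (inv_mem hn)).ge.trans (map_mono hJL)
  have := normalizer_max hLmax (mem_normalizer_of_cj (huniq _ (cj_maximal hLmax n⁻¹) (sup_le h1 h2)))
  simpa using inv_mem this

theorem cen_zc_le {z : G} (hz : z ∈ Zc T K) (hz1 : z ≠ 1) : centralizer ({z} : Set G) ≤ L := by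
  obtain ⟨L', hL', hle⟩ := exists_maximal_local
    (local_zpowers (mem_omegaCenterOf.1 (Zc_le T K hz)).2.2 hz1)
  rw [← huniq L' hL' (((Zc_cen hz).trans (centralizer_le_normalizer_zpowers z)).trans hle)]
  exact (centralizer_le_normalizer_zpowers z).trans hle

end Max

/-- A maximal 2-local subgroup with a `J`-component structure is not strongly embedded. -/
theorem exists_max_straddle (hO : Cfsg.pCore 2 G = ⊥) {T L : Subgroup G} (hset : Setting T L)
    (hLmax : Cfsg.IsMaximalTwoLocal L) (hT2 : IsPGroup 2 T) (hT1 : T ≠ ⊥) :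
    ∃ T' ∈ Cfsg.maxStraddlingTwoSubgroups L, ∃ l ∈ L, T' ≤ cj l T := by
  classical
  have hJL := hset.J_le_L
  -- `L` is not strongly embedded
  have hstrad : (Cfsg.straddlingTwoSubgroups L).Nonempty := by
    rw [Set.nonempty_iff_ne_empty]
    intro he
    have hSE := (Cfsg.Lib.Misc.SweepLocal.straddling_iff hO hLmax.1).2 he
    refine hset.nle (jof_le_iff.2 fun A hA a ha => ?_)
    by_cases ha1 : a = 1
    · rw [ha1]; exact one_mem _
    have hao : orderOf a = 2 := orderOf_eq_prime (by rw [pow_two]; exact elem_sq hA.2.1 ha) ha1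
    obtain ⟨v, hv, hv1⟩ := (bot_or_exists_ne_one (Cfsg.omegaCenterOf T)).resolve_left
      (omegaCenterOf_ne_bot hT2 hT1)
    have hvV := omega_le_Vm hset.cen hset.P_le_T hv
    have hvo : orderOf v = 2 := orderOf_eq_prime (by rw [pow_two]; exact (mem_omegaCenterOf.1 hv).2.2) hv1
    obtain ⟨l, hl, hle'⟩ := ((Cfsg.Agent.S0223.result L hSE.1 hSE.2.1).1 hSE).2 v (hset.V_le hvV) a
      (hJL (maxE_le_jof hA ha)) hvo hao (Cfsg.Lib.StrongEmb.all_conj hSE hvo hao)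
    rw [← hle']
    exact conj_mem (hset.P_norm hl) (omegaCenterOf_le _ hvV)
  set st := Cfsg.straddlingTwoSubgroups L
  obtain ⟨T1, hT1s, h1⟩ := Set.exists_max_image st Cfsg.maxElemAbelianOrder (Set.toFinite _) hstrad
  obtain ⟨T2, hT2s, h2⟩ := Set.exists_max_image
    {R | R ∈ st ∧ Cfsg.maxElemAbelianOrder R = Cfsg.maxElemAbelianOrder T1}
    (fun R => Nat.card (Jof R)) (Set.toFinite _) ⟨T1, hT1s, rfl⟩
  obtain ⟨T3, hT3s, h3⟩ := Set.exists_max_image
    {R | (R ∈ st ∧ Cfsg.maxElemAbelianOrder R = Cfsg.maxElemAbelianOrder T1) ∧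
      Nat.card (Jof R) = Nat.card (Jof T2)}
    (fun R => Nat.card R) (Set.toFinite _) ⟨T2, hT2s, rfl⟩
  refine ⟨T3, ⟨hT3s.1.1, fun R hR => ⟨hT3s.1.2 ▸ h1 R hR, fun he => ⟨?_, fun hj => ?_⟩⟩⟩,
    exists_conj_le hset.syl hT3s.1.1.2.2.1 hT3s.1.1.1⟩
  · exact (h2 R ⟨hR, he.trans hT3s.1.2⟩).trans hT3s.2.ge
  · exact h3 R ⟨⟨hR, he.trans hT3s.1.2⟩, hj.trans hT3s.2⟩

variable (hL : Cfsg.IsCharacteristicTwoType G) (hN : ∀ N : Subgroup G, Cfsg.IsTwoLocal N → Group.IsSolvable ↥N)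
  (hZ : ∀ S : Sylow 2 G, centralizer (Cfsg.omegaCenterOf (S : Subgroup G) : Set G) ≤
    normalizer ((S : Subgroup G) : Set G))

include hZ in
/-- With `|Ω₁Z(S)| = 2`, the centre of `⟨K, J(S)⟩` misses `Ω₁Z(S)`. -/
theorem zc_disjoint (S : Sylow 2 G) (h2 : Nat.card ↥(Cfsg.omegaCenterOf (S : Subgroup G)) = 2) {K : Subgroup G}
    (hK : Cfsg.IsJComponent (S : Subgroup G) K) :
    Cfsg.omegaCenterOf (S : Subgroup G) ⊓ Zc (S : Subgroup G) K = ⊥ := by
  haveI : Fact (Nat.Prime 2) := ⟨Nat.prime_two⟩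
  rw [eq_bot_iff]
  intro z hz
  obtain ⟨hzZ, hzc⟩ := mem_inf.1 hz
  rw [mem_bot]
  by_contra hz1
  have heq : zpowers z = Cfsg.omegaCenterOf (S : Subgroup G) := eq_of_le_of_card_ge (zpowers_le.2 hzZ) (by
    rw [h2, Nat.card_zpowers, orderOf_eq_prime (by rw [pow_two]; exact (mem_omegaCenterOf.1 hzZ).2.2) hz1])
  refine comp_not_le_nJ S.isPGroup' hK (((le_sup_left.trans (Zc_cen hzc)).trans ?_).trans
    ((hZ S).trans (Cfsg.Lib.Thompson.normalizer_le_normalizer_thompson _)))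
  intro c hc
  rw [← heq]
  exact mem_centralizer_iff.2 fun w hw => by
    obtain ⟨n, rfl⟩ := mem_zpowers_iff.1 hw
    exact ((show Commute z c from (mem_centralizer_singleton_iff.1 hc).symm).zpow_left n).eq

include hL hN hZ

theorem setting_unique {S : Sylow 2 G} {M : Subgroup G} (hMJ : normalizer (Jof (S : Subgroup G) : Set G) ≤ M)
    {T : Subgroup G} (hT : T ∈ Cfsg.maxStraddlingTwoSubgroups M) {K : Subgroup G}
    (hK : K ∈ Cfsg.jComponentsOutside M T) {L : Subgroup G} (hLmax : Cfsg.IsMaximalTwoLocal L)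
    (hKL : K ⊔ Jof T ≤ L) :
    Setting T L ∧ ∀ L' : Subgroup G, Cfsg.IsMaximalTwoLocal L' → K ⊔ Jof T ≤ L' → L' = L := by
  obtain ⟨L0, -, -, -, h3, -, -, h5⟩ := unique_maximal hL hN hZ hMJ hT hK
  have e := h3 L hLmax hKL
  subst e
  exact ⟨h5, h3⟩

/-- `T` is not a Sylow 2-subgroup. -/
theorem case_lt {S : Sylow 2 G} {M : Subgroup G} (hMJ : normalizer (Jof (S : Subgroup G) : Set G) ≤ M)
    {T : Subgroup G} (hT : T ∈ Cfsg.maxStraddlingTwoSubgroups M) (hTS : T ≤ (S : Subgroup G))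
    (hne : T ≠ (S : Subgroup G)) {K : Subgroup G} (hK : K ∈ Cfsg.jComponentsOutside M T) {L : Subgroup G}
    (hLmax : Cfsg.IsMaximalTwoLocal L) (hKL : K ⊔ Jof T ≤ L) :
    Nat.card ↥(Cfsg.omegaCenterOf (S : Subgroup G)) = 2 ∧
      ((Cfsg.omegaCenterOf (S : Subgroup G) = Cfsg.omegaCenterOf (Jof T) ∧
          Nat.card ↥(Cfsg.omegaCenterOf (Jof T)) = 2) ∨
        (Cfsg.omegaCenterOf T = Cfsg.omegaCenterOf (Jof T) ∧ Nat.card ↥(Cfsg.omegaCenterOf (Jof T)) = 4 ∧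
          (L ⊓ centralizer (Cfsg.omegaCenterOf (Jof T) : Set G)).relIndex
            (normalizer (Cfsg.omegaCenterOf (Jof T) : Set G)) = 2)) := by
  obtain ⟨hset, huniq⟩ := setting_unique hL hN hZ hMJ hT hK hLmax hKL
  have hJL : Jof T ≤ L := le_sup_right.trans hKL
  have hT2 := hT.1.1
  have hS1 : (S : Subgroup G) ≠ ⊥ := fun e => hT.1.2.1 (eq_bot_iff.2 (e ▸ hTS))
  set Z := Cfsg.omegaCenterOf (S : Subgroup G) with hZdef
  set Z0 := Cfsg.omegaCenterOf (Jof T) with hZ0def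
  set Z1 := Zc T K with hZ1def
  have hZe : Cfsg.IsElementaryAbelian 2 Z0 := elem_omegaCenterOf _
  obtain ⟨r, hrS, hrT, hrn⟩ := exists_normalizing S.isPGroup' hTS hne
  have hrJ : r ∈ normalizer (Jof T : Set G) := Cfsg.Lib.Thompson.normalizer_le_normalizer_thompson T hrT
  have hbig : ∀ g : G, ¬ cj g (S : Subgroup G) ≤ L := by
    intro g hle
    obtain ⟨l, hl, hle'⟩ := exists_conj_le hset.syl hle (S.isPGroup'.map _)
    have h1 := Cfsg.Lib.ElemToolkit.card_le_card_of_le hle'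
    rw [card_cj, card_cj] at h1
    exact hne (eq_of_le_of_card_ge hTS h1)
  have hrL : r ∉ L := fun hr => hrn (by
    have he := sylowIn_eq_of_le hset.syl (le_sup_left : T ≤ T ⊔ zpowers r) (sup_le hset.syl.1 (zpowers_le.2 hr))
      (S.isPGroup'.to_le (sup_le hTS (zpowers_le.2 hrS)))
    exact he.le (mem_sup_right (mem_zpowers r)))
  have hKr : ¬ cj r K ≤ L := fun h => hrL (moved hLmax huniq hJL hrJ h)
  have hKrc : ∀ y ∈ Z1, cj r K ≤ centralizer ({r * y * r⁻¹} : Set G) := by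
    rintro y hy _ ⟨k, hk, rfl⟩
    refine mem_centralizer_singleton_iff.2 ?_
    have := mem_centralizer_singleton_iff.1 (Zc_cen hy (mem_sup_left hk))
    show r * k * r⁻¹ * (r * y * r⁻¹) = r * y * r⁻¹ * (r * k * r⁻¹)
    calc r * k * r⁻¹ * (r * y * r⁻¹) = r * (k * y) * r⁻¹ := by group
      _ = r * (y * k) * r⁻¹ := by rw [this]
      _ = _ := by group
  have hrZ0 : cj r Z0 = Z0 := cj_eq_self (normalizer_le_omegaCenterOf _ hrJ)
  have hdis : Z1 ⊓ cj r Z1 = ⊥ := by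
    rw [eq_bot_iff]
    intro z hz
    obtain ⟨hz1, ⟨y, hy, rfl⟩⟩ := mem_inf.1 hz
    rw [mem_bot]
    by_contra hne1
    exact hKr ((hKrc y hy).trans (cen_zc_le hLmax huniq hz1 hne1))
  have hle2 : Nat.card Z0 ≤ 2 * Nat.card Z1 := card_jof_center_le hT2 hK.1.1
  have hpos : 0 < Nat.card Z1 := Nat.card_pos
  have hZ1le : Nat.card Z1 ≤ 2 := by
    have h1 := card_mul_le_of_disjoint (Zc_le T K) (hrZ0 ▸ map_mono (Zc_le T K) : cj r Z1 ≤ Z0) hdis
    rw [card_cj] at h1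
    exact Nat.le_of_mul_le_mul_right (h1.trans hle2) hpos
  have hZP : Z ≤ Vm L := omega_le_Vm hset.cen (hset.P_le_T.trans hTS)
  have hZT : ∀ z ∈ Z, z ∈ Cfsg.omegaCenterOf T := fun z hz =>
    mem_omegaCenterOf.2 ⟨hset.P_le_T (omegaCenterOf_le _ (hZP hz)),
      fun y hy => (mem_omegaCenterOf.1 hz).2.1 y (hTS hy), (mem_omegaCenterOf.1 hz).2.2⟩
  have hZZ0 : Z ≤ Z0 := fun z hz => omega_le_omega_jof T (hZT z hz)
  have hZd : Z ⊓ Z1 = ⊥ := by
    rw [eq_bot_iff]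
    intro z hz
    obtain ⟨hzZ, hz1⟩ := mem_inf.1 hz
    rw [mem_bot]
    by_contra hne1
    refine hbig 1 ?_
    rw [cj_one]
    exact fun s hs => cen_zc_le hLmax huniq hz1 hne1
      (mem_centralizer_singleton_iff.2 ((mem_omegaCenterOf.1 hzZ).2.1 s hs))
  have hmul : Nat.card Z * Nat.card Z1 ≤ Nat.card Z0 := card_mul_le_of_disjoint hZZ0 (Zc_le T K) hZd
  have hZge := two_le_card (omegaCenterOf_ne_bot S.isPGroup' hS1)
  have hZ2 : Nat.card Z = 2 :=
    le_antisymm (Nat.le_of_mul_le_mul_right (hmul.trans hle2) hpos) hZge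
  refine ⟨hZ2, ?_⟩
  rw [hZ2] at hmul
  rcases Nat.lt_or_ge (Nat.card Z1) 2 with hlt | hge
  · have : Nat.card Z0 ≤ 2 := by omega
    refine Or.inl ⟨eq_of_le_of_card_ge hZZ0 (by omega), le_antisymm this ?_⟩
    exact hZ2 ▸ Cfsg.Lib.ElemToolkit.card_le_card_of_le hZZ0
  · have h4 : Nat.card Z0 = 4 := by omega
    obtain ⟨z, hzZ, hzn⟩ := (bot_or_exists_ne_one Z).resolve_left (omegaCenterOf_ne_bot S.isPGroup' hS1)
    obtain ⟨z1, hz1, hz1n⟩ := (bot_or_exists_ne_one Z1).resolve_left fun e => by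
      rw [e, card_bot] at hge; omega
    have hzz1 : z ≠ z1 := fun e => hzn (mem_bot.1 (hZd ▸ mem_inf.2 ⟨hzZ, e ▸ hz1⟩))
    have h0 : z ∈ Z0 ∧ z1 ∈ Z0 := ⟨hZZ0 hzZ, Zc_le T K hz1⟩
    have hfour := fun {u : G} (hu : u ∈ Z0) => four_cases hZe h4 h0.1 h0.2 hzn hz1n hzz1 hu
    have hzS : ∀ s ∈ (S : Subgroup G), s * z * s⁻¹ = z := fun s hs => by
      rw [(mem_omegaCenterOf.1 hzZ).2.1 s hs, mul_inv_cancel_right]
    -- images of `z1`
    have himg : ∀ g : G, g ∈ normalizer (Z0 : Set G) → g * z * g⁻¹ = z → g * z1 * g⁻¹ = z1 ∨ g * z1 * g⁻¹ = z * z1 := by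
      intro g hg hgz
      rcases hfour (conj_mem hg h0.2) with e | e | e | e
      · refine absurd ?_ hz1n
        calc z1 = g⁻¹ * (g * z1 * g⁻¹) * g := by group
          _ = 1 := by rw [e]; group
      · refine absurd ?_ hzz1.symm
        calc z1 = g⁻¹ * (g * z1 * g⁻¹) * g := by group
          _ = g⁻¹ * (g * z * g⁻¹) * g := by rw [e, hgz]
          _ = z := by group
      · exact Or.inl e
      · exact Or.inr e
    have hr1 : r * z1 * r⁻¹ = z * z1 := by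
      refine (himg r (normalizer_le_omegaCenterOf _ hrJ) (hzS r hrS)).resolve_left fun e => hz1n ?_
      exact mem_bot.1 (hdis ▸ mem_inf.2 ⟨hz1, e ▸ conj_mem_cj hz1⟩)
    have hcomb : ∀ g : G, g * z * g⁻¹ = z → g * z1 * g⁻¹ = z1 →
        g ∈ L ⊓ centralizer (Z0 : Set G) := by
      intro g hgz hgz1
      have c1 : Commute g z1 := mul_inv_eq_iff_eq_mul.1 hgz1
      have c2 : Commute g z := mul_inv_eq_iff_eq_mul.1 hgz
      refine mem_inf.2 ⟨cen_zc_le hLmax huniq hz1 hz1n (mem_centralizer_singleton_iff.2 c1.eq),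
        mem_centralizer_iff.2 fun u hu => ?_⟩
      rcases hfour hu with e | e | e | e <;> rw [e]
      · rw [one_mul, mul_one]
      · exact c2.eq.symm
      · exact c1.eq.symm
      · exact (c2.mul_right c1).eq.symm
    have hTZ : ∀ t ∈ T, t * z1 * t⁻¹ = z1 := by
      intro t ht
      refine (himg t (normalizer_le_omegaCenterOf _
        (Cfsg.Lib.Thompson.normalizer_le_normalizer_thompson T (le_normalizer ht)))
        (hzS t (hTS ht))).resolve_right fun e => hKr ((hKrc z1 hz1).trans ?_)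
      rw [hr1, ← e]
      intro c hc
      have hm : t⁻¹ * c * t ∈ centralizer ({z1} : Set G) := mem_centralizer_singleton_iff.2 (by
        calc t⁻¹ * c * t * z1 = t⁻¹ * (c * (t * z1 * t⁻¹)) * t := by group
          _ = t⁻¹ * (t * z1 * t⁻¹ * c) * t := by rw [mem_centralizer_singleton_iff.1 hc]
          _ = _ := by group)
      have hh := mul_mem (mul_mem (hset.syl.1 ht) (cen_zc_le hLmax huniq hz1 hz1n hm)) (inv_mem (hset.syl.1 ht))
      rwa [show t * (t⁻¹ * c * t) * t⁻¹ = c by group] at hh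
    refine Or.inr ⟨le_antisymm (omega_le_omega_jof T) fun u hu => mem_omegaCenterOf.2
      ⟨jof_le T (omegaCenterOf_le _ hu), fun t ht => ?_, elem_sq hZe hu⟩, h4, ?_⟩
    · exact (mem_centralizer_iff.1 (mem_inf.1 (hcomb t (hzS t (hTS ht)) (hTZ t ht))).2 u hu).symm
    -- `N(Z0)` fixes `z`
    have hfix : ∀ g ∈ normalizer (Z0 : Set G), g * z * g⁻¹ = z := by
      have hconj : ∀ h : G, h * z * h⁻¹ ≠ z1 := by
        intro h e
        refine hbig h (le_trans ?_ (cen_zc_le hLmax huniq hz1 hz1n))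
        rintro _ ⟨s, hs, rfl⟩
        refine mem_centralizer_singleton_iff.2 ?_
        show h * s * h⁻¹ * z1 = z1 * (h * s * h⁻¹)
        rw [← e]
        calc h * s * h⁻¹ * (h * z * h⁻¹) = h * (s * z) * h⁻¹ := by group
          _ = h * (z * s) * h⁻¹ := by rw [(mem_omegaCenterOf.1 hzZ).2.1 s hs]
          _ = _ := by group
      intro g hg
      rcases hfour (conj_mem hg h0.1) with e | e | e | e
      · refine absurd ?_ hzn
        calc z = g⁻¹ * (g * z * g⁻¹) * g := by group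
          _ = 1 := by rw [e]; group
      · exact e
      · exact absurd e (hconj g)
      · refine absurd ?_ (hconj (r⁻¹ * g))
        rw [show r⁻¹ * g * z * (r⁻¹ * g)⁻¹ = r⁻¹ * (g * z * g⁻¹) * r by group, e, ← hr1]
        group
    rw [relIndex, index_eq_two_iff_exists_notMem_and]
    refine ⟨⟨r, normalizer_le_omegaCenterOf _ hrJ⟩, fun hm => hrL (mem_inf.1 (mem_subgroupOf.1 hm)).1,
      fun b => ?_⟩
    obtain ⟨g, hg⟩ := b
    have hgz := hfix g hg
    rcases himg g hg hgz with e | e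
    · exact Or.inr (mem_subgroupOf.2 (hcomb g hgz e))
    · refine Or.inl (mem_subgroupOf.2 (hcomb (g * r) ?_ ?_))
      · rw [show g * r * z * (g * r)⁻¹ = g * (r * z * r⁻¹) * g⁻¹ by group, hzS r hrS, hgz]
      · rw [show g * r * z1 * (g * r)⁻¹ = g * (r * z1 * r⁻¹) * g⁻¹ by group, hr1,
          show g * (z * z1) * g⁻¹ = (g * z * g⁻¹) * (g * z1 * g⁻¹) by group, hgz, e, ← mul_assoc,
          elem_sq hZe h0.1, one_mul]

/-- All the components of `S` lie in `L`. -/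
theorem case_all (hO : Cfsg.pCore 2 G = ⊥) {S : Sylow 2 G} {M : Subgroup G} (hM : Cfsg.IsTwoLocal M)
    (hMJ : normalizer (Jof (S : Subgroup G) : Set G) ≤ M)
    (hT : (S : Subgroup G) ∈ Cfsg.maxStraddlingTwoSubgroups M) {K : Subgroup G}
    (hK : K ∈ Cfsg.jComponentsOutside M (S : Subgroup G)) {L : Subgroup G}
    (hLmax : Cfsg.IsMaximalTwoLocal L) (hKL : K ⊔ Jof (S : Subgroup G) ≤ L)
    (hall : ∀ K', Cfsg.IsJComponent (S : Subgroup G) K' → K' ≤ L) :
    Cfsg.omegaCenterOf (S : Subgroup G) = Cfsg.omegaCenterOf (Jof (S : Subgroup G)) ∧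
      Nat.card ↥(Cfsg.omegaCenterOf (Jof (S : Subgroup G))) = 2 := by
  classical
  obtain ⟨hset, huniq⟩ := setting_unique hL hN hZ hMJ hT hK hLmax hKL
  have hJL := hset.J_le_L
  set T := (S : Subgroup G) with hTdef
  have hT1 : T ≠ ⊥ := hT.1.2.1
  have hconjJ : ∀ {n : G} {K' : Subgroup G}, n ∈ normalizer (Jof T : Set G) → Cfsg.IsJComponent T K' →
      Cfsg.IsJComponent T (cj n K') := fun {n K'} hn hK' => by
    refine comp_congr ?_ (comp_cj hK' n)
    rw [jof_cj, cj_eq_self hn]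
  have hNJ : normalizer (Jof T : Set G) ≤ L := fun n hn =>
    moved hLmax huniq hJL hn (hall _ (hconjJ hn hK.1.1))
  -- `M` and all 2-local subgroups above `J` lie in `L`
  have hSM : T ≤ M := hT.1.2.2.1
  have hML : M ≤ L := by
    obtain ⟨U, hU, hU1, rfl⟩ := hM
    set M := normalizer (U : Set G)
    have hs := sylowIn_of_sylow S hSM
    by_cases hle : Jof T ≤ Pc M
    · have hPT : Pc M ≤ T := sylowIn_normal_le hs (isPGroup_pCoreOf M) (pCoreOf_le M) (le_normalizer_pCoreOf M)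
      have hJP : Jof (Pc M) = Jof T := jof_eq_of_between hle hPT
      refine ((le_normalizer_pCoreOf M).trans ?_).trans hNJ
      rw [← hJP]
      exact Cfsg.Lib.Thompson.normalizer_le_normalizer_thompson _
    · have hsetM := setting_of hN hZ hT1 (show M ∈ Cfsg.jOvergroups T from ⟨hs, hle, char2_cen hL hU hU1⟩)
      exact hsetM.le_of_comps (inf_le_right.trans hNJ) fun x a ha => hall _ (ha.isComp hsetM)
  have hloc : ∀ H : Subgroup G, Cfsg.IsTwoLocal H → Jof T ≤ H → H ≤ L := by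
    intro H hH hJH
    by_cases hHM : H ≤ M
    · exact hHM.trans hML
    obtain ⟨T₀, hset₀, hJ₀⟩ := local_setting hL hN hZ hMJ hT hH hHM hJH
    exact hset₀.le_of_comps (inf_le_right.trans (hJ₀ ▸ hNJ))
      fun x a ha => hall _ (comp_congr hJ₀.symm (ha.isComp hset₀))
  obtain ⟨T', hT', l, hl, hT'S⟩ := exists_max_straddle hO hset hLmax hT.1.1 hT1
  have hlL : cj l L = L := cj_eq_self (le_normalizer hl)
  set S' : Sylow 2 G := l • S
  have hS' : (S' : Subgroup G) = cj l T := sylow_smul_coe S l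
  have hMJ' : normalizer (Jof (S' : Subgroup G) : Set G) ≤ L := by
    rw [hS', jof_cj, normalizer_cj, ← hlL]
    exact map_mono hNJ
  obtain ⟨K', hK'⟩ := outside_nonempty hL hN hZ hMJ' hT'
  have hne : T' ≠ (S' : Subgroup G) := by
    intro e
    have h1 := comp_cj hK'.1.1 l⁻¹
    rw [e, hS', cj_inv_cj] at h1
    have h2 : cj l (cj l⁻¹ K') ≤ cj l L := map_mono (hall _ h1)
    rw [cj_cj_inv, hlL] at h2
    exact hK'.2.1 h2
  obtain ⟨L', hL'max, hKL', -, -, -, -, hset'⟩ := unique_maximal hL hN hZ hMJ' hT' hK'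
  have hT'S' : T' ≤ (S' : Subgroup G) := hS' ▸ hT'S
  obtain ⟨hc2, hdisj⟩ := case_lt hL hN hZ hMJ' hT' hT'S' hne hK' hL'max hKL'
  have hcenT : ∀ t ∈ T', ∀ u ∈ Cfsg.omegaCenterOf (Jof T'), t * u = u * t := by
    intro t ht u hu
    rcases hdisj with ⟨e, -⟩ | ⟨e, -, -⟩
    · exact (mem_omegaCenterOf.1 (e ▸ hu)).2.1 t (hT'S' ht)
    · exact (mem_omegaCenterOf.1 (e ▸ hu)).2.1 t ht
  have hZ2 : Nat.card ↥(Cfsg.omegaCenterOf T) = 2 := by
    rwa [hS', omegaCenterOf_cj, card_cj] at hc2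
  set Z := Cfsg.omegaCenterOf T
  set Z0 := Cfsg.omegaCenterOf (Jof T)
  have hle2 : Nat.card Z0 ≤ 2 * Nat.card (Zc T K) := card_jof_center_le hT.1.1 hK.1.1
  have hZZ0 : Z ≤ Z0 := omega_le_omega_jof T
  by_cases hTK : T ≤ normalizer (K : Set G)
  · -- the centre of `⟨K, J⟩` is invariant
    have hZ1 : Zc T K = ⊥ := by
      by_contra hne1
      have hn : T ≤ normalizer (Zc T K : Set G) := (le_inf hTK (le_normalizer.trans
        (Cfsg.Lib.Thompson.normalizer_le_normalizer_thompson T))).trans Zc_norm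
      obtain ⟨z, hz, hz1, hzc⟩ := exists_fixed
        ((elem_isPGroup (elem_omegaCenterOf (Jof T))).to_le (Zc_le T K)) hT.1.1 hn hne1
      have hzZ : z ∈ Z := mem_omegaCenterOf.2 ⟨jof_le T (omegaCenterOf_le _ (Zc_le T K hz)), hzc,
        (mem_omegaCenterOf.1 (Zc_le T K hz)).2.2⟩
      exact hz1 (mem_bot.1 (zc_disjoint hZ S hZ2 hK.1.1 ▸ mem_inf.2 ⟨hzZ, hz⟩))
    rw [hZ1, card_bot] at hle2
    have h3 := Cfsg.Lib.ElemToolkit.card_le_card_of_le hZZ0
    exact ⟨eq_of_le_of_card_ge hZZ0 (by omega), by omega⟩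
  exfalso
  obtain ⟨s, hs, hsK⟩ := SetLike.not_le_iff_exists.1 hTK
  have hK1 : K ≤ L := le_sup_left.trans hKL
  obtain ⟨x, a, ha, hKx, hW⟩ := hset.classify hK.1.1 hK1
  have hsJ : s ∈ normalizer (Jof T : Set G) :=
    Cfsg.Lib.Thompson.normalizer_le_normalizer_thompson T (le_normalizer hs)
  have hKs := hconjJ hsJ hK.1.1
  have hM' := ha.mover hset
  set W := dlR x (Vm L) with hWdef
  have hxn : x ∈ normalizer (cj s W : Set G) := by
    have h1 := (hset.comps_le hKs (hall _ hKs) hK.1.1 hK1) (hKx.symm ▸ ha.x_mem_Kx)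
    have h2 := normalizer_le_wOf _ h1
    rwa [wOf_cj, hW] at h2
  have hdis : W ⊓ cj s W = ⊥ := by
    rw [eq_bot_iff]
    intro w hw
    rw [mem_bot]
    by_contra hw1
    have hU : W ⊓ cj s W = W := hM'.irred ha.card inf_le_left
      (fun u hu => mem_inf.2 ⟨hM'.conj_mem_dlR (mem_inf.1 hu).1, conj_mem hxn (mem_inf.1 hu).2⟩) hw hw1
    have he : cj s W = W := (eq_of_le_of_card_ge (inf_eq_left.1 hU) (card_cj s W).le).symm
    refine hsK (hset.stab_normalizes hK.1.1 hK1 (hset.syl.1 hs) fun u hu => ?_)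
    rw [hW] at hu ⊢
    exact he.le (conj_mem_cj hu)
  have h16 : 16 ≤ Nat.card (Vm L) := by
    have h1 := card_mul_le_of_disjoint hM'.dlR_le
      ((map_mono hM'.dlR_le).trans (cj_eq_self (hset.V_norm (hset.syl.1 hs))).le : cj s W ≤ Vm L) hdis
    rwa [card_cj, ha.card_eq hset] at h1
  -- the straddling subgroup
  have hK'L' : K' ≤ L' := le_sup_left.trans hKL'
  obtain ⟨x', a', ha', hKx', hW'⟩ := hset'.classify hK'.1.1 hK'L'
  have hx'L : x' ∉ L := fun hx => hK'.2.1 (hKx' ▸ (oddGen_le _).trans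
    (sup_le (hset'.P_le_T.trans hT'.1.2.2.1) (zpowers_le.2 hx)))
  have hTK' : T' ≤ normalizer (K' : Set G) := by
    refine hset'.T_normalizes hK'.1.1 hK'L' fun e => ?_
    obtain ⟨w, hw, hw1⟩ := (bot_or_exists_ne_one (Cfsg.omegaCenterOf (Jof T') ⊓ Cfsg.wOf K')).resolve_left
      fun e' => by
        have := (main_center hT'.1.1 hK'.1.1).1
        rw [e', card_bot] at this
        omega
    obtain ⟨hw0, hwW⟩ := mem_inf.1 hw
    have : w ∈ T' ⊓ centralizer (T' : Set G) ⊓ Cfsg.wOf K' := mem_inf.2 ⟨mem_inf.2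
      ⟨jof_le T' (omegaCenterOf_le _ hw0), mem_centralizer_iff.2 fun t ht => hcenT t ht w hw0⟩, hwW⟩
    rw [e, mem_bot] at this
    exact hw1 this
  have hTX : T' ≤ normalizer (Atom.X0 L' x' : Set G) := fun t ht =>
    ha'.stab_X0 hset' (hset'.syl.1 ht) fun w hw => hW' ▸ conj_mem (normalizer_le_wOf K' (hTK' ht)) (hW'.symm ▸ hw)
  obtain ⟨z, hz, hz1⟩ := (bot_or_exists_ne_one (Cfsg.omegaCenterOf (S' : Subgroup G))).resolve_left fun e => by
    rw [e, card_bot] at hc2; omega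
  have hPS : Pc L ≤ (S' : Subgroup G) := by
    rw [hS', ← cj_eq_self (hset.P_norm hl)]
    exact map_mono hset.P_le_T
  exact no_straddle hLmax hset hT1 hloc h16 hset' hT'.1.2.2.1
    (fun H hH hHL hTH => (straddle_main hL hN hZ hMJ' hT' hH hHL hTH).1.P_le_T) ha' hx'L hTX
    (omega_le_Vm hset.cen hPS hz) hz1
    (omegaCenterOf_le _ (omega_le_Vm hset'.cen (hset'.P_le_T.trans hT'S') hz))

theorem center_cases (hO : Cfsg.pCore 2 G = ⊥) {S : Sylow 2 G} {M : Subgroup G} (hM : Cfsg.IsTwoLocal M)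
    (hMJ : normalizer (Jof (S : Subgroup G) : Set G) ≤ M) {T : Subgroup G}
    (hT : T ∈ Cfsg.maxStraddlingTwoSubgroups M) (hTS : T ≤ (S : Subgroup G)) {K : Subgroup G}
    (hK : K ∈ Cfsg.jComponentsOutside M T) {L : Subgroup G} (hLmax : Cfsg.IsMaximalTwoLocal L)
    (hKL : K ⊔ Jof T ≤ L) :
    (Cfsg.omegaCenterOf (S : Subgroup G) = Cfsg.omegaCenterOf (Jof T) ∧
        Nat.card ↥(Cfsg.omegaCenterOf (Jof T)) = 2) ∨
      (Cfsg.omegaCenterOf (S : Subgroup G) = Cfsg.omegaCenterOf (Jof T) ∧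
        Nat.card ↥(Cfsg.omegaCenterOf (Jof T)) = 4 ∧ T = (S : Subgroup G)) ∨
      (Cfsg.omegaCenterOf T = Cfsg.omegaCenterOf (Jof T) ∧ Nat.card ↥(Cfsg.omegaCenterOf (Jof T)) = 4 ∧
        (L ⊓ centralizer (Cfsg.omegaCenterOf (Jof T) : Set G)).relIndex
          (normalizer (Cfsg.omegaCenterOf (Jof T) : Set G)) = 2) := by
  by_cases hne : T = (S : Subgroup G)
  swap
  · rcases (case_lt hL hN hZ hMJ hT hTS hne hK hLmax hKL).2 with h | h
    · exact Or.inl h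
    · exact Or.inr (Or.inr h)
  subst hne
  by_cases hall : ∀ K', Cfsg.IsJComponent (S : Subgroup G) K' → K' ≤ L
  · exact Or.inl (case_all hL hN hZ hO hM hMJ hT hK hLmax hKL hall)
  push Not at hall
  obtain ⟨K', hK', hK'L⟩ := hall
  obtain ⟨hset, huniq⟩ := setting_unique hL hN hZ hMJ hT hK hLmax hKL
  set T := (S : Subgroup G) with hTdef
  set Z := Cfsg.omegaCenterOf T with hZdef
  set Z0 := Cfsg.omegaCenterOf (Jof T) with hZ0def
  have hZe : Cfsg.IsElementaryAbelian 2 Z0 := elem_omegaCenterOf _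
  have hdis : Zc T K ⊓ Zc T K' = ⊥ := by
    rw [eq_bot_iff]
    intro z hz
    rw [mem_bot]
    by_contra hz1
    exact hK'L ((le_sup_left.trans (Zc_cen (mem_inf.1 hz).2)).trans (cen_zc_le hLmax huniq (mem_inf.1 hz).1 hz1))
  have h1 : Nat.card Z0 ≤ 2 * Nat.card (Zc T K) := card_jof_center_le hT.1.1 hK.1.1
  have h1' : Nat.card Z0 ≤ 2 * Nat.card (Zc T K') := card_jof_center_le hT.1.1 hK'
  have h2 : Nat.card (Zc T K) * Nat.card (Zc T K') ≤ Nat.card Z0 :=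
    card_mul_le_of_disjoint (Zc_le T K) (Zc_le T K') hdis
  have hp : 0 < Nat.card (Zc T K) := Nat.card_pos
  have hp' : 0 < Nat.card (Zc T K') := Nat.card_pos
  have hb' : Nat.card (Zc T K') ≤ 2 :=
    Nat.le_of_mul_le_mul_left ((h2.trans h1).trans_eq (mul_comm _ _)) hp
  have hb : Nat.card (Zc T K) ≤ 2 := Nat.le_of_mul_le_mul_right (h2.trans h1') hp'
  have hZZ0 : Z ≤ Z0 := omega_le_omega_jof T
  have hZge := two_le_card (omegaCenterOf_ne_bot hT.1.1 hT.1.2.1)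
  have hZle := Cfsg.Lib.ElemToolkit.card_le_card_of_le hZZ0
  change 2 ≤ Nat.card Z at hZge
  by_cases hsmall : Nat.card Z0 ≤ 2
  · exact Or.inl ⟨eq_of_le_of_card_ge hZZ0 (by omega), by omega⟩
  have ha2 : Nat.card (Zc T K) = 2 := by omega
  have ha2' : Nat.card (Zc T K') = 2 := by omega
  rw [ha2, ha2'] at h2
  rw [ha2] at h1
  have h4 : Nat.card Z0 = 4 := by omega
  by_cases hZeq : Z = Z0
  · exact Or.inr (Or.inl ⟨hZeq, h4, rfl⟩)
  exfalso
  have hZ2 : Nat.card Z = 2 := by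
    have hd : Nat.card Z ∣ 4 := h4 ▸ card_dvd_of_le hZZ0
    have hlt : Nat.card Z ≠ 4 := fun e => hZeq (eq_of_le_of_card_ge hZZ0 (by rw [h4, e]))
    have h3 : Nat.card Z ≠ 3 := fun e => by rw [e] at hd; exact absurd hd (by decide)
    omega
  have hd1 := zc_disjoint hZ S hZ2 hK.1.1
  have hd2 := zc_disjoint hZ S hZ2 hK'
  obtain ⟨z, hz, hzn⟩ := (bot_or_exists_ne_one Z).resolve_left fun e => by rw [e, card_bot] at hZ2; omega
  obtain ⟨z1, hz1, hz1n⟩ := (bot_or_exists_ne_one (Zc T K)).resolve_left fun e => by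
    rw [e, card_bot] at ha2; omega
  obtain ⟨z2, hz2, hz2n⟩ := (bot_or_exists_ne_one (Zc T K')).resolve_left fun e => by
    rw [e, card_bot] at ha2'; omega
  have hzz1 : z ≠ z1 := fun e => hzn (mem_bot.1 (hd1 ▸ mem_inf.2 ⟨hz, e ▸ hz1⟩))
  have hfour := fun {u : G} (hu : u ∈ Z0) =>
    four_cases hZe h4 (hZZ0 hz) (Zc_le T K hz1) hzn hz1n hzz1 hu
  have hz2e : z2 = z * z1 := by
    rcases hfour (Zc_le T K' hz2) with e | e | e | e
    · exact absurd e hz2n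
    · exact absurd (mem_bot.1 (hd2 ▸ mem_inf.2 ⟨hz, e ▸ hz2⟩)) hzn
    · exact absurd (mem_bot.1 (hdis ▸ mem_inf.2 ⟨hz1, e ▸ hz2⟩)) hz1n
    · exact e
  obtain ⟨s, hs, hsz⟩ : ∃ s ∈ T, s * z1 * s⁻¹ ≠ z1 := by
    by_contra hno
    push Not at hno
    exact hz1n (mem_bot.1 (hd1 ▸ mem_inf.2 ⟨mem_omegaCenterOf.2
      ⟨jof_le T (omegaCenterOf_le _ (Zc_le T K hz1)), fun y hy => mul_inv_eq_iff_eq_mul.1 (hno y hy),
        (mem_omegaCenterOf.1 (Zc_le T K hz1)).2.2⟩, hz1⟩))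
  have hsn : s ∈ normalizer (Z0 : Set G) := normalizer_le_omegaCenterOf _
    (Cfsg.Lib.Thompson.normalizer_le_normalizer_thompson T (le_normalizer hs))
  have hsz2 : s * z1 * s⁻¹ = z2 := by
    rcases hfour (conj_mem hsn (Zc_le T K hz1)) with e | e | e | e
    · refine absurd ?_ hz1n
      calc z1 = s⁻¹ * (s * z1 * s⁻¹) * s := by group
        _ = 1 := by rw [e]; group
    · refine absurd ?_ hzz1
      calc z = s⁻¹ * (s * z) := by group
        _ = s⁻¹ * (z * s) := by rw [(mem_omegaCenterOf.1 hz).2.1 s hs]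
        _ = s⁻¹ * (s * z1 * s⁻¹ * s) := by rw [e]
        _ = z1 := by group
    · exact absurd e hsz
    · exact e.trans hz2e.symm
  refine hK'L fun k hk => ?_
  have hk2 := mem_centralizer_singleton_iff.1 (Zc_cen hz2 (mem_sup_left hk))
  rw [← hsz2] at hk2
  have hm : s⁻¹ * k * s ∈ centralizer ({z1} : Set G) := mem_centralizer_singleton_iff.2 (by
    calc s⁻¹ * k * s * z1 = s⁻¹ * (k * (s * z1 * s⁻¹)) * s := by group
      _ = s⁻¹ * (s * z1 * s⁻¹ * k) * s := by rw [hk2]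
      _ = _ := by group)
  have hh := mul_mem (mul_mem (hset.syl.1 hs) (cen_zc_le hLmax huniq hz1 hz1n hm)) (inv_mem (hset.syl.1 hs))
  rwa [show s * (s⁻¹ * k * s) * s⁻¹ = k by group] at hh

/-- `T` normalizes the components outside. -/
theorem T_le_normalizer (hO : Cfsg.pCore 2 G = ⊥) {S : Sylow 2 G} {M : Subgroup G} (hM : Cfsg.IsTwoLocal M)
    (hMJ : normalizer (Jof (S : Subgroup G) : Set G) ≤ M) {T : Subgroup G}
    (hT : T ∈ Cfsg.maxStraddlingTwoSubgroups M) {K : Subgroup G} (hK : K ∈ Cfsg.jComponentsOutside M T) :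
    T ≤ normalizer (K : Set G) := by
  obtain ⟨L, hLmax, hKL, -, -, -, -, hset⟩ := unique_maximal hL hN hZ hMJ hT hK
  have hSM : (S : Subgroup G) ≤ M :=
    (le_normalizer.trans (Cfsg.Lib.Thompson.normalizer_le_normalizer_thompson _)).trans hMJ
  obtain ⟨m, hm, hle⟩ := exists_conj_le (sylowIn_of_sylow S hSM) hT.1.2.2.1 hT.1.1
  set S' : Sylow 2 G := m • S
  have hS' : (S' : Subgroup G) = cj m (S : Subgroup G) := sylow_smul_coe S m
  have hMJ' : normalizer (Jof (S' : Subgroup G) : Set G) ≤ M := by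
    rw [hS', jof_cj, normalizer_cj, ← cj_eq_self (le_normalizer hm : m ∈ normalizer (M : Set G))]
    exact map_mono hMJ
  have hTS' : T ≤ (S' : Subgroup G) := hS' ▸ hle
  have hcen : ∀ t ∈ T, ∀ u ∈ Cfsg.omegaCenterOf (Jof T), t * u = u * t := by
    intro t ht u hu
    rcases center_cases hL hN hZ hO hM hMJ' hT hTS' hK hLmax hKL with ⟨e, -⟩ | ⟨e, -⟩ | ⟨e, -⟩
    · exact (mem_omegaCenterOf.1 (e ▸ hu)).2.1 t (hTS' ht)
    · exact (mem_omegaCenterOf.1 (e ▸ hu)).2.1 t (hTS' ht)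
    · exact (mem_omegaCenterOf.1 (e ▸ hu)).2.1 t ht
  refine hset.T_normalizes hK.1.1 (le_sup_left.trans hKL) fun e => ?_
  have h2 := (main_center hT.1.1 hK.1.1).1
  obtain ⟨w, hw, hw1⟩ := (bot_or_exists_ne_one (Cfsg.omegaCenterOf (Jof T) ⊓ Cfsg.wOf K)).resolve_left
    fun e' => by rw [e', card_bot] at h2; omega
  obtain ⟨hw0, hwW⟩ := mem_inf.1 hw
  have : w ∈ T ⊓ centralizer (T : Set G) ⊓ Cfsg.wOf K := mem_inf.2 ⟨mem_inf.2
    ⟨jof_le T (omegaCenterOf_le _ hw0), mem_centralizer_iff.2 fun t ht => hcen t ht w hw0⟩, hwW⟩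
  rw [e, mem_bot] at this
  exact hw1 this

end Cfsg.Lib.JComp
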