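import Cfsg.Agent.JComp.Basic
import Cfsg.Agent.PGroups.Bounds

/-!
The bound for `W_K` and the position of `Ω₁Z(J)` with respect to a `J`-component.
-/

set_option autoImplicit false
set_option linter.unusedSectionVars false
set_option linter.style.haveILetI false

namespace Cfsg.Lib.JComp

open Subgroup
open scoped commutatorElement

variable {G : Type*} [Group G]

/-- The first three conditions on a component. -/
structure Tri (K J : Subgroup G) : Prop where
  gen : oddGen K = K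
  comm : ⁅K, J⁆ = K
  idx : (Cfsg.pCoreOf 2 K).relIndex K = 3

theorem tri_of_comp {T K : Subgroup G} (h : Cfsg.IsJComponent T K) : Tri K (Jof T) := ⟨h.1, h.2.1, h.2.2.1⟩

/-- The elements normalizing `K` and centralizing it modulo its 2-core. -/
def kCen (K : Subgroup G) : Subgroup G where
  carrier := {g | g ∈ normalizer (K : Set G) ∧ ∀ k ∈ K, ⁅k, g⁆ ∈ Cfsg.pCoreOf 2 K}
  one_mem' := ⟨one_mem _, fun k _ => by rw [commutatorElement_one_right]; exact one_mem _⟩
  mul_mem' := fun {g h} hg hh => ⟨mul_mem hg.1 hh.1, fun k hk => by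
    rw [show ⁅k, g * h⁆ = ⁅k, g⁆ * (g * ⁅k, h⁆ * g⁻¹) by simp only [commutatorElement_def]; group]
    exact mul_mem (hg.2 k hk) (conj_mem (normalizer_le_pCoreOf 2 K hg.1) (hh.2 k hk))⟩
  inv_mem' := fun {g} hg => ⟨inv_mem hg.1, fun k hk => by
    rw [show ⁅k, g⁻¹⁆ = g⁻¹ * ⁅k, g⁆⁻¹ * g⁻¹⁻¹ by simp only [commutatorElement_def]; group]
    exact conj_mem (inv_mem (normalizer_le_pCoreOf 2 K hg.1)) (inv_mem (hg.2 k hk))⟩

theorem mem_kCen {K : Subgroup G} {g : G} :
    g ∈ kCen K ↔ g ∈ normalizer (K : Set G) ∧ ∀ k ∈ K, ⁅k, g⁆ ∈ Cfsg.pCoreOf 2 K := Iff.rfl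

variable [Finite G] {K J : Subgroup G}

theorem le_normalizer_pCoreOf (K : Subgroup G) : K ≤ normalizer (Cfsg.pCoreOf 2 K : Set G) :=
  le_normalizer.trans (normalizer_le_pCoreOf 2 K)

namespace Tri

theorem J_norm (h : Tri K J) : J ≤ normalizer (K : Set G) := by
  have := Cfsg.Lib.Coprime.le_normalizer_commutator_right J K
  rwa [h.comm] at this

theorem not_le_core (h : Tri K J) : ¬ K ≤ Cfsg.pCoreOf 2 K := fun hle => by
  have := h.idx
  rw [relIndex_eq_one.2 hle] at this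
  omega

theorem not_le_kCen (h : Tri K J) : ¬ J ≤ kCen K := fun hle => h.not_le_core (by
  conv_lhs => rw [← h.comm]
  exact commutator_le.2 fun k hk j hj => (mem_kCen.1 (hle hj)).2 k hk)

theorem not_two_group (h : Tri K J) : ¬ IsPGroup 2 K := fun hK =>
  h.not_le_core (le_pCoreOf hK le_rfl le_normalizer)

theorem exists_order3 (h : Tri K J) : ∃ x ∈ K, orderOf x = 3 := by
  haveI : Fact (Nat.Prime 3) := ⟨Nat.prime_three⟩
  obtain ⟨x, hx⟩ := exists_prime_orderOf_dvd_card' (G := K) 3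
    (h.idx ▸ relIndex_dvd_card (Cfsg.pCoreOf 2 K) K)
  exact ⟨x, x.2, by rw [Subgroup.orderOf_coe]; exact hx⟩

theorem gen3 (h : Tri K J) {x : G} (hx : x ∈ K) (hx3 : orderOf x = 3) :
    x ∉ Cfsg.pCoreOf 2 K ∧ K = Cfsg.pCoreOf 2 K ⊔ zpowers x := by
  set O := Cfsg.pCoreOf 2 K
  have hxO : x ∉ O := fun hO => by
    have := eq_one_of_odd (isPGroup_pCoreOf K) hO (by rw [hx3]; decide)
    rw [this, orderOf_one] at hx3
    omega
  refine ⟨hxO, le_antisymm (relIndex_eq_one.1 ?_) (sup_le (pCoreOf_le K) (zpowers_le.2 hx))⟩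
  have hm := relIndex_mul_relIndex O (O ⊔ zpowers x) K le_sup_left (sup_le (pCoreOf_le K) (zpowers_le.2 hx))
  rw [h.idx] at hm
  rcases (Nat.dvd_prime Nat.prime_three).1 (Dvd.intro _ hm) with h1 | h1
  · exact absurd (le_sup_right.trans (relIndex_eq_one.1 h1) (mem_zpowers x)) hxO
  · rw [h1] at hm; omega

theorem mem_cases (h : Tri K J) {x : G} (hx : x ∈ K) (hx3 : orderOf x = 3) {k : G} (hk : k ∈ K) :
    ∃ o ∈ Cfsg.pCoreOf 2 K, ∃ i : ℕ, i < 3 ∧ k = o * x ^ i := by
  have hn : zpowers x ≤ normalizer (Cfsg.pCoreOf 2 K : Set G) :=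
    (zpowers_le.2 hx).trans (le_normalizer_pCoreOf K)
  rw [(h.gen3 hx hx3).2] at hk
  obtain ⟨o, ho, y, hy, rfl⟩ := (Cfsg.Lib.Coprime.mem_sup_of_le_normalizer hn).1 hk
  obtain ⟨n, rfl⟩ := mem_powers_iff_mem_zpowers.2 hy
  exact ⟨o, ho, n % 3, Nat.mod_lt _ (by omega), by rw [← hx3, pow_mod_orderOf]⟩

theorem exists_inverted (h : Tri K J) {a : G} (haK : a ∈ normalizer (K : Set G)) (ha2 : a * a = 1)
    (hna : a ∉ kCen K) : ∃ x ∈ K, orderOf x = 3 ∧ a * x * a = x⁻¹ := by
  set O := Cfsg.pCoreOf 2 K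
  have hai : a⁻¹ = a := inv_eq_of_mul_eq_one_right ha2
  obtain ⟨k, hk, hkO⟩ : ∃ k ∈ K, ⁅k, a⁆ ∉ O := by
    by_contra hno
    push Not at hno
    exact hna ⟨haK, hno⟩
  set y := ⁅k, a⁆ with hy
  have hyK : y ∈ K := by
    rw [hy, commutatorElement_def, mul_assoc, mul_assoc]
    exact mul_mem hk (by simpa [mul_assoc] using conj_mem haK (inv_mem hk))
  have hay : a * y * a⁻¹ = y⁻¹ := by
    rw [hy, commutatorElement_def, hai]
    simp only [mul_inv_rev, inv_inv, hai, mul_assoc, ha2, mul_one]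
  obtain ⟨s, hs⟩ := exists_odd_pow y
  set x := y ^ 2 ^ s with hx
  have hxK : x ∈ K := pow_mem hyK _
  haveI : (O.subgroupOf K).Normal := normal_subgroupOf_of_le_normalizer (le_normalizer_pCoreOf K)
  have hp3 : ∀ z ∈ K, z ^ 3 ∈ O := fun z hz => by
    have := Subgroup.pow_index_mem (O.subgroupOf K) ⟨z, hz⟩
    rw [mem_subgroupOf, show (O.subgroupOf K).index = 3 from h.idx] at this
    exact this
  have hxO : x ∉ O := fun hxO => hkO (by
    have h1 : ((⟨y, hyK⟩ : K) : K ⧸ O.subgroupOf K) ^ 2 ^ s = 1 := by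
      rw [← QuotientGroup.mk_pow, QuotientGroup.eq_one_iff, mem_subgroupOf]
      exact hxO
    have h2 : ((⟨y, hyK⟩ : K) : K ⧸ O.subgroupOf K) ^ 3 = 1 := by
      rw [← QuotientGroup.mk_pow, QuotientGroup.eq_one_iff, mem_subgroupOf]
      exact hp3 y hyK
    have h3 := pow_gcd_eq_one.2 ⟨h1, h2⟩
    rw [show Nat.gcd (2 ^ s) 3 = 1 from Nat.Coprime.pow_left s (by decide), pow_one,
      QuotientGroup.eq_one_iff, mem_subgroupOf] at h3
    exact h3)
  have hx3 : x ^ 3 = 1 := eq_one_of_odd (isPGroup_pCoreOf K) (hp3 x hxK)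
    (Odd.of_dvd_nat hs (orderOf_pow_dvd 3))
  haveI : Fact (Nat.Prime 3) := ⟨Nat.prime_three⟩
  refine ⟨x, hxK, orderOf_eq_prime hx3 fun e => hxO (e ▸ one_mem _), ?_⟩
  conv_lhs => arg 2; rw [← hai]
  rw [hx, ← conj_pow, hay, inv_pow]

theorem mover (h : Tri K J) {x : G} (hx : x ∈ K) (hx3 : orderOf x = 3) :
    Mover (Cfsg.omegaCenterOf (Cfsg.pCoreOf 2 K)) x :=
  ⟨elem_omegaCenterOf _, normalizer_le_omegaCenterOf _ (le_normalizer_pCoreOf K hx), hx3 ▸ pow_orderOf_eq_one x⟩

theorem wOf_eq (h : Tri K J) {x : G} (hx : x ∈ K) (hx3 : orderOf x = 3) :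
    Cfsg.wOf K = dlR x (Cfsg.omegaCenterOf (Cfsg.pCoreOf 2 K)) := by
  set O := Cfsg.pCoreOf 2 K
  set Z := Cfsg.omegaCenterOf O
  have hM := h.mover hx hx3
  have hOc : ∀ o ∈ O, ∀ z ∈ Z, o * z = z * o := fun o ho z hz => (mem_omegaCenterOf.1 hz).2.1 o ho
  have hcx : ∀ z ∈ Z, ⁅z, x⁆ = dl x z := fun z hz => by
    rw [commutatorElement_def, dl, show z * x * z⁻¹ * x⁻¹ = z * (x * z⁻¹ * x⁻¹) by group, elem_inv hM.elem hz]
    exact elem_comm hM.elem hz (conj_mem hM.norm hz)
  have hpow : ∀ i : ℕ, ∀ z ∈ Z, ⁅z, x ^ i⁆ ∈ dlR x Z := fun i => by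
    induction i with
    | zero => intro z _; simp
    | succ i ih =>
      intro z hz
      rw [show ⁅z, x ^ (i + 1)⁆ = ⁅z, x⁆ * (x * ⁅z, x ^ i⁆ * x⁻¹) by
        simp only [commutatorElement_def, pow_succ']; group, hcx z hz]
      exact mul_mem (hM.mem_dlR.2 ⟨z, hz, rfl⟩) (hM.conj_mem_dlR (ih z hz))
  refine le_antisymm (commutator_le.2 fun z hz k hk => ?_) fun r hr => ?_
  · obtain ⟨o, ho, i, -, rfl⟩ := h.mem_cases hx hx3 hk
    have h1 : ⁅z, o⁆ = 1 := commutatorElement_eq_one_iff_mul_comm.2 (hOc o ho z hz).symm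
    rw [show ⁅z, o * x ^ i⁆ = ⁅z, o⁆ * (o * ⁅z, x ^ i⁆ * o⁻¹) by simp only [commutatorElement_def]; group,
      h1, one_mul, hOc o ho _ (hM.dlR_le (hpow i z hz)), mul_inv_cancel_right]
    exact hpow i z hz
  · obtain ⟨v, hv, rfl⟩ := hM.mem_dlR.1 hr
    rw [← hcx v hv]
    exact commutator_mem_commutator hv hx

theorem wOf_le_core (h : Tri K J) : Cfsg.wOf K ≤ Cfsg.omegaCenterOf (Cfsg.pCoreOf 2 K) := by
  obtain ⟨x, hx, hx3⟩ := h.exists_order3
  rw [h.wOf_eq hx hx3]
  exact (h.mover hx hx3).dlR_le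

theorem kCen_comm (h : Tri K J) {x g v : G} (hx : x ∈ K) (hg : g ∈ kCen K)
    (hv : v ∈ Cfsg.omegaCenterOf (Cfsg.pCoreOf 2 K)) :
    g * (x * v * x⁻¹) * g⁻¹ = x * (g * v * g⁻¹) * x⁻¹ := by
  have ho := (mem_kCen.1 hg).2 x hx
  set o := ⁅x, g⁆ with hodef
  have hZn := normalizer_le_omegaCenterOf (Cfsg.pCoreOf 2 K)
  have hv' := conj_mem (hZn (le_normalizer_pCoreOf K hx)) (conj_mem (hZn (normalizer_le_pCoreOf 2 K hg.1)) hv)
  have e : g * x = o⁻¹ * (x * g) := by rw [hodef, commutatorElement_def]; group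
  calc g * (x * v * x⁻¹) * g⁻¹ = (g * x) * v * (g * x)⁻¹ := by group
    _ = o⁻¹ * (x * (g * v * g⁻¹) * x⁻¹) * o := by rw [e]; group
    _ = _ := by
      rw [(mem_omegaCenterOf.1 hv').2.1 o⁻¹ (inv_mem ho), mul_assoc, inv_mul_cancel, mul_one]

theorem mul_mem_kCen (h : Tri K J) {x : G} (hx : x ∈ K) (hx3 : orderOf x = 3) {g g' : G}
    (hg : g ∈ normalizer (K : Set G)) (hg' : g' ∈ normalizer (K : Set G)) (hn : g ∉ kCen K) (hn' : g' ∉ kCen K) :
    g * g' ∈ kCen K := by
  set O := Cfsg.pCoreOf 2 K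
  -- both send `x` to `O x⁻¹`
  have hkey : ∀ g ∈ normalizer (K : Set G), (g * x * g⁻¹ * x⁻¹ ∈ O → g ∈ kCen K) := by
    intro g hg hgx
    refine ⟨hg, fun k hk => ?_⟩
    obtain ⟨o, ho, i, -, rfl⟩ := h.mem_cases hx hx3 hk
    have hgO := normalizer_le_pCoreOf 2 K hg
    have hxO := le_normalizer_pCoreOf K hx
    have hi : ∀ i : ℕ, x ^ i * g * (x ^ i)⁻¹ * g⁻¹ ∈ O := by
      intro i
      induction i with
      | zero => simpa using one_mem O
      | succ i ih =>
        rw [show x ^ (i + 1) * g * (x ^ (i + 1))⁻¹ * g⁻¹ =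
          x ^ i * (g * x * g⁻¹ * x⁻¹)⁻¹ * (x ^ i)⁻¹ * (x ^ i * g * (x ^ i)⁻¹ * g⁻¹) by
            simp only [pow_succ]; group]
        exact mul_mem (conj_mem (pow_mem hxO i) (inv_mem hgx)) ih
    rw [commutatorElement_def, show o * x ^ i * g * (o * x ^ i)⁻¹ * g⁻¹ =
      o * (x ^ i * g * (x ^ i)⁻¹ * g⁻¹) * (g * o⁻¹ * g⁻¹) by group]
    exact mul_mem (mul_mem ho (hi i)) (conj_mem hgO (inv_mem ho))
  have hinv : ∀ g ∈ normalizer (K : Set G), g ∉ kCen K → g * x * g⁻¹ * x ∈ O := by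
    intro g hg hn
    obtain ⟨o, ho, i, hi, hgx⟩ := h.mem_cases hx hx3 (conj_mem hg hx)
    have hgO := normalizer_le_pCoreOf 2 K hg
    interval_cases i
    · refine absurd ?_ (h.gen3 hx hx3).1
      rw [pow_zero, mul_one] at hgx
      have hxe : x = g⁻¹ * o * g⁻¹⁻¹ := by rw [← hgx]; group
      rw [hxe]
      exact conj_mem (inv_mem hgO) ho
    · refine absurd (hkey g hg ?_) hn
      rw [hgx, pow_one, mul_inv_cancel_right]
      exact ho
    · rw [hgx, mul_assoc, ← pow_succ, show 2 + 1 = orderOf x by rw [hx3], pow_orderOf_eq_one, mul_one]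
      exact ho
  refine hkey _ (mul_mem hg hg') ?_
  have hgO := normalizer_le_pCoreOf 2 K hg
  rw [show g * g' * x * (g * g')⁻¹ * x⁻¹ =
    g * (g' * x * g'⁻¹ * x) * g⁻¹ * (g * x * g⁻¹)⁻¹ * x⁻¹ by group,
    show g * (g' * x * g'⁻¹ * x) * g⁻¹ * (g * x * g⁻¹)⁻¹ * x⁻¹ =
      g * (g' * x * g'⁻¹ * x) * g⁻¹ * (x * (g * x * g⁻¹ * x)⁻¹ * x⁻¹) * 1 by group, mul_one]
  exact mul_mem (conj_mem hgO (hinv g' hg' hn'))
    (conj_mem (le_normalizer_pCoreOf K hx) (inv_mem (hinv g hg hn)))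

end Tri

theorem exists_fixed {R A : Subgroup G} (hR : IsPGroup 2 R) (hA : IsPGroup 2 A)
    (hAR : A ≤ normalizer (R : Set G)) (hR1 : R ≠ ⊥) : ∃ z ∈ R, z ≠ 1 ∧ ∀ a ∈ A, a * z = z * a := by
  haveI : Fact (Nat.Prime 2) := ⟨Nat.prime_two⟩
  haveI : (R.subgroupOf (R ⊔ A)).Normal :=
    normal_subgroupOf_of_le_normalizer (sup_le le_normalizer hAR)
  obtain ⟨z, hzW, hzc, hzo⟩ := Cfsg.Lib.PGroups.exists_mem_center_of_normal_ne_bot
    (hR.to_sup_of_normal_left' hA hAR) (N := R.subgroupOf (R ⊔ A))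
    (by rw [Ne, subgroupOf_eq_bot, disjoint_iff, inf_eq_left.mpr le_sup_left]; exact hR1)
  refine ⟨z, hzW, fun e => ?_, fun a ha => congrArg Subtype.val (mem_center_iff.1 hzc ⟨a, mem_sup_right ha⟩)⟩
  rw [show z = 1 from Subtype.ext e, orderOf_one] at hzo
  omega

/-- Two elements outside multiply into a subgroup: it has index at most two. -/
theorem card_le_two_mul {A B : Subgroup G} {a : G} (ha : a ∈ A) (ha2 : a * a = 1)
    (h : ∀ b ∈ A, b ∉ B → b * a ∈ B) : Nat.card A ≤ 2 * Nat.card ↥(A ⊓ B) := by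
  classical
  have hle := Nat.card_le_card_of_injective
    (fun b : A => if hb : (b : G) ∈ B then ((⟨b, b.2, hb⟩ : ↥(A ⊓ B)), true)
      else ((⟨b * a, mul_mem b.2 ha, h b b.2 hb⟩ : ↥(A ⊓ B)), false))
    (fun b c hbc => by
      dsimp only at hbc
      split_ifs at hbc with h1 h2 h2
      · exact Subtype.ext (congrArg (fun z => ((z : ↥(A ⊓ B) × Bool).1 : G)) hbc)
      · exact absurd (congrArg Prod.snd hbc) (by simp)
      · exact absurd (congrArg Prod.snd hbc) (by simp)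
      · exact Subtype.ext (mul_right_cancel (congrArg (fun z => ((z : ↥(A ⊓ B) × Bool).1 : G)) hbc)))
  rw [Nat.card_prod, show Nat.card Bool = 2 by simp] at hle
  omega

/-- An inverting involution splits an invariant subgroup of the image in two halves. -/
theorem card_eq_sq {Z U : Subgroup G} {x a : G} (hM : Mover Z x) (ha2 : a * a = 1) (hax : a * x * a = x⁻¹)
    (hU : U ≤ dlR x Z) (hUx : ∀ u ∈ U, x * u * x⁻¹ ∈ U) (hUa : ∀ u ∈ U, a * u * a ∈ U) :
    Nat.card U = Nat.card ↥(U ⊓ centralizer ({a} : Set G)) ^ 2 := by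
  set C := U ⊓ centralizer ({a} : Set G) with hC
  have hmem : ∀ {u : G}, u ∈ C ↔ u ∈ U ∧ a * u * a = u := by
    intro u
    rw [hC, mem_inf, mem_centralizer_singleton_iff]
    refine and_congr Iff.rfl ⟨fun h => ?_, fun h => ?_⟩
    · rw [← h, mul_assoc, ha2, mul_one]
    · calc u * a = a * u * a * a := by rw [h]
        _ = a * u := by rw [mul_assoc, ha2, mul_one]
  have hex2 : ∀ u ∈ U, u * u = 1 := fun u hu => elem_sq hM.elem (hM.dlR_le (hU hu))
  have hcm : ∀ u ∈ U, ∀ v ∈ U, u * v = v * u := fun u hu v hv =>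
    elem_comm hM.elem (hM.dlR_le (hU hu)) (hM.dlR_le (hU hv))
  -- `x⁻¹ d x` in terms of the two others
  have hback : ∀ d : G, x⁻¹ * d * x = x * (x * d * x⁻¹) * x⁻¹ := fun d => by
    conv_lhs => rw [← hM.conj3 d]
    group
  have hconj : ∀ d : G, a * d * a = d → a * (x * d * x⁻¹) * a = x⁻¹ * d * x := by
    intro d hd
    have hai : a⁻¹ = a := inv_eq_of_mul_eq_one_right ha2
    calc a * (x * d * x⁻¹) * a = a * x * (a * d * a) * x⁻¹ * a := by rw [hd]; group
      _ = (a * x * a) * d * (a⁻¹ * x * a⁻¹)⁻¹ := by group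
      _ = x⁻¹ * d * x := by rw [hai, hax, inv_inv]
  have hbij : Function.Bijective fun p : C × C =>
      (⟨(p.1 : G) * (x * p.2 * x⁻¹), mul_mem (hmem.1 p.1.2).1 (hUx _ (hmem.1 p.2.2).1)⟩ : U) := by
    constructor
    · rintro ⟨⟨u, hu⟩, ⟨w, hw⟩⟩ ⟨⟨u', hu'⟩, ⟨w', hw'⟩⟩ he
      have he' : u * (x * w * x⁻¹) = u' * (x * w' * x⁻¹) := congrArg Subtype.val he
      set d := w * w' with hd
      have hdC : d ∈ C := mul_mem hw hw'
      have hdU := (hmem.1 hdC).1
      have hxd : x * d * x⁻¹ = u * u' := by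
        have e2 : x * w * x⁻¹ = u * u' * (x * w' * x⁻¹) := by
          calc x * w * x⁻¹ = u * u * (x * w * x⁻¹) := by rw [hex2 u (hmem.1 hu).1, one_mul]
            _ = u * (u * (x * w * x⁻¹)) := by group
            _ = _ := by rw [he']; group
        calc x * d * x⁻¹ = x * w * x⁻¹ * (x * w' * x⁻¹) := by rw [hd]; group
          _ = u * u' * (x * (w' * w') * x⁻¹) := by rw [e2]; group
          _ = _ := by rw [hex2 w' (hmem.1 hw').1]; group
      have h1 : a * (x * d * x⁻¹) * a = x * d * x⁻¹ := by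
        rw [hxd]; exact (hmem.1 (mul_mem hu hu')).2
      rw [hconj d (hmem.1 hdC).2, hback] at h1
      have h2 : x * d * x⁻¹ = d := mul_left_cancel (mul_right_cancel h1)
      have h3 : d = 1 := hM.fix_eq_one (hU hdU) h2
      have hww : w = w' := by
        calc w = w * (w' * w') := by rw [hex2 w' (hmem.1 hw').1, mul_one]
          _ = d * w' := by rw [hd]; group
          _ = w' := by rw [h3, one_mul]
      subst hww
      exact Prod.ext (Subtype.ext (mul_right_cancel he')) rfl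
    · rintro ⟨v, hv⟩
      set d := a * v * a * v with hd
      have hdU : d ∈ U := mul_mem (hUa v hv) hv
      have hdC : d ∈ C := hmem.2 ⟨hdU, by
        calc a * d * a = a * a * v * (a * v * a) := by rw [hd]; group
          _ = d := by rw [ha2, one_mul, hcm v hv _ (hUa v hv)]⟩
      set e := x * d * x⁻¹ with he
      have heU : e ∈ U := hUx d hdU
      refine ⟨⟨⟨v * e, hmem.2 ⟨mul_mem hv heU, ?_⟩⟩, ⟨d, hdC⟩⟩, Subtype.ext ?_⟩
      · set f := x * e * x⁻¹ with hf
        have hfe : a * e * a = f := by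
          rw [he, hconj d (hmem.1 hdC).2, hback]
        have hsum : d * e * f = 1 := hM.sum_eq_one (hU hdU)
        have hav : a * v * a = d * v := by
          rw [hd, mul_assoc (a * v * a) v v, hex2 v hv, mul_one]
        calc a * (v * e) * a = a * v * (a * a) * e * a := by rw [ha2]; group
          _ = (a * v * a) * (a * e * a) := by group
          _ = d * v * f := by rw [hav, hfe]
          _ = v * (d * f) := by rw [hcm d hdU v hv, mul_assoc]
          _ = v * e := by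
            congr 1
            calc d * f = d * (e * e) * f := by rw [hex2 e heU, mul_one]
              _ = d * e * (e * f) := by group
              _ = d * e * (f * e) := by rw [hcm e heU f (hUx e heU)]
              _ = d * e * f * e := by group
              _ = e := by rw [hsum, one_mul]
      · show v * e * e = v
        rw [mul_assoc, hex2 e heU, mul_one]
  rw [← Nat.card_eq_of_bijective _ hbij, Nat.card_prod, pow_two]

/-- The bound on `W_K`, and what comes with it. -/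
theorem core (h : Tri K J) {A : Subgroup G} (hAe : Cfsg.IsElementaryAbelian 2 A) (hAJ : A ≤ J)
    (hr : ∀ B, B ≤ K ⊔ J → Cfsg.IsElementaryAbelian 2 B → Nat.card B ≤ Nat.card A)
    {a : G} (ha : a ∈ A) (hna : a ∉ kCen K) :
    Nat.card ↥(Cfsg.wOf K) ≤ 4 ∧
      Nat.card A ≤ 2 * Nat.card ↥(A ⊓ kCen K) ∧
      Cfsg.wOf K ≤ centralizer (A ⊓ kCen K : Subgroup G) ∧
      Cfsg.wOf K ⊓ centralizer ({a} : Set G) ≤ centralizer (A : Set G) ∧
      Nat.card ↥(Cfsg.wOf K) = Nat.card ↥(Cfsg.wOf K ⊓ centralizer ({a} : Set G)) ^ 2 := by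
  classical
  have hAK : A ≤ normalizer (K : Set G) := hAJ.trans h.J_norm
  have ha2 := elem_sq hAe ha
  obtain ⟨x, hxK, hx3, hax⟩ := h.exists_inverted (hAK ha) ha2 hna
  have hM := h.mover hxK hx3
  have hReq := h.wOf_eq hxK hx3
  set Z := Cfsg.omegaCenterOf (Cfsg.pCoreOf 2 K) with hZ
  set R := Cfsg.wOf K with hR
  have hRZ : R ≤ Z := h.wOf_le_core
  have hAR : A ≤ normalizer (R : Set G) := hAK.trans (normalizer_le_wOf K)
  have hRe : Cfsg.IsElementaryAbelian 2 R := Cfsg.Lib.ElemToolkit.elementary_mono hRZ (elem_omegaCenterOf _)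
  have hRK : R ≤ K := hRZ.trans ((omegaCenterOf_le _).trans (pCoreOf_le K))
  set A0 := A ⊓ kCen K with hA0
  have hout : ∀ b ∈ A, b ∉ kCen K → b * a ∈ kCen K := fun b hb hbn =>
    h.mul_mem_kCen hxK hx3 (hAK hb) (hAK ha) hbn hna
  have hidx : Nat.card A ≤ 2 * Nat.card A0 := card_le_two_mul ha ha2 hout
  set F := R ⊓ centralizer (A : Set G) with hF
  -- fixed points of a subgroup of `A0`
  have hfix : ∀ A1 : Subgroup G, A1 ≤ A0 →
      Nat.card A1 * Nat.card ↥(R ⊓ centralizer (A1 : Set G)) ≤ Nat.card A * Nat.card F := by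
    intro A1 hA1
    set C := R ⊓ centralizer (A1 : Set G)
    have hA1A : A1 ≤ A := hA1.trans inf_le_left
    have hel : Cfsg.IsElementaryAbelian 2 (A1 ⊔ C) :=
      Cfsg.Lib.ElemToolkit.elementary_sup (Cfsg.Lib.ElemToolkit.elementary_mono hA1A hAe)
        (Cfsg.Lib.ElemToolkit.elementary_mono inf_le_left hRe)
        fun b hb c hc => mem_centralizer_iff.1 hc.2 b hb
    have h2 : A1 ⊓ C ≤ F := fun y hy => mem_inf.2 ⟨(mem_inf.1 (mem_inf.1 hy).2).1,
      mem_centralizer_iff.2 fun b hb => elem_comm hAe hb (hA1A (mem_inf.1 hy).1)⟩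
    exact (Cfsg.Lib.ElemToolkit.mul_card_le A1 C).trans (Nat.mul_le_mul
      (hr _ (sup_le ((hA1A.trans hAJ).trans le_sup_right) ((inf_le_left.trans hRK).trans le_sup_left)) hel)
      (Cfsg.Lib.ElemToolkit.card_le_card_of_le h2))
  have hsq : ∀ A1 : Subgroup G, A1 ≤ A0 → Nat.card ↥(R ⊓ centralizer (A1 : Set G)) =
      Nat.card ↥(R ⊓ centralizer (A1 : Set G) ⊓ centralizer ({a} : Set G)) ^ 2 := by
    intro A1 hA1
    refine card_eq_sq hM ha2 hax (inf_le_left.trans hReq.le) (fun u hu => ?_) (fun u hu => ?_)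
    · obtain ⟨hu1, hu2⟩ := mem_inf.1 hu
      refine mem_inf.2 ⟨hReq ▸ hM.conj_mem_dlR (hReq ▸ hu1), mem_centralizer_iff.2 fun b hb => ?_⟩
      have hc := h.kCen_comm hxK (mem_inf.1 (hA1 hb)).2 (hRZ hu1)
      rw [mem_centralizer_iff.1 hu2 b hb, mul_inv_cancel_right] at hc
      exact mul_inv_eq_iff_eq_mul.1 hc
    · obtain ⟨hu1, hu2⟩ := mem_inf.1 hu
      refine mem_inf.2 ⟨?_, mem_centralizer_iff.2 fun b hb => ?_⟩
      · have := conj_mem (hAR ha) hu1
        rwa [elem_inv hAe ha] at this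
      · have hbA := (hA1.trans inf_le_left) hb
        have hba := elem_comm hAe hbA ha
        have hbu := mem_centralizer_iff.1 hu2 b hb
        calc b * (a * u * a) = (b * a) * u * a := by group
          _ = a * (b * u) * a := by rw [hba]; group
          _ = a * u * (b * a) := by rw [hbu]; group
          _ = a * u * a * b := by rw [hba]; group
  have hF0 : R ⊓ centralizer (A0 : Set G) ⊓ centralizer ({a} : Set G) = F := by
    refine le_antisymm (fun u hu => mem_inf.2 ⟨(mem_inf.1 (mem_inf.1 hu).1).1, mem_centralizer_iff.2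
      fun b hb => ?_⟩) fun u hu => ?_
    · obtain ⟨hu0, hua⟩ := mem_inf.1 hu
      have hu2 := (mem_inf.1 hu0).2
      have hua' := mem_centralizer_singleton_iff.1 hua
      by_cases hbK : b ∈ kCen K
      · exact mem_centralizer_iff.1 hu2 b ⟨hb, hbK⟩
      · have h1 := mem_centralizer_iff.1 hu2 (b * a) ⟨mul_mem hb ha, hout b hb hbK⟩
        refine mul_right_cancel (b := a) ?_
        calc b * u * a = b * (a * u) := by rw [mul_assoc, hua']
          _ = u * (b * a) := by rw [← mul_assoc, h1]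
          _ = u * b * a := by group
    · obtain ⟨hu1, hu2⟩ := mem_inf.1 hu
      exact mem_inf.2 ⟨mem_inf.2 ⟨hu1, centralizer_le inf_le_left hu2⟩,
        mem_centralizer_singleton_iff.2 (mem_centralizer_iff.1 hu2 a ha).symm⟩
  have hFpos : 1 ≤ Nat.card F := Nat.card_pos
  have hF2 : Nat.card F ≤ 2 := by
    have h1 := hfix A0 le_rfl
    rw [hsq A0 le_rfl, hF0] at h1
    have h3 : Nat.card A0 * Nat.card F ≤ Nat.card A0 * 2 := by
      refine Nat.le_of_mul_le_mul_right (?_ : _ * Nat.card F ≤ _ * Nat.card F) hFpos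
      calc Nat.card A0 * Nat.card F * Nat.card F = Nat.card A0 * Nat.card F ^ 2 := by ring
        _ ≤ Nat.card A * Nat.card F := h1
        _ ≤ Nat.card A0 * 2 * Nat.card F := by
          rw [mul_comm (Nat.card A0) 2]; exact Nat.mul_le_mul_right _ hidx
    exact Nat.le_of_mul_le_mul_left h3 Nat.card_pos
  set Ra := R ⊓ centralizer ({a} : Set G) with hRa
  -- every fixed element of `a` is fixed by `A`
  have hRaF : Ra ≤ F := by
    by_contra hne
    obtain ⟨u₀, hu₀, hu₀F⟩ := SetLike.not_le_iff_exists.1 hne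
    obtain ⟨u, ⟨huRa, huF⟩, humax⟩ := Set.exists_max_image {u | u ∈ Ra ∧ u ∉ F}
      (fun u => Nat.card ↥(A0 ⊓ centralizer ({u} : Set G))) (Set.toFinite _) ⟨u₀, hu₀, hu₀F⟩
    set A1 := A0 ⊓ centralizer ({u} : Set G) with hA1
    obtain ⟨huR, hua⟩ := mem_inf.1 huRa
    have hua' := mem_centralizer_singleton_iff.1 hua
    -- outside `A1` the translate lies in `F`
    have hstep : ∀ b ∈ A0, b ∉ A1 → b * u * b * u ∈ F ∧ b * u * b * u ≠ 1 := by
      intro b hb hb1
      have hbA := (mem_inf.1 hb).1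
      have hb2 := elem_sq hAe hbA
      have hbR : b * u * b ∈ R := by
        have := conj_mem (hAR hbA) huR
        rwa [elem_inv hAe hbA] at this
      have hne1 : b * u * b * u ≠ 1 := fun e => hb1 (mem_inf.2 ⟨hb, mem_centralizer_singleton_iff.2 (by
        have e2 : b * u * b = u := by
          have := congrArg (· * u) e
          simpa [mul_assoc, elem_sq hRe huR] using this
        calc b * u = b * u * b * b := by rw [mul_assoc (b * u), hb2, mul_one]
          _ = u * b := by rw [e2])⟩)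
      refine ⟨?_, hne1⟩
      by_contra hnF
      have hRa' : b * u * b * u ∈ Ra := mem_inf.2 ⟨mul_mem hbR huR, mem_centralizer_singleton_iff.2 (by
        have hab := elem_comm hAe ha hbA
        calc b * u * b * u * a = b * u * b * (a * u) := by rw [← hua']; group
          _ = b * u * (a * b) * u := by rw [hab]; group
          _ = b * (a * u) * b * u := by rw [← hua']; group
          _ = (a * b) * u * b * u := by rw [hab]; group
          _ = a * (b * u * b * u) := by group)⟩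
      have hle : A1 ⊔ zpowers b ≤ A0 ⊓ centralizer ({b * u * b * u} : Set G) := by
        refine sup_le (fun c hc => ?_) (zpowers_le.2 ?_)
        · obtain ⟨hc0, hcu⟩ := mem_inf.1 hc
          have hcb : Commute c b := elem_comm hAe (mem_inf.1 hc0).1 hbA
          have hcu' : Commute c u := mem_centralizer_singleton_iff.1 hcu
          exact mem_inf.2 ⟨hc0, mem_centralizer_singleton_iff.2
            (((hcb.mul_right hcu').mul_right hcb).mul_right hcu').eq⟩
        · refine mem_inf.2 ⟨hb, mem_centralizer_singleton_iff.2 ?_⟩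
          have hcomm := elem_comm hRe hbR huR
          calc b * (b * u * b * u) = (b * b) * u * b * u := by group
            _ = u * b * u := by rw [hb2, one_mul]
            _ = (b * b) * (u * b) * u * (b * b) := by rw [hb2, one_mul, mul_one]
            _ = b * (b * u * b * u) * b * b := by group
            _ = b * (u * (b * u * b)) * b * b := by rw [hcomm]
            _ = b * u * b * u * (b * b) * b := by group
            _ = _ := by rw [hb2, mul_one]
      have hlt : A1 < A0 ⊓ centralizer ({b * u * b * u} : Set G) := lt_of_le_of_ne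
        (le_sup_left.trans hle) fun e => hb1 (e ▸ hle (mem_sup_right (mem_zpowers b)))
      have h9 := humax _ ⟨hRa', hnF⟩
      exact absurd (eq_of_le_of_card_ge hlt.le h9) hlt.ne
    have hidx1 : Nat.card A0 ≤ 2 * Nat.card A1 := by
      by_cases hall : A0 ≤ A1
      · have := Cfsg.Lib.ElemToolkit.card_le_card_of_le hall
        omega
      obtain ⟨c, hc, hc1⟩ := SetLike.not_le_iff_exists.1 hall
      have hA0A1 : A0 ⊓ A1 = A1 := inf_eq_right.2 inf_le_left
      rw [← hA0A1]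
      refine card_le_two_mul hc (elem_sq hAe (mem_inf.1 hc).1) fun b hb hb1 => ?_
      refine mem_inf.2 ⟨mul_mem hb hc, mem_centralizer_singleton_iff.2 ?_⟩
      obtain ⟨hbF, hbne⟩ := hstep b hb hb1
      obtain ⟨hcF, hcne⟩ := hstep c hc hc1
      have he : b * u * b * u = c * u * c * u := by
        by_contra hd
        have hsub : ({⟨1, one_mem F⟩, ⟨_, hbF⟩, ⟨_, hcF⟩} : Finset F).card = 3 := by
          simp [Subtype.ext_iff, hbne.symm, hcne.symm, hd]
        letI := Fintype.ofFinite F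
        have := Finset.card_le_univ ({⟨1, one_mem F⟩, ⟨_, hbF⟩, ⟨_, hcF⟩} : Finset F)
        rw [hsub, ← Nat.card_eq_fintype_card] at this
        omega
      have he' : b * u * b = c * u * c := mul_right_cancel he
      have hb2 := elem_sq hAe (mem_inf.1 hb).1
      have hc2 := elem_sq hAe (mem_inf.1 hc).1
      have hbc := elem_comm hAe (mem_inf.1 hb).1 (mem_inf.1 hc).1
      calc b * c * u = c * b * u * (b * b) := by rw [hb2, mul_one, hbc]
        _ = c * (b * u * b) * b := by group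
        _ = (c * c) * u * (c * b) := by rw [he']; group
        _ = u * (b * c) := by rw [hc2, one_mul, hbc]
    set U := R ⊓ centralizer (A1 : Set G)
    have huU : u ∈ U ⊓ centralizer ({a} : Set G) := mem_inf.2 ⟨mem_inf.2 ⟨huR, mem_centralizer_iff.2
      fun c hc => mem_centralizer_singleton_iff.1 (mem_inf.1 hc).2⟩, hua⟩
    have hR1 : R ≠ ⊥ := fun e => huF (by
      have h1 := huR
      rw [e, mem_bot] at h1
      rw [h1]; exact one_mem _)
    obtain ⟨z, hzR, hz1, hzA⟩ := exists_fixed (elem_isPGroup hRe) (elem_isPGroup hAe) hAR hR1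
    have hzF : z ∈ F := mem_inf.2 ⟨hzR, mem_centralizer_iff.2 hzA⟩
    have hzU : z ∈ U ⊓ centralizer ({a} : Set G) := mem_inf.2 ⟨mem_inf.2 ⟨hzR,
      centralizer_le (inf_le_left.trans inf_le_left) (mem_inf.1 hzF).2⟩,
      mem_centralizer_singleton_iff.2 (hzA a ha).symm⟩
    have hu1 : u ≠ 1 := fun e => huF (e ▸ one_mem _)
    have huz : u ≠ z := fun e => huF (e ▸ hzF)
    have h4 : 4 ≤ Nat.card ↥(U ⊓ centralizer ({a} : Set G)) := by
      have huz1 : u * z ≠ 1 := fun e => huz ((mul_eq_one_iff_eq_inv.1 e).trans (elem_inv hRe hzR))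
      have hs : ({⟨1, one_mem _⟩, ⟨u, huU⟩, ⟨z, hzU⟩, ⟨u * z, mul_mem huU hzU⟩} :
          Finset ↥(U ⊓ centralizer ({a} : Set G))).card = 4 := by
        simp [Subtype.ext_iff, hu1.symm, hz1.symm, huz, huz1.symm, hu1, hz1]
      rw [← hs]
      letI := Fintype.ofFinite ↥(U ⊓ centralizer ({a} : Set G))
      rw [Nat.card_eq_fintype_card]
      exact Finset.card_le_univ _
    have hA1A0 : A1 ≤ A0 := inf_le_left
    have h16 : 16 ≤ Nat.card U := by rw [hsq A1 hA1A0]; nlinarith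
    have h5 := hfix A1 hA1A0
    have h6 : Nat.card A1 * 16 ≤ Nat.card A1 * 8 :=
      calc Nat.card A1 * 16 ≤ Nat.card A1 * Nat.card U := Nat.mul_le_mul_left _ h16
        _ ≤ Nat.card A * Nat.card F := h5
        _ ≤ 2 * (2 * Nat.card A1) * 2 := Nat.mul_le_mul (hidx.trans (Nat.mul_le_mul_left _ hidx1)) hF2
        _ = Nat.card A1 * 8 := by ring
    have : 0 < Nat.card A1 := Nat.card_pos
    omega
  have hFeq : F = Ra := le_antisymm (fun u hu => mem_inf.2 ⟨(mem_inf.1 hu).1,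
    mem_centralizer_singleton_iff.2 (mem_centralizer_iff.1 (mem_inf.1 hu).2 a ha).symm⟩) hRaF
  have hcard : Nat.card R = Nat.card Ra ^ 2 := by
    refine card_eq_sq hM ha2 hax hReq.le (fun u hu => hReq ▸ hM.conj_mem_dlR (hReq ▸ hu)) fun u hu => ?_
    have := conj_mem (hAR ha) hu
    rwa [elem_inv hAe ha] at this
  have hR0 : R ⊓ centralizer (A0 : Set G) = R :=
    eq_of_le_of_card_ge inf_le_left (by rw [hsq A0 le_rfl, hF0, hcard, hFeq])
  refine ⟨?_, hidx, hR0 ▸ inf_le_right, hRaF.trans inf_le_right, hcard⟩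
  rw [hcard, ← hFeq]
  calc Nat.card F ^ 2 ≤ 2 ^ 2 := Nat.pow_le_pow_left hF2 2
    _ = 4 := by norm_num

end Cfsg.Lib.JComp
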