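import Cfsg.Agent.JComp.CenterCases

/-!
A component with the maximal 2-local subgroup above it in which `T` is Sylow, and the subgroup `⟨K, T⟩`.
-/

set_option autoImplicit false
set_option linter.unusedSectionVars false
set_option linter.style.haveILetI false

namespace Cfsg.Lib.JComp

open Subgroup
open scoped commutatorElement

universe u

variable {G : Type u} [Group G] [Finite G]

theorem kCen_norm (K : Subgroup G) : normalizer (K : Set G) ≤ normalizer (kCen K : Set G) := by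
  refine le_normalizer_of_conj fun n hn g hg => ?_
  obtain ⟨hg1, hg2⟩ := mem_kCen.1 hg
  refine mem_kCen.2 ⟨mul_mem (mul_mem hn hg1) (inv_mem hn), fun k hk => ?_⟩
  have h1 := hg2 _ (conj_mem (inv_mem hn) hk)
  rw [show ⁅k, n * g * n⁻¹⁆ = n * ⁅n⁻¹ * k * n⁻¹⁻¹, g⁆ * n⁻¹ by simp only [commutatorElement_def]; group]
  exact conj_mem (normalizer_le_pCoreOf 2 K hn) h1

theorem Setting.comp_core_le {T L K : Subgroup G} (h : Setting T L) (hK : Cfsg.IsJComponent T K) (hKL : K ≤ L) :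
    Cfsg.pCoreOf 2 K ≤ Pc L := by
  obtain ⟨x, a, ha, rfl, -⟩ := h.classify hK hKL
  rw [(ha.tri h).1]
  exact inf_le_right

/-- A component, its maximal 2-local subgroup, and the facts on `T`. -/
structure Good (T K L : Subgroup G) : Prop where
  comp : Cfsg.IsJComponent T K
  max : Cfsg.IsMaximalTwoLocal L
  le : K ⊔ Jof T ≤ L
  uniq : ∀ L' : Subgroup G, Cfsg.IsMaximalTwoLocal L' → K ⊔ Jof T ≤ L' → L' = L
  sett : Setting T L
  norm : T ≤ normalizer (K : Set G)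
  cen : ∀ t ∈ T, ∀ u ∈ Cfsg.omegaCenterOf (Jof T), t * u = u * t

namespace Good

variable {T K L : Subgroup G}

theorem KL (g : Good T K L) : K ≤ L := le_sup_left.trans g.le

theorem P_le (g : Good T K L) : K ⊔ T ≤ L := sup_le g.KL g.sett.syl.1

theorem T2 (g : Good T K L) : IsPGroup 2 T := g.sett.syl.2.1

theorem core_le_T (g : Good T K L) : Cfsg.pCoreOf 2 K ≤ T :=
  (g.sett.comp_core_le g.comp g.KL).trans g.sett.P_le_T

theorem local_le (g : Good T K L) {H : Subgroup G} (hH : Cfsg.IsTwoLocal H) (hle : K ⊔ Jof T ≤ H) : H ≤ L := by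
  obtain ⟨L', hL', hle'⟩ := exists_maximal_local hH
  exact g.uniq L' hL' (hle.trans hle') ▸ hle'

theorem mul_mem (g : Good T K L) {s t : G} (hs : s ∈ T) (ht : t ∈ T) (hs' : s ∉ kCen K) (ht' : t ∉ kCen K) :
    s * t ∈ kCen K := by
  obtain ⟨x, hx, hx3⟩ := (tri_of_comp g.comp).exists_order3
  exact (tri_of_comp g.comp).mul_mem_kCen hx hx3 (g.norm hs) (g.norm ht) hs' ht'

theorem norm_kCen (g : Good T K L) : K ⊔ T ≤ normalizer ((T ⊓ kCen K : Subgroup G) : Set G) := by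
  refine sup_le (le_normalizer_of_conj fun k hk q hq => ?_)
    (Cfsg.Lib.Coprime.le_normalizer_inf le_normalizer (g.norm.trans (kCen_norm K)))
  obtain ⟨hqT, hqC⟩ := mem_inf.1 hq
  refine mem_inf.2 ⟨?_, conj_mem (kCen_norm K (le_normalizer hk)) hqC⟩
  rw [show k * q * k⁻¹ = ⁅k, q⁆ * q by rw [commutatorElement_def]; group]
  exact T.mul_mem (g.core_le_T ((mem_kCen.1 hqC).2 k hk)) hqT

theorem pc_eq (g : Good T K L) : Pc (K ⊔ T) = T ⊓ kCen K := by
  refine le_antisymm (fun q hq => ?_) (le_pCoreOf (g.T2.to_le inf_le_left) (inf_le_left.trans le_sup_right)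
    g.norm_kCen)
  have hs : Cfsg.IsSylowTwoIn T (K ⊔ T) :=
    ⟨le_sup_right, g.T2, Odd.of_dvd_nat g.sett.syl.2.2 (Dvd.intro _ (relIndex_mul_relIndex T (K ⊔ T) L le_sup_right g.P_le))⟩
  have hqT := sylowIn_normal_le hs (isPGroup_pCoreOf _) (pCoreOf_le _) (le_normalizer_pCoreOf _) hq
  refine mem_inf.2 ⟨hqT, mem_kCen.2 ⟨g.norm hqT, fun k hk => ?_⟩⟩
  refine le_pCoreOf ((isPGroup_pCoreOf (K ⊔ T)).to_le inf_le_right) inf_le_left
    (Cfsg.Lib.Coprime.le_normalizer_inf le_normalizer (le_sup_left.trans (le_normalizer_pCoreOf (K ⊔ T))))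
    (mem_inf.2 (⟨?_, ?_⟩ : ⁅k, q⁆ ∈ K ∧ ⁅k, q⁆ ∈ Pc (K ⊔ T)))
  · rw [commutatorElement_def, mul_assoc, mul_assoc]
    exact K.mul_mem hk (by simpa [mul_assoc] using conj_mem (g.norm hqT) (inv_mem hk))
  · rw [commutatorElement_def]
    exact (Pc (K ⊔ T)).mul_mem (conj_mem (le_normalizer_pCoreOf _ (mem_sup_left hk)) hq) (inv_mem hq)

theorem kCen_two (g : Good T K L) : (T ⊓ kCen K).relIndex T = 2 := by
  obtain ⟨j, hj, hjn⟩ := SetLike.not_le_iff_exists.1 (tri_of_comp g.comp).not_le_kCen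
  have hjT := jof_le T hj
  rw [relIndex, index_eq_two_iff_exists_notMem_and]
  refine ⟨⟨j, hjT⟩, fun h => hjn (mem_inf.1 (mem_subgroupOf.1 h)).2, fun b => ?_⟩
  by_cases hb : (b : G) ∈ kCen K
  · exact Or.inr (mem_subgroupOf.2 (mem_inf.2 ⟨b.2, hb⟩))
  · exact Or.inl (mem_subgroupOf.2 (mem_inf.2 ⟨T.mul_mem b.2 hjT, g.mul_mem b.2 hjT hb hjn⟩))

theorem idx_three (g : Good T K L) : T.relIndex (K ⊔ T) = 3 := by
  obtain ⟨x, a, ha, hKx, hW⟩ := g.sett.classify g.comp g.KL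
  set X := Atom.X0 L x
  have hPT : Pc L ≤ T := g.sett.P_le_T
  have hTX : T ≤ normalizer (X : Set G) := fun t ht =>
    ha.stab_X0 g.sett (g.sett.syl.1 ht) fun w hw => hW ▸ conj_mem (normalizer_le_wOf K (g.norm ht)) (hW.symm ▸ hw)
  have hY : K ⊔ T = X ⊔ T := le_antisymm
    (sup_le_sup_right (hKx ▸ oddGen_le _) T)
    (sup_le (sup_le (hPT.trans le_sup_right) (zpowers_le.2 (mem_sup_left (hKx ▸ ha.x_mem_Kx)))) le_sup_right)
  rw [hY]
  haveI : (X.subgroupOf (X ⊔ T)).Normal := normal_subgroupOf_of_le_normalizer (sup_le le_normalizer hTX)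
  have h1 : X.relIndex (X ⊔ T) = X.relIndex T := by
    have h2 := Subgroup.relIndex_sup_right (H := T.subgroupOf (X ⊔ T)) (K := X.subgroupOf (X ⊔ T))
    rw [← subgroupOf_sup le_sup_right le_sup_left, sup_comm T X, subgroupOf_self, relIndex_top_right,
      relIndex_subgroupOf le_sup_right] at h2
    exact h2
  have h3 : X ⊓ T = Pc L := le_antisymm (ha.two_mem g.sett (g.T2.to_le inf_le_right) inf_le_left)
    (le_inf le_sup_left hPT)
  have h4 : X.relIndex T = (Pc L).relIndex T := by rw [← inf_relIndex_right, h3]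
  have h5 : (Pc L).relIndex T * T.relIndex (X ⊔ T) = 3 * (Pc L).relIndex T := by
    rw [relIndex_mul_relIndex _ _ _ hPT le_sup_right, ← relIndex_mul_relIndex (Pc L) X (X ⊔ T) le_sup_left le_sup_left,
      h1, h4, ha.idx_X0 g.sett]
  have h6 : 0 < (Pc L).relIndex T := Nat.pos_of_ne_zero fun e => by
    have := relIndex_dvd_card (Pc L) T
    rw [e, zero_dvd_iff] at this
    exact Nat.card_pos.ne' this
  rw [mul_comm 3] at h5
  exact Nat.eq_of_mul_eq_mul_left h6 h5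

theorem syl_P (g : Good T K L) : Cfsg.IsSylowTwoIn T (K ⊔ T) :=
  ⟨le_sup_right, g.T2, by rw [g.idx_three]; decide⟩

theorem idx_six (g : Good T K L) : (Pc (K ⊔ T)).relIndex (K ⊔ T) = 6 := by
  rw [g.pc_eq, ← relIndex_mul_relIndex (T ⊓ kCen K) T (K ⊔ T) inf_le_left le_sup_right, g.kCen_two, g.idx_three]

theorem P_cen (g : Good T K L) : centralizer (Pc (K ⊔ T) : Set G) ≤ Pc (K ⊔ T) := by
  have h : Pc L ≤ Pc (K ⊔ T) :=
    le_pCoreOf (isPGroup_pCoreOf L) (g.sett.P_le_T.trans le_sup_right) (g.P_le.trans g.sett.P_norm)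
  exact ((centralizer_le h).trans g.sett.cen).trans h

theorem P_not_comm (g : Good T K L) : ¬ ⁅K ⊔ T, K ⊔ T⁆ ≤ Pc (K ⊔ T) := fun h =>
  (tri_of_comp g.comp).not_two_group ((isPGroup_pCoreOf (p := 2) (K ⊔ T)).to_le (le_trans
    ((tri_of_comp g.comp).comm.ge.trans (commutator_mono le_sup_left ((jof_le T).trans le_sup_right))) h))

theorem omega_eq (g : Good T K L) : Cfsg.omegaCenterOf T = Cfsg.omegaCenterOf (Jof T) :=
  le_antisymm (omega_le_omega_jof T) fun u hu =>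
    mem_omegaCenterOf.2 ⟨jof_le T (omegaCenterOf_le _ hu), fun t ht => g.cen t ht u hu,
      (mem_omegaCenterOf.1 hu).2.2⟩

/-- `K` does not centralize `Ω₁Z(T)`. -/
theorem exists_moved (g : Good T K L) : ∃ w ∈ Cfsg.omegaCenterOf T, ∃ k ∈ K, k * w ≠ w * k := by
  have h2 := (main_center g.T2 g.comp).1
  obtain ⟨w, hw, hw1⟩ := (bot_or_exists_ne_one (Cfsg.omegaCenterOf (Jof T) ⊓ Cfsg.wOf K)).resolve_left
    fun e => by rw [e, card_bot] at h2; omega
  obtain ⟨hw0, hwW⟩ := mem_inf.1 hw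
  obtain ⟨x, hx, hx3⟩ := (tri_of_comp g.comp).exists_order3
  refine ⟨w, g.omega_eq.symm ▸ hw0, x, hx, fun he => hw1 ?_⟩
  refine ((tri_of_comp g.comp).mover hx hx3).fix_eq_one ?_ (by rw [he, mul_inv_cancel_right])
  rwa [(tri_of_comp g.comp).wOf_eq hx hx3] at hwW

theorem P_omega (g : Good T K L) : ⁅Cfsg.omegaCenterOf T, K ⊔ T⁆ ≠ ⊥ := by
  obtain ⟨w, hw, k, hk, hne⟩ := g.exists_moved
  intro e
  have := commutator_mem_commutator hw (mem_sup_left hk : k ∈ K ⊔ T)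
  rw [e, mem_bot, commutatorElement_eq_one_iff_mul_comm] at this
  exact hne this.symm

end Good

variable (hL : Cfsg.IsCharacteristicTwoType G) (hN : ∀ N : Subgroup G, Cfsg.IsTwoLocal N → Group.IsSolvable ↥N)
  (hZ : ∀ S : Sylow 2 G, centralizer (Cfsg.omegaCenterOf (S : Subgroup G) : Set G) ≤
    normalizer ((S : Subgroup G) : Set G))

include hL hN hZ

theorem good_of_outside (hO : Cfsg.pCore 2 G = ⊥) {S : Sylow 2 G} {M : Subgroup G} (hM : Cfsg.IsTwoLocal M)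
    (hMJ : normalizer (Jof (S : Subgroup G) : Set G) ≤ M) {T : Subgroup G}
    (hT : T ∈ Cfsg.maxStraddlingTwoSubgroups M) {K : Subgroup G} (hK : K ∈ Cfsg.jComponentsOutside M T) :
    ∃ L, Good T K L := by
  obtain ⟨L, hLmax, hKL, -, huniq, -, -, hset⟩ := unique_maximal hL hN hZ hMJ hT hK
  have hSM : (S : Subgroup G) ≤ M :=
    (le_normalizer.trans (Cfsg.Lib.Thompson.normalizer_le_normalizer_thompson _)).trans hMJ
  obtain ⟨m, hm, hle⟩ := exists_conj_le (sylowIn_of_sylow S hSM) hT.1.2.2.1 hT.1.1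
  set S' : Sylow 2 G := m • S
  have hS' : (S' : Subgroup G) = cj m (S : Subgroup G) := sylow_smul_coe S m
  have hMJ' : normalizer (Jof (S' : Subgroup G) : Set G) ≤ M := by
    rw [hS', jof_cj, normalizer_cj, ← cj_eq_self (le_normalizer hm : m ∈ normalizer (M : Set G))]
    exact map_mono hMJ
  have hTS' : T ≤ (S' : Subgroup G) := hS' ▸ hle
  refine ⟨L, hK.1.1, hLmax, hKL, huniq, hset, T_le_normalizer hL hN hZ hO hM hMJ hT hK, fun t ht u hu => ?_⟩
  rcases center_cases hL hN hZ hO hM hMJ' hT hTS' hK hLmax hKL with ⟨e, -⟩ | ⟨e, -⟩ | ⟨e, -⟩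
  · exact (mem_omegaCenterOf.1 (e ▸ hu)).2.1 t (hTS' ht)
  · exact (mem_omegaCenterOf.1 (e ▸ hu)).2.1 t (hTS' ht)
  · exact (mem_omegaCenterOf.1 (e ▸ hu)).2.1 t ht

end Cfsg.Lib.JComp
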