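import Cfsg.Agent.JComp.Second
import Cfsg.Agent.LocalEven.Goldschmidt.Setup

/-!
The two subgroups `⟨K, T⟩` are maximal 2-local subgroups of shape `S₄` or `S₄ × 2`.
-/

set_option autoImplicit false
set_option linter.unusedSectionVars false
set_option linter.style.haveILetI false

namespace Cfsg.Lib.JComp

open Subgroup
open scoped commutatorElement

universe u

variable {G : Type u} [Group G] [Finite G]

theorem pCoreOf_subgroupOf {P X : Subgroup G} (h : P ≤ X) :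
    Cfsg.pCoreOf 2 (P.subgroupOf X) = (Cfsg.pCoreOf 2 P).subgroupOf X := by
  refine le_antisymm ?_ ?_
  · refine map_le_iff_le_comap.1 (le_pCoreOf ((isPGroup_pCoreOf _).map _) ?_ (le_normalizer_of_conj ?_))
    · exact (map_mono (pCoreOf_le _)).trans (le_of_eq (map_subgroupOf_eq_of_le h))
    · rintro g hg _ ⟨a, ha, rfl⟩
      exact ⟨⟨g, h hg⟩ * a * ⟨g, h hg⟩⁻¹,
        conj_mem (le_normalizer_pCoreOf _ (mem_subgroupOf.2 hg : (⟨g, h hg⟩ : X) ∈ P.subgroupOf X)) ha, rfl⟩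
  · refine le_pCoreOf ((isPGroup_pCoreOf P).of_equiv (subgroupOfEquivOfLe ((pCoreOf_le P).trans h)).symm)
      (fun a ha => mem_subgroupOf.2 (pCoreOf_le P (mem_subgroupOf.1 ha))) (le_normalizer_of_conj ?_)
    intro g hg a ha
    exact mem_subgroupOf.2 (conj_mem (le_normalizer_pCoreOf P (mem_subgroupOf.1 hg)) (mem_subgroupOf.1 ha))

theorem perm_four_sq : ∀ s : Equiv.Perm (Fin 4), s ^ 8 = 1 → (∀ g, (s * (g * s * g⁻¹)) ^ 8 = 1) → s * s = 1 := by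
  decide +kernel

theorem core_sq {P : Subgroup G} (φ : P →* Equiv.Perm (Fin 4)) (hs : Function.Surjective φ)
    (hi : ∀ p : P, φ (p * p) = 1 → p * p = 1) : ∀ q ∈ Pc P, q * q = 1 := by
  intro q hq
  have h8 : ∀ r : P, (r : G) ∈ Pc P → φ r ^ 8 = 1 := by
    intro r hr
    obtain ⟨k, hk⟩ := isPGroup_pCoreOf P ⟨r, hr⟩
    have h1 : φ r ^ 2 ^ k = 1 := by
      rw [← map_pow, show r ^ 2 ^ k = 1 from Subtype.ext (congrArg Subtype.val hk : (r : G) ^ 2 ^ k = 1), map_one]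
    have h2 : orderOf (φ r) ∣ 8 * 3 := by
      have := orderOf_dvd_natCard (φ r)
      rwa [Nat.card_perm, Nat.card_fin] at this
    exact orderOf_dvd_iff_pow_eq_one.1 ((Nat.Coprime.coprime_dvd_left (orderOf_dvd_of_pow_eq_one h1)
      (Nat.Coprime.pow_left k (by decide : Nat.Coprime 2 3))).dvd_of_dvd_mul_right h2)
  set p : P := ⟨q, pCoreOf_le P hq⟩
  refine congrArg Subtype.val (hi p ?_)
  rw [map_mul]
  refine perm_four_sq _ (h8 p hq) fun g => ?_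
  obtain ⟨r, rfl⟩ := hs g
  rw [← map_inv, ← map_mul, ← map_mul, ← map_mul]
  exact h8 _ (mul_mem hq (conj_mem (le_normalizer_pCoreOf P r.2) hq))

theorem card_dvd_and_core_sq {P : Subgroup G}
    (h : Nonempty (P ≃* Equiv.Perm (Fin 4)) ∨ Nonempty (P ≃* Multiplicative (ZMod 2) × Equiv.Perm (Fin 4))) :
    Nat.card P ∣ 48 ∧ ∀ q ∈ Pc P, q * q = 1 := by
  have h4 : Nat.card (Equiv.Perm (Fin 4)) = 24 := by rw [Nat.card_perm, Nat.card_fin]; rfl
  rcases h with ⟨⟨e⟩⟩ | ⟨⟨e⟩⟩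
  · refine ⟨?_, core_sq e.toMonoidHom e.surjective fun p hp => e.injective (hp.trans (map_one e).symm)⟩
    rw [Nat.card_congr e.toEquiv, h4]; decide
  · refine ⟨?_, core_sq ((MonoidHom.snd _ _).comp e.toMonoidHom) (fun g => ⟨e.symm (1, g), by simp⟩) fun p hp => ?_⟩
    · rw [Nat.card_congr e.toEquiv, Nat.card_prod, h4,
        show Nat.card (Multiplicative (ZMod 2)) = 2 by simp [Nat.card_eq_fintype_card]]
    · refine e.injective ?_
      rw [map_one]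
      refine Prod.ext ?_ hp
      rw [map_mul, Prod.fst_mul]
      exact (show ∀ a : Multiplicative (ZMod 2), a * a = 1 by decide) _

/-- The data of a maximal 2-local subgroup of shape `S₄` or `S₄ × 2`: an element `x` of order 3 and its four-group `W`. -/
structure Frame (T L : Subgroup G) (x : G) (W : Subgroup G) : Prop where
  max : Cfsg.IsMaximalTwoLocal L
  syl : Cfsg.IsSylowTwoIn T L
  idx : T.relIndex L = 3
  two : (Pc L).relIndex T = 2
  elem : Cfsg.IsElementaryAbelian 2 (Pc L)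
  cen : centralizer (Pc L : Set G) ≤ Pc L
  card_core : Nat.card (Pc L) = 4 ∨ Nat.card (Pc L) = 8
  W4 : Nat.card W = 4
  WQ : W ≤ Pc L
  xL : x ∈ L
  x3 : x ^ 3 = 1
  Wn : L ≤ normalizer (W : Set G)
  fix_one : ∀ w ∈ W, x * w * x⁻¹ = w → w = 1
  center_two : Nat.card ↥(Cfsg.omegaCenterOf T ⊓ W) = 2
  fixed : ∀ l ∈ L, ∀ c ∈ Pc L, x * c * x⁻¹ = c → l * c * l⁻¹ = c
  split : ∀ v ∈ Pc L, ∃ c ∈ Pc L, ∃ r ∈ W, x * c * x⁻¹ = c ∧ v = c * r
  is_comm : ∀ w ∈ W, ∃ v ∈ Pc L, x * v * x⁻¹ * v = w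

theorem Good.frame {T K L : Subgroup G} (g : Good T K L) (hcard : Nat.card ↥(K ⊔ T) ∣ 48)
    (hsq : ∀ q ∈ Pc (K ⊔ T), q * q = 1) : K ⊔ T = L ∧ ∃ x W, Frame T L x W := by
  classical
  set P := K ⊔ T with hPdef
  set Q := Pc P
  have hQe : Cfsg.IsElementaryAbelian 2 Q := elem_of_sq hsq
  have hPQ : Pc L ≤ Q :=
    le_pCoreOf (isPGroup_pCoreOf L) (g.sett.P_le_T.trans le_sup_right) (g.P_le.trans g.sett.P_norm)
  have hQeq : Q = Pc L := le_antisymm (fun q hq => g.sett.cen (mem_centralizer_iff.2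
    fun p hp => elem_comm hQe (hPQ hp) hq)) hPQ
  have hVQ : Vm L = Q := by
    refine le_antisymm ((omegaCenterOf_le _).trans hQeq.ge) fun q hq => mem_omegaCenterOf.2 ⟨hQeq ▸ hq, fun p hp => ?_, hsq q hq⟩
    exact elem_comm hQe (hQeq.ge hp) hq
  have h6 : Q.relIndex P = 6 := g.idx_six
  have hQcard : Nat.card Q ∣ 8 := by
    have h1 := relIndex_mul_relIndex (⊥ : Subgroup G) Q P bot_le (pCoreOf_le P)
    rw [relIndex_bot_left, relIndex_bot_left, h6] at h1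
    rw [← h1] at hcard
    exact Nat.dvd_of_mul_dvd_mul_right (by norm_num : 0 < 6) hcard
  obtain ⟨x, a, ha, hKx, hW⟩ := g.sett.classify g.comp g.KL
  have hM := ha.mover g.sett
  set W := dlR x (Vm L) with hWdef
  have hW4 : Nat.card W = 4 := ha.card_eq g.sett
  -- the fixed points of `x`
  set C := Vm L ⊓ centralizer ({x} : Set G)
  have hfix : ∀ c ∈ C, x * c * x⁻¹ = c := fun c hc => by
    rw [← mem_centralizer_singleton_iff.1 (mem_inf.1 hc).2, mul_inv_cancel_right]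
  have hC2 : Nat.card C ≤ 2 := by
    have h1 := card_mul_le_of_disjoint (A := C) (B := W) (C := Vm L) inf_le_left hM.dlR_le
      (eq_bot_iff.2 fun c hc => mem_bot.2 (hM.fix_eq_one (mem_inf.1 hc).2 (hfix c (mem_inf.1 hc).1)))
    rw [hW4] at h1
    have h2 : Nat.card (Vm L) ≤ 8 := hVQ ▸ Nat.le_of_dvd (by norm_num) hQcard
    omega
  have htwo : ∀ c ∈ C, ∀ d ∈ C, c ≠ 1 → d ≠ 1 → c = d := by
    intro c hc d hd hc1 hd1
    by_contra hne
    have hs : ({⟨1, one_mem C⟩, ⟨c, hc⟩, ⟨d, hd⟩} : Finset C).card = 3 := by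
      simp [Subtype.ext_iff, Ne.symm hc1, Ne.symm hd1, hne]
    letI := Fintype.ofFinite C
    have := Finset.card_le_univ ({⟨1, one_mem C⟩, ⟨c, hc⟩, ⟨d, hd⟩} : Finset C)
    rw [hs, ← Nat.card_eq_fintype_card] at this
    omega
  have hN0C : ∀ n ∈ N0 T L, ∀ c ∈ C, n * c * n⁻¹ = c := by
    intro n hn c hc
    by_cases hc1 : c = 1
    · rw [hc1]; group
    have hnL := g.sett.N0_le hn
    have hm : n * c * n⁻¹ ∈ C := by
      have hv := conj_mem (g.sett.V_norm hnL) (mem_inf.1 hc).1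
      refine mem_inf.2 ⟨hv, mem_centralizer_singleton_iff.2 ?_⟩
      obtain ⟨c0, hc0, e | e⟩ := ha.conj_cases g.sett hn
      · have h1 : (n * x * n⁻¹) * (n * c * n⁻¹) * (n * x * n⁻¹)⁻¹ = n * c * n⁻¹ := by
          rw [show (n * x * n⁻¹) * (n * c * n⁻¹) * (n * x * n⁻¹)⁻¹ = n * (x * c * x⁻¹) * n⁻¹ by group, hfix c hc]
        rw [e, show x * c0 * (n * c * n⁻¹) * (x * c0)⁻¹ = x * (c0 * (n * c * n⁻¹) * c0⁻¹) * x⁻¹ by group,
          Atom.C_V g.sett hc0 hv] at h1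
        exact (mul_inv_eq_iff_eq_mul.1 h1).symm
      · have h1 : (n * x * n⁻¹) * (n * c * n⁻¹) * (n * x * n⁻¹)⁻¹ = n * c * n⁻¹ := by
          rw [show (n * x * n⁻¹) * (n * c * n⁻¹) * (n * x * n⁻¹)⁻¹ = n * (x * c * x⁻¹) * n⁻¹ by group, hfix c hc]
        rw [e, show x⁻¹ * c0 * (n * c * n⁻¹) * (x⁻¹ * c0)⁻¹ = x⁻¹ * (c0 * (n * c * n⁻¹) * c0⁻¹) * x by group,
          Atom.C_V g.sett hc0 hv] at h1
        calc n * c * n⁻¹ * x = x * (x⁻¹ * (n * c * n⁻¹) * x) := by group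
          _ = _ := by rw [h1]
    exact htwo _ hm c hc (fun e => hc1 (by
      calc c = n⁻¹ * (n * c * n⁻¹) * n := by group
        _ = 1 := by rw [e]; group)) hc1
  have hLC : ∀ l ∈ L, ∀ c ∈ C, l * c * l⁻¹ = c := by
    intro l hl c hc
    by_cases hc1 : c = 1
    · rw [hc1]; group
    refine htwo _ ?_ c hc (fun e => hc1 (by
      calc c = l⁻¹ * (l * c * l⁻¹) * l := by group
        _ = 1 := by rw [e]; group)) hc1
    refine mem_inf.2 ⟨conj_mem (g.sett.V_norm hl) (mem_inf.1 hc).1, mem_centralizer_singleton_iff.2 ?_⟩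
    have h1 := hN0C _ (conj_mem (inv_mem (g.sett.N0_norm hl)) (ha.x_N0 g.sett)) c hc
    calc l * c * l⁻¹ * x = l * ((l⁻¹ * x * l⁻¹⁻¹ * c * (l⁻¹ * x * l⁻¹⁻¹)⁻¹)) * l⁻¹ * x := by rw [h1]
      _ = _ := by group
  have hsplit : ∀ v ∈ Vm L, ∃ c ∈ C, ∃ r ∈ W, c * r = v := by
    intro v hv
    obtain ⟨c, hc, r, hr, hxc, he⟩ := hM.split hv
    exact ⟨c, mem_inf.2 ⟨hc, mem_centralizer_singleton_iff.2 (mul_inv_eq_iff_eq_mul.1 hxc).symm⟩, r, hr, he.symm⟩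
  have hWn : L ≤ normalizer (W : Set G) := by
    refine le_normalizer_of_conj fun l hl w hw => ?_
    obtain ⟨v, hv, rfl⟩ := hM.mem_dlR.1 hw
    obtain ⟨c, hc, r, hr, he⟩ := hsplit _ (conj_mem (g.sett.V_norm hl) hv)
    set y := l * x * l⁻¹
    have hy : y ∈ N0 T L := conj_mem (g.sett.N0_norm hl) (ha.x_N0 g.sett)
    have hyr := ha.N0_stab g.sett hy r hr
    have hVe := hM.elem
    have e1 : l * dl x v * l⁻¹ = (y * c * y⁻¹) * (y * r * y⁻¹) * c * r := by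
      calc l * dl x v * l⁻¹ = y * (l * v * l⁻¹) * y⁻¹ * (l * v * l⁻¹) := by simp only [dl, y]; group
        _ = _ := by rw [← he]; group
    rw [e1, hN0C y hy c hc, mul_assoc c (y * r * y⁻¹), elem_comm hVe (hM.dlR_le hyr) (mem_inf.1 hc).1,
      ← mul_assoc c c, elem_sq hVe (mem_inf.1 hc).1, one_mul]
    exact W.mul_mem hyr hr
  -- `L/Q` permutes `W`
  set φ : L →* Equiv.Perm W := (MulAut.toPerm W).comp ((normalizerMonoidHom W).comp (inclusion hWn))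
  have hker : φ.ker ≤ Q.subgroupOf L := by
    intro l hl
    rw [mem_subgroupOf, hQeq]
    refine g.sett.cen (mem_centralizer_iff.2 fun p hp => ?_)
    obtain ⟨c, hc, r, hr, rfl⟩ := hsplit p ((hVQ.trans hQeq).ge hp)
    have h1 : (l : G) * r * (l : G)⁻¹ = r :=
      congrArg Subtype.val (DFunLike.congr_fun (MonoidHom.mem_ker.1 hl) (⟨r, hr⟩ : W))
    have h2 := hLC l l.2 c hc
    calc c * r * (l : G) = ((l : G) * c * (l : G)⁻¹) * ((l : G) * r * (l : G)⁻¹) * l := by rw [h1, h2]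
      _ = _ := by group
  have h24 : Q.relIndex L ∣ 24 := by
    refine (index_dvd_of_le hker).trans ?_
    rw [index_ker]
    refine (card_subgroup_dvd_card _).trans ?_
    rw [Nat.card_perm, hW4]
    rfl
  rw [← relIndex_mul_relIndex Q P L (pCoreOf_le P) g.P_le, h6] at h24
  have hk : P.relIndex L ∣ 4 := Nat.dvd_of_mul_dvd_mul_left (by norm_num : 0 < 6) h24
  have hodd : Odd (P.relIndex L) := Odd.of_dvd_nat g.sett.syl.2.2
    (Dvd.intro_left _ (relIndex_mul_relIndex T P L le_sup_right g.P_le))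
  have heq : P = L := le_antisymm g.P_le (relIndex_eq_one.1
    (Nat.eq_one_of_dvd_coprimes (hodd.coprime_two_right.pow_right 2) dvd_rfl hk))
  have hVP : Vm L = Pc L := hVQ.trans hQeq
  have hcQ : Nat.card (Pc L) = 4 ∨ Nat.card (Pc L) = 8 := by
    have h1 : Nat.card (Pc L) ∣ 8 := hQeq ▸ hQcard
    have h2 : 4 ≤ Nat.card (Pc L) :=
      hW4 ▸ Cfsg.Lib.ElemToolkit.card_le_card_of_le (hVP ▸ hM.dlR_le)
    have h3 := Nat.le_of_dvd (by norm_num) h1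
    generalize Nat.card (Pc L) = n at h1 h2 h3 ⊢
    interval_cases n <;> omega
  refine ⟨heq, x, W, ⟨g.max, g.sett.syl, heq ▸ g.idx_three, ?_, hQeq ▸ hQe, g.sett.cen, hcQ, hW4,
    hVP ▸ hM.dlR_le, ha.xL, ha.x3, hWn, fun w hw => hM.fix_eq_one hw, ?_, fun l hl c hc hxc => ?_, fun v hv => ?_,
    fun w hw => ?_⟩⟩
  · rw [← hQeq, show Q = T ⊓ kCen K from g.pc_eq, g.kCen_two]
  · rw [g.omega_eq, show W = Cfsg.wOf K from hW.symm]
    exact (main_center g.T2 g.comp).1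
  · exact hLC l hl c (mem_inf.2 ⟨hVP.ge hc, mem_centralizer_singleton_iff.2 (mul_inv_eq_iff_eq_mul.1 hxc).symm⟩)
  · obtain ⟨c, hc, r, hr, hxc, he⟩ := hM.split (hVP.ge hv)
    exact ⟨c, hVP.le hc, r, hr, hxc, he⟩
  · obtain ⟨v, hv, he⟩ := hM.mem_dlR.1 hw
    exact ⟨v, hVP.le hv, he⟩

open Cfsg.Lib.Goldschmidt in
theorem Good.side {T K L : Subgroup G} (g : Good T K L) {X : Subgroup G} (hPX : K ⊔ T ≤ X) :
    Side (T.subgroupOf X) ((K ⊔ T).subgroupOf X) ∧ (T.subgroupOf X).relIndex ((K ⊔ T).subgroupOf X) = 3 := by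
  have hTX : T ≤ X := le_sup_right.trans hPX
  set P := K ⊔ T with hPdef
  have hPT : Pc P ≤ T := g.pc_eq.le.trans inf_le_left
  have h3 : (T.subgroupOf X).relIndex (P.subgroupOf X) = 3 := by rw [relIndex_subgroupOf hPX, g.idx_three]
  refine ⟨⟨fun a ha => mem_subgroupOf.2 ((le_sup_right : T ≤ P) (mem_subgroupOf.1 ha)), inferInstance,
    g.T2.of_equiv (subgroupOfEquivOfLe hTX).symm, h3 ▸ Nat.prime_three, ?_, ?_, ?_, ?_, ?_⟩, h3⟩
  · rw [pCoreOf_subgroupOf hPX]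
    exact fun a ha => mem_subgroupOf.2 (hPT (mem_subgroupOf.1 ha))
  · rw [pCoreOf_subgroupOf hPX, relIndex_subgroupOf hTX, show Cfsg.pCoreOf 2 P = T ⊓ kCen K from g.pc_eq, g.kCen_two]
  · intro hn
    have hle : T ≤ Pc P := le_pCoreOf g.T2 le_sup_right (le_normalizer_of_conj fun y hy t ht => by
      have := conj_mem (hn (mem_subgroupOf.2 hy : (⟨y, hPX hy⟩ : X) ∈ P.subgroupOf X))
        (mem_subgroupOf.2 ht : (⟨t, hTX ht⟩ : X) ∈ T.subgroupOf X)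
      exact mem_subgroupOf.1 this)
    have h6 := g.idx_six
    rw [le_antisymm hPT hle, g.idx_three] at h6
    omega
  · rintro a ha
    obtain ⟨haP, hac⟩ := mem_inf.1 ha
    rw [pCoreOf_subgroupOf hPX] at hac ⊢
    exact mem_subgroupOf.2 (g.P_cen (mem_centralizer_iff.2 fun p hp =>
      congrArg Subtype.val (mem_centralizer_iff.1 hac ⟨p, hPX (pCoreOf_le P hp)⟩ (mem_subgroupOf.2 hp))))
  · intro hle
    obtain ⟨w, hw, k, hk, hne⟩ := g.exists_moved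
    obtain ⟨hwT, hwc, hw2⟩ := mem_omegaCenterOf.1 hw
    have hwz : (⟨w, hTX hwT⟩ : X) ∈ omegaZ (T.subgroupOf X) :=
      ⟨mem_subgroupOf.2 hwT, Subtype.ext (by simpa [pow_two] using hw2),
        fun s hs => Subtype.ext (hwc s (mem_subgroupOf.1 hs)).symm⟩
    exact hne (congrArg Subtype.val (mem_centralizer_iff.1
      (hle (mem_subgroupOf.2 (mem_sup_left hk : k ∈ P) : (⟨k, hPX (mem_sup_left hk)⟩ : X) ∈ P.subgroupOf X))
      _ hwz)).symm

variable (hL : Cfsg.IsCharacteristicTwoType G) (hN : ∀ N : Subgroup G, Cfsg.IsTwoLocal N → Group.IsSolvable ↥N)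
  (hZ : ∀ S : Sylow 2 G, centralizer (Cfsg.omegaCenterOf (S : Subgroup G) : Set G) ≤
    normalizer ((S : Subgroup G) : Set G))

include hL hN hZ

theorem sfour_pair (hO : Cfsg.pCore 2 G = ⊥) {S : Sylow 2 G} {M : Subgroup G} (hM : Cfsg.IsTwoLocal M)
    (hMJ : normalizer (Jof (S : Subgroup G) : Set G) ≤ M) {T : Subgroup G}
    (hT : T ∈ Cfsg.maxStraddlingTwoSubgroups M) :
    ∃ P₁ P₂ : Subgroup G, P₁ ≠ P₂ ∧ (∃ x W, Frame T P₁ x W) ∧ (∃ x W, Frame T P₂ x W) ∧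
      ((Nonempty (↥P₁ ≃* Equiv.Perm (Fin 4)) ∧ Nonempty (↥P₂ ≃* Equiv.Perm (Fin 4))) ∨
        (Nonempty (↥P₁ ≃* Multiplicative (ZMod 2) × Equiv.Perm (Fin 4)) ∧
          Nonempty (↥P₂ ≃* Multiplicative (ZMod 2) × Equiv.Perm (Fin 4)))) := by
  obtain ⟨K₁, L₁, K₂, L₂, g₁, g₂, hne⟩ := exists_second hL hN hZ hO hM hMJ hT
  set P₁ := K₁ ⊔ T with hP₁
  set P₂ := K₂ ⊔ T with hP₂
  set X := P₁ ⊔ P₂ with hX
  have h1X : P₁ ≤ X := le_sup_left
  have h2X : P₂ ≤ X := le_sup_right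
  have hne12 : P₁ ≠ P₂ := fun e => hne ((le_sup_left.trans e.ge).trans g₁.P_le)
  have hinf : P₁ ⊓ P₂ = T := by
    refine le_antisymm ?_ (le_inf le_sup_right le_sup_right)
    have h := relIndex_mul_relIndex T (P₁ ⊓ P₂) P₁ (le_inf le_sup_right le_sup_right) inf_le_left
    rw [g₁.idx_three] at h
    rcases (Nat.dvd_prime Nat.prime_three).1 (Dvd.intro _ h) with e | e
    · exact relIndex_eq_one.1 e
    · exfalso
      rw [e] at h
      have hle : P₁ ≤ P₂ := (relIndex_eq_one.1 (by omega : (P₁ ⊓ P₂).relIndex P₁ = 1)).trans inf_le_right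
      have h' := relIndex_mul_relIndex T P₁ P₂ le_sup_right hle
      rw [g₁.idx_three, g₂.idx_three] at h'
      exact hne12 (le_antisymm hle (relIndex_eq_one.1 (by omega)))
  have hcore : Pc X = ⊥ := by
    by_contra hU
    refine hne ((le_sup_left.trans h2X).trans ((le_normalizer_pCoreOf X).trans
      (g₁.local_le ⟨_, isPGroup_pCoreOf X, hU, rfl⟩ ?_)))
    exact ((sup_le_sup_left (jof_le T) K₁).trans h1X).trans (le_normalizer_pCoreOf X)
  have hM12 : P₁.subgroupOf X ⊓ P₂.subgroupOf X = T.subgroupOf X := by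
    rw [← hinf]; exact (comap_inf _ _ _).symm
  obtain ⟨s₁, r₁⟩ := g₁.side h1X
  obtain ⟨s₂, r₂⟩ := g₂.side h2X
  rw [← hM12] at s₁ s₂ r₁ r₂
  have hyp : Cfsg.Lib.Goldschmidt.Hyp (P₁.subgroupOf X) (P₂.subgroupOf X) := by
    refine ⟨?_, s₁, s₂, fun N hN' hle => ?_⟩
    · rw [← subgroupOf_sup h1X h2X, ← hX, subgroupOf_self]
    · haveI := hN'
      rw [hM12] at hle
      have h9 : N.map X.subtype ≤ Pc X := by
        refine le_pCoreOf (((g₁.T2.of_equiv (subgroupOfEquivOfLe ((le_sup_right.trans h1X) : T ≤ X)).symm).to_le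
          hle).map _) (map_subtype_le N) (le_normalizer_of_conj ?_)
        rintro y hy _ ⟨b, hb, rfl⟩
        exact ⟨⟨y, hy⟩ * b * ⟨y, hy⟩⁻¹, hN'.conj_mem b hb _, rfl⟩
      exact (map_eq_bot_iff_of_injective _ X.subtype_injective).1 (le_bot_iff.1 (hcore ▸ h9))
  have e₁ := (subgroupOfEquivOfLe h1X).symm
  have e₂ := (subgroupOfEquivOfLe h2X).symm
  have hiso : (Nonempty (↥P₁ ≃* Equiv.Perm (Fin 4)) ∧ Nonempty (↥P₂ ≃* Equiv.Perm (Fin 4))) ∨
      (Nonempty (↥P₁ ≃* Multiplicative (ZMod 2) × Equiv.Perm (Fin 4)) ∧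
        Nonempty (↥P₂ ≃* Multiplicative (ZMod 2) × Equiv.Perm (Fin 4))) :=
    (hyp.classify (Cfsg.Lib.Goldschmidt.cubic_of_three r₁ r₂)).imp
      (fun h => ⟨h.1.map e₁.trans, h.2.map e₂.trans⟩) (fun h => ⟨h.1.map e₁.trans, h.2.map e₂.trans⟩)
  obtain ⟨c₁, q₁⟩ := card_dvd_and_core_sq (P := P₁) (hiso.imp And.left And.left)
  obtain ⟨c₂, q₂⟩ := card_dvd_and_core_sq (P := P₂) (hiso.imp And.right And.right)
  obtain ⟨hL₁, f₁⟩ := g₁.frame c₁ q₁
  obtain ⟨hL₂, f₂⟩ := g₂.frame c₂ q₂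
  refine ⟨P₁, P₂, hne12, ?_, ?_, hiso⟩
  · rw [show P₁ = L₁ from hL₁]; exact f₁
  · rw [show P₂ = L₂ from hL₂]; exact f₂

theorem sfour_locals (hO : Cfsg.pCore 2 G = ⊥) {S : Sylow 2 G} {M : Subgroup G} (hM : Cfsg.IsTwoLocal M)
    (hMJ : normalizer (Jof (S : Subgroup G) : Set G) ≤ M) {T : Subgroup G}
    (hT : T ∈ Cfsg.maxStraddlingTwoSubgroups M) :
    ∃ P₁ P₂ : Subgroup G, P₁ ≠ P₂ ∧ Cfsg.IsMaximalTwoLocal P₁ ∧ Cfsg.IsMaximalTwoLocal P₂ ∧
      Cfsg.IsSylowTwoIn T P₁ ∧ Cfsg.IsSylowTwoIn T P₂ ∧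
      ((Nonempty (↥P₁ ≃* Equiv.Perm (Fin 4)) ∧ Nonempty (↥P₂ ≃* Equiv.Perm (Fin 4))) ∨
        (Nonempty (↥P₁ ≃* Equiv.Perm (Fin 4) × Multiplicative (ZMod 2)) ∧
          Nonempty (↥P₂ ≃* Equiv.Perm (Fin 4) × Multiplicative (ZMod 2)))) := by
  obtain ⟨P₁, P₂, hne, ⟨_, _, f₁⟩, ⟨_, _, f₂⟩, hiso⟩ := sfour_pair hL hN hZ hO hM hMJ hT
  exact ⟨P₁, P₂, hne, f₁.max, f₂.max, f₁.syl, f₂.syl, hiso.imp id fun h =>
    ⟨h.1.map fun e => e.trans MulEquiv.prodComm, h.2.map fun e => e.trans MulEquiv.prodComm⟩⟩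

end Cfsg.Lib.JComp
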