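import Cfsg.Agent.JComp.Structure

/-!
Components with maximal Thompson subgroup, and straddling 2-subgroups of largest rank.
-/

set_option autoImplicit false
set_option linter.unusedSectionVars false
set_option linter.style.haveILetI false

namespace Cfsg.Lib.JComp

open Subgroup
open scoped commutatorElement

universe u

variable {G : Type u} [Group G] [Finite G]

theorem char2_cen (hL : Cfsg.IsCharacteristicTwoType G) {U : Subgroup G} (hU : IsPGroup 2 U) (hU1 : U ≠ ⊥) :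
    centralizer (Pc (normalizer (U : Set G)) : Set G) ≤ Pc (normalizer (U : Set G)) := by
  intro g hg
  set N := normalizer (U : Set G)
  have hUP : U ≤ Pc N := le_pCoreOf hU le_normalizer le_rfl
  have hgN : g ∈ N := centralizer_le_normalizer _ (centralizer_le hUP hg)
  have h := hL.2 U hU hU1
  have hgc : (⟨g, hgN⟩ : N) ∈ centralizer (Cfsg.pCore 2 N : Set N) := by
    refine mem_centralizer_iff.2 fun p hp => Subtype.ext ?_
    exact mem_centralizer_iff.1 hg p ⟨p, hp, rfl⟩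
  exact ⟨⟨g, hgN⟩, h hgc, rfl⟩

section Zero

variable (hL : Cfsg.IsCharacteristicTwoType G) (hN : ∀ N : Subgroup G, Cfsg.IsTwoLocal N → Group.IsSolvable ↥N)
  (hZ : ∀ S : Sylow 2 G, centralizer (Cfsg.omegaCenterOf (S : Subgroup G) : Set G) ≤
    normalizer ((S : Subgroup G) : Set G))

include hL hN hZ

theorem zero_main {T K : Subgroup G} (hT : IsPGroup 2 T) (hK : K ∈ Cfsg.jComponentsZero T) :
    normalizer (K : Set G) = normalizer (Cfsg.wOf K : Set G) ∧
      ∀ g : G, Jof (cj g T) ≤ normalizer (Cfsg.wOf K : Set G) → Cfsg.IsJComponent (cj g T) K := by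
  obtain ⟨hKc, hKz⟩ := hK
  have htri := tri_of_comp hKc
  set N := normalizer (Cfsg.wOf K : Set G) with hNdef
  have hKN : K ≤ N := le_normalizer.trans (normalizer_le_wOf K)
  have hJN : Jof T ≤ N := htri.J_norm.trans (normalizer_le_wOf K)
  obtain ⟨S, hJS, hS⟩ := exists_sylowIn hJN (isPGroup_jof hT)
  have hJeq : Jof S = Jof T := hKz S hJS hS
  have hWe : Cfsg.IsElementaryAbelian 2 (Cfsg.wOf K) := elem_of_sq hKc.2.2.2.2.2
  have hW2 := elem_isPGroup hWe
  have hW1 : Cfsg.wOf K ≠ ⊥ := fun e => by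
    have := hKc.2.2.2.2.1
    rw [e, card_bot] at this
    omega
  have hS1 : S ≠ ⊥ := fun e => hW1 (eq_bot_iff.2 (e ▸ sylowIn_normal_le hS hW2 le_normalizer le_rfl))
  have hov : N ∈ Cfsg.jOvergroups S := by
    refine ⟨hS, fun hle => htri.not_two_group ?_, char2_cen hL hW2 hW1⟩
    refine (isPGroup_pCoreOf (p := 2) N).to_le ?_
    conv_lhs => rw [← htri.comm]
    refine commutator_le.2 fun k hk j hj => ?_
    have hj' : j ∈ Cfsg.pCoreOf 2 N := hle (show j ∈ Jof S from hJeq.symm ▸ hj)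
    rw [commutatorElement_def]
    exact mul_mem (conj_mem (le_normalizer_pCoreOf N (hKN hk)) hj') (inv_mem hj')
  have hset := setting_of hN hZ hS1 hov
  have h1 : normalizer (K : Set G) = N := le_antisymm (normalizer_le_wOf K) fun n hn =>
    hset.stab_normalizes (comp_congr hJeq hKc) hKN hn fun w hw => conj_mem hn hw
  refine ⟨h1, fun g hg => ?_⟩
  have hg2 : IsPGroup 2 (Jof (cj g T)) := isPGroup_jof (hT.map _)
  obtain ⟨n, hn, hle⟩ := exists_conj_le hS hg hg2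
  obtain ⟨A, hA⟩ := Cfsg.Lib.Thompson.exists_isMaxElem (p := 2) T
  have hA' : MaxE (cj g T) (cj g A) := ⟨map_mono hA.1, elem_cj hA.2.1 g, fun B hB hBe => by
    have h2 : cj g⁻¹ B ≤ T := by
      have h3 : cj g⁻¹ B ≤ cj g⁻¹ (cj g T) := map_mono hB
      rwa [cj_inv_cj] at h3
    have := hA.2.2 _ h2 (elem_cj hBe _)
    rwa [card_cj] at this ⊢⟩
  have hr : ∀ B, B ≤ cj n S → Cfsg.IsElementaryAbelian 2 B → Nat.card B ≤ Nat.card (cj g A) := by
    intro B hB hBe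
    have h2 : cj n⁻¹ B ≤ S := by
      have h3 : cj n⁻¹ B ≤ cj n⁻¹ (cj n S) := map_mono hB
      rwa [cj_inv_cj] at h3
    have := (rank_of_jof_eq hJeq hA).2.2 _ h2 (elem_cj hBe _)
    rw [card_cj] at this
    rwa [card_cj]
  have hJle : Jof (cj g T) ≤ Jof (cj n S) := jof_le_jof hA' hle hr
  have heq : Jof (cj g T) = Jof (cj n T) := by
    refine (eq_of_le_of_card_ge hJle ?_).trans ?_
    · rw [jof_cj, jof_cj, card_cj, card_cj, hJeq]
    · rw [jof_cj, jof_cj, hJeq]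
  have hnK : cj n K = K := cj_eq_self (h1.symm ▸ hn)
  have := comp_cj hKc n
  rw [hnK] at this
  exact comp_congr heq this

end Zero

theorem meao_eq {T A : Subgroup G} (hA : MaxE T A) : Cfsg.maxElemAbelianOrder T = Nat.card A := by
  have hA' : A.subgroupOf T ∈ Cfsg.maxElementaryAbelianSubgroups 2 T := by
    refine ⟨elem_of_sq fun a ha => Subtype.ext (elem_sq hA.2.1 (mem_subgroupOf.1 ha)), fun B hB => ?_⟩
    rw [Nat.card_congr (subgroupOfEquivOfLe hA.1).toEquiv, ← card_map_of_injective T.subtype_injective]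
    refine hA.2.2 _ (map_subtype_le B) (elem_of_sq ?_)
    rintro _ ⟨b, hb, rfl⟩
    rw [← map_mul, elem_sq hB hb, map_one]
  have himg : (fun A : Subgroup ↥T => Nat.card ↥A) '' Cfsg.maxElementaryAbelianSubgroups 2 ↥T = {Nat.card A} := by
    refine Set.eq_singleton_iff_unique_mem.2 ⟨⟨_, hA', Nat.card_congr (subgroupOfEquivOfLe hA.1).toEquiv⟩, ?_⟩
    rintro _ ⟨B, hB, rfl⟩
    have h1 := hA'.2 B hB.1
    have h2 := hB.2 _ hA'.1
    rw [Nat.card_congr (subgroupOfEquivOfLe hA.1).toEquiv] at h1 h2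
    exact le_antisymm h1 h2
  rw [Cfsg.maxElemAbelianOrder, himg, csSup_singleton]

/-- Comparison with a straddling subgroup containing `J`. -/
theorem max_compare {M T R : Subgroup G} (hT : T ∈ Cfsg.maxStraddlingTwoSubgroups M)
    (hR : R ∈ Cfsg.straddlingTwoSubgroups M) (hJR : Jof T ≤ R) :
    Jof R = Jof T ∧ Nat.card R ≤ Nat.card T := by
  obtain ⟨A, hA⟩ := Cfsg.Lib.Thompson.exists_isMaxElem (p := 2) T
  obtain ⟨A', hA'⟩ := Cfsg.Lib.Thompson.exists_isMaxElem (p := 2) R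
  obtain ⟨h1, h2⟩ := hT.2 R hR
  rw [meao_eq hA, meao_eq hA'] at h1 h2
  have heq : Nat.card A' = Nat.card A :=
    le_antisymm h1 (hA'.2.2 A ((maxE_le_jof hA).trans hJR) hA.2.1)
  obtain ⟨h3, h4⟩ := h2 heq
  have hle : Jof T ≤ Jof R := jof_le_jof hA hJR fun B hB hBe => (hA'.2.2 B hB hBe).trans heq.le
  have hJ : Jof T = Jof R := eq_of_le_of_card_ge hle h3
  exact ⟨hJ.symm, h4 (congrArg (fun H : Subgroup G => Nat.card H) hJ.symm)⟩

theorem exists_normalizing {R T : Subgroup G} (hR : IsPGroup 2 R) (hTR : T ≤ R) (hne : T ≠ R) :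
    ∃ x ∈ R, x ∈ normalizer (T : Set G) ∧ x ∉ T := by
  haveI : Fact (Nat.Prime 2) := ⟨Nat.prime_two⟩
  haveI : Group.IsNilpotent R := hR.isNilpotent
  have hlt : T.subgroupOf R < ⊤ :=
    lt_top_iff_ne_top.2 fun h => hne (le_antisymm hTR (subgroupOf_eq_top.1 h))
  obtain ⟨x, hxN, hxT⟩ := SetLike.exists_of_lt (Group.normalizerCondition_of_isNilpotent _ hlt)
  refine ⟨x, x.2, mem_normalizer_of_cj_le ?_, fun h => hxT (mem_subgroupOf.2 h)⟩
  rintro _ ⟨t, ht, rfl⟩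
  exact mem_subgroupOf.1 (conj_mem (x := (⟨t, hTR ht⟩ : R)) hxN (mem_subgroupOf.2 ht))

theorem sylowIn_of_sylow (S : Sylow 2 G) {M : Subgroup G} (h : (S : Subgroup G) ≤ M) :
    Cfsg.IsSylowTwoIn (S : Subgroup G) M := by
  refine ⟨h, S.isPGroup', ?_⟩
  rw [← Nat.not_even_iff_odd, even_iff_two_dvd]
  exact fun hd => S.not_dvd_index (hd.trans (relIndex_dvd_index_of_le h))

/-- `N(J(T))` lies in `M`. -/
theorem normalizer_jof_le {S : Sylow 2 G} {M : Subgroup G}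
    (hMJ : normalizer (Jof (S : Subgroup G) : Set G) ≤ M) {T : Subgroup G}
    (hT : T ∈ Cfsg.maxStraddlingTwoSubgroups M) : normalizer (Jof T : Set G) ≤ M := by
  obtain ⟨hT2, hT1, hTM, -⟩ := hT.1
  by_contra hnot
  have hSM : (S : Subgroup G) ≤ M :=
    (le_normalizer.trans (Cfsg.Lib.Thompson.normalizer_le_normalizer_thompson _)).trans hMJ
  obtain ⟨R0, hTR0, hR0⟩ := exists_sylowIn hTM hT2
  by_cases he : T = R0
  · subst he
    obtain ⟨m, hm, hle⟩ := exists_conj_le (sylowIn_of_sylow S hSM) hTM hT2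
    have hmS : cj m (S : Subgroup G) ≤ M := by
      rintro _ ⟨s, hs, rfl⟩
      exact mul_mem (mul_mem hm (hSM hs)) (inv_mem hm)
    have heq := sylowIn_eq_of_le hR0 hle hmS (S.isPGroup'.map _)
    refine hnot fun g hg => ?_
    have hg' : m⁻¹ * g * m ∈ normalizer (Jof (S : Subgroup G) : Set G) := by
      refine mem_normalizer_of_cj ?_
      have hJT : Jof T = cj m (Jof (S : Subgroup G)) := by rw [← heq, jof_cj]
      have := cj_eq_self hg
      rw [hJT, cj_cj] at this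
      rw [mul_assoc, ← cj_cj, this, cj_inv_cj]
    have := mul_mem (mul_mem hm (hMJ hg')) (inv_mem hm)
    rwa [show m * (m⁻¹ * g * m) * m⁻¹ = g by group] at this
  · obtain ⟨x, hxR, hxN, hxT⟩ := exists_normalizing hR0.2.1 hTR0 he
    set R := T ⊔ zpowers x
    have hRR0 : R ≤ R0 := sup_le hTR0 (zpowers_le.2 hxR)
    have hRJ : R ≤ normalizer (Jof T : Set G) :=
      (sup_le le_normalizer (zpowers_le.2 hxN)).trans (Cfsg.Lib.Thompson.normalizer_le_normalizer_thompson T)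
    haveI : Fact (Nat.Prime 2) := ⟨Nat.prime_two⟩
    have hJ1 : Jof T ≠ ⊥ := Cfsg.Lib.Thompson.thompsonSubgroupOf_ne_bot hT2 hT1
    have hRs : R ∈ Cfsg.straddlingTwoSubgroups M :=
      ⟨hR0.2.1.to_le hRR0, fun e => hT1 (eq_bot_iff.2 (e ▸ le_sup_left)), hRR0.trans hR0.1,
        _, ⟨Jof T, isPGroup_jof hT2, hJ1, rfl⟩, hRJ, hnot⟩
    have h9 := (max_compare hT hRs ((jof_le T).trans le_sup_left)).2
    exact hxT ((eq_of_le_of_card_ge (le_sup_left : T ≤ R) h9).ge (mem_sup_right (mem_zpowers x)))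

variable (hL : Cfsg.IsCharacteristicTwoType G)

include hL

theorem straddle_sylow {S : Sylow 2 G} {M : Subgroup G}
    (hMJ : normalizer (Jof (S : Subgroup G) : Set G) ≤ M) {T : Subgroup G}
    (hT : T ∈ Cfsg.maxStraddlingTwoSubgroups M) {L : Subgroup G} (hL2 : Cfsg.IsTwoLocal L) (hLM : ¬ L ≤ M)
    {T₀ : Subgroup G} (hT₀ : Cfsg.IsSylowTwoIn T₀ L) (hJT₀ : Jof T ≤ T₀) :
    Jof T₀ = Jof T ∧ T₀ ∈ Cfsg.straddlingTwoSubgroups M ∧ L ∈ Cfsg.jOvergroups T₀ ∧
      Nat.card T₀ ≤ Nat.card T := by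
  haveI : Fact (Nat.Prime 2) := ⟨Nat.prime_two⟩
  obtain ⟨hT2, hT1, hTM, -⟩ := hT.1
  have hNJ := normalizer_jof_le hMJ hT
  have hJ1 : Jof T ≠ ⊥ := Cfsg.Lib.Thompson.thompsonSubgroupOf_ne_bot hT2 hT1
  set T₁ := T₀ ⊓ M
  have hJT₁ : Jof T ≤ T₁ := le_inf hJT₀ ((jof_le T).trans hTM)
  have hs₁ : T₁ ∈ Cfsg.straddlingTwoSubgroups M :=
    ⟨hT₀.2.1.to_le inf_le_left, fun e => hJ1 (eq_bot_iff.2 (e ▸ hJT₁)), inf_le_right, L, hL2,
      inf_le_left.trans hT₀.1, hLM⟩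
  obtain ⟨hJ, hc⟩ := max_compare hT hs₁ hJT₁
  have heq : T₁ = T₀ := by
    by_contra hne
    obtain ⟨x, hx, hxN, hxn⟩ := exists_normalizing hT₀.2.1 inf_le_left hne
    refine hxn (mem_inf.2 ⟨hx, hNJ ?_⟩)
    rw [← hJ]
    exact Cfsg.Lib.Thompson.normalizer_le_normalizer_thompson _ hxN
  rw [heq] at hs₁ hJ hc
  refine ⟨hJ, hs₁, ⟨hT₀, fun hle => hLM ?_, ?_⟩, hc⟩
  · have hPT : Pc L ≤ T₀ := sylowIn_normal_le hT₀ (isPGroup_pCoreOf L) (pCoreOf_le L) (le_normalizer_pCoreOf L)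
    have hJP : Jof (Pc L) = Jof T₀ := jof_eq_of_between hle hPT
    refine ((le_normalizer_pCoreOf L).trans ?_).trans hNJ
    rw [← hJ, ← hJP]
    exact Cfsg.Lib.Thompson.normalizer_le_normalizer_thompson _
  · obtain ⟨U, hU, hU1, rfl⟩ := hL2
    exact char2_cen hL hU hU1

theorem straddle_main (hN : ∀ N : Subgroup G, Cfsg.IsTwoLocal N → Group.IsSolvable ↥N)
    (hZ : ∀ S : Sylow 2 G, centralizer (Cfsg.omegaCenterOf (S : Subgroup G) : Set G) ≤
      normalizer ((S : Subgroup G) : Set G))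
    {S : Sylow 2 G} {M : Subgroup G} (hMJ : normalizer (Jof (S : Subgroup G) : Set G) ≤ M) {T : Subgroup G}
    (hT : T ∈ Cfsg.maxStraddlingTwoSubgroups M) {L : Subgroup G} (hL2 : Cfsg.IsTwoLocal L) (hLM : ¬ L ≤ M)
    (hTL : T ≤ L) : Setting T L ∧ L ∈ Cfsg.jOvergroups T := by
  obtain ⟨hT2, hT1, -, -⟩ := hT.1
  obtain ⟨T₀, hTT₀, hT₀⟩ := exists_sylowIn hTL hT2
  obtain ⟨-, -, hov, hc⟩ := straddle_sylow hL hMJ hT hL2 hLM hT₀ ((jof_le T).trans hTT₀)
  have he : T = T₀ := eq_of_le_of_card_ge hTT₀ hc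
  rw [← he] at hov
  exact ⟨setting_of hN hZ hT1 hov, hov⟩

theorem outside_nonempty (hN : ∀ N : Subgroup G, Cfsg.IsTwoLocal N → Group.IsSolvable ↥N)
    (hZ : ∀ S : Sylow 2 G, centralizer (Cfsg.omegaCenterOf (S : Subgroup G) : Set G) ≤
      normalizer ((S : Subgroup G) : Set G))
    {S : Sylow 2 G} {M : Subgroup G} (hMJ : normalizer (Jof (S : Subgroup G) : Set G) ≤ M) {T : Subgroup G}
    (hT : T ∈ Cfsg.maxStraddlingTwoSubgroups M) : (Cfsg.jComponentsOutside M T).Nonempty := by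
  obtain ⟨hT2, hT1, -, L, hL2, hTL, hLM⟩ := hT.1
  obtain ⟨hset, -⟩ := straddle_main hL hN hZ hMJ hT hL2 hLM hTL
  obtain ⟨x, a, ha, hxM⟩ : ∃ x a, Atom T L x a ∧ ¬ Atom.Kx L x ≤ M := by
    by_contra hno
    push Not at hno
    exact hLM (hset.le_of_comps (inf_le_right.trans (normalizer_jof_le hMJ hT)) hno)
  set K := Atom.Kx L x
  have hK := ha.isComp hset
  have hKL : K ≤ L := (oddGen_le _).trans ha.X0_le
  refine ⟨K, ⟨hK, fun R hJR hR => ?_⟩, hxM, fun e => ?_⟩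
  · have hWe : Cfsg.IsElementaryAbelian 2 (Cfsg.wOf K) := elem_of_sq hK.2.2.2.2.2
    have hW1 : Cfsg.wOf K ≠ ⊥ := fun e => by
      have := hK.2.2.2.2.1
      rw [e, card_bot] at this
      omega
    exact (straddle_sylow hL hMJ hT ⟨_, elem_isPGroup hWe, hW1, rfl⟩
      (fun hle => hxM ((le_normalizer.trans (normalizer_le_wOf K)).trans hle)) hR hJR).1
  · have hP1 : Pc L ≠ ⊥ := fun e1 => hT1 (eq_bot_iff.2 fun t _ => by
      have : t ∈ centralizer (Pc L : Set G) := mem_centralizer_iff.2 fun p hp => by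
        change p ∈ Pc L at hp
        rw [e1, mem_bot] at hp; simp [hp]
      simpa [e1] using hset.cen this)
    refine hP1 (eq_bot_iff.2 (e ▸ le_pCoreOf (isPGroup_pCoreOf L) (hset.P_le_T.trans le_sup_right) ?_))
    exact (sup_le hKL hset.syl.1).trans hset.P_norm

end Cfsg.Lib.JComp
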