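import Cfsg.Agent.JComp.Good

/-!
A Sylow 2-subgroup straddling wrt `N(J)` cannot have all its 2-local overgroups in one `L`.
-/

set_option autoImplicit false
set_option linter.unusedSectionVars false
set_option linter.style.haveILetI false

namespace Cfsg.Lib.JComp

open Subgroup
open scoped commutatorElement Pointwise

universe u

variable {G : Type u} [Group G] [Finite G]

theorem local_cj (h : G) {H : Subgroup G} (hH : Cfsg.IsTwoLocal H) : Cfsg.IsTwoLocal (cj h H) := by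
  obtain ⟨U, hU, hU1, rfl⟩ := hH
  exact ⟨cj h U, hU.map _, fun e => hU1 ((map_eq_bot_iff_of_injective _ (MulAut.conj h).injective).1 e),
    (normalizer_cj h U).symm⟩

theorem centralizer_omega_two {S : Subgroup G} (h2 : Nat.card ↥(Cfsg.omegaCenterOf S) = 2) {z : G}
    (hz : z ∈ Cfsg.omegaCenterOf S) (hz1 : z ≠ 1) :
    zpowers z = Cfsg.omegaCenterOf S ∧
      centralizer ({z} : Set G) ≤ centralizer (Cfsg.omegaCenterOf S : Set G) := by
  haveI : Fact (Nat.Prime 2) := ⟨Nat.prime_two⟩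
  have heq : zpowers z = Cfsg.omegaCenterOf S := eq_of_le_of_card_ge (zpowers_le.2 hz) (by
    rw [h2, Nat.card_zpowers, orderOf_eq_prime (by rw [pow_two]; exact (mem_omegaCenterOf.1 hz).2.2) hz1])
  refine ⟨heq, fun c hc => ?_⟩
  rw [← heq]
  exact mem_centralizer_iff.2 fun w hw => by
    obtain ⟨n, rfl⟩ := mem_zpowers_iff.1 hw
    exact ((show Commute z c from (mem_centralizer_singleton_iff.1 hc).symm).zpow_left n).eq

/-- Relations of a fixed-point-free element of order 3. -/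
theorem fpf_three {P : Subgroup G} {x : G} (hx : x ∈ normalizer (P : Set G)) (hx3 : x ^ 3 = 1)
    (hf : ∀ p ∈ P, x * p * x⁻¹ = p → p = 1) {p : G} (hp : p ∈ P) :
    p * (x * p * x⁻¹) * (x * (x * p * x⁻¹) * x⁻¹) = 1 := by
  let f : P → P := fun q => ⟨(q : G)⁻¹ * (x * q * x⁻¹), mul_mem (inv_mem q.2) (conj_mem hx q.2)⟩
  have hinj : Function.Injective f := fun a b he => by
    have he' : (a : G)⁻¹ * (x * a * x⁻¹) = (b : G)⁻¹ * (x * b * x⁻¹) := congrArg Subtype.val he
    have h1 : x * ((b : G) * (a : G)⁻¹) * x⁻¹ = (b : G) * (a : G)⁻¹ := by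
      calc x * ((b : G) * (a : G)⁻¹) * x⁻¹ = (b : G) * ((b : G)⁻¹ * (x * b * x⁻¹)) * (x * a * x⁻¹)⁻¹ := by group
        _ = (b : G) * ((a : G)⁻¹ * (x * a * x⁻¹)) * (x * a * x⁻¹)⁻¹ := by rw [he']
        _ = _ := by group
    have h2 := hf _ (mul_mem b.2 (inv_mem a.2)) h1
    exact Subtype.ext (mul_inv_eq_one.1 h2).symm
  obtain ⟨q, hq⟩ := (Finite.injective_iff_surjective.1 hinj) ⟨p, hp⟩
  have hq' : (q : G)⁻¹ * (x * q * x⁻¹) = p := congrArg Subtype.val hq
  rw [← hq']
  calc _ = (q : G)⁻¹ * (x ^ 3 * q * (x ^ 3)⁻¹) := by simp only [pow_succ, pow_zero, one_mul]; group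
    _ = 1 := by rw [hx3]; group

variable (hL : Cfsg.IsCharacteristicTwoType G) (hN : ∀ N : Subgroup G, Cfsg.IsTwoLocal N → Group.IsSolvable ↥N)
  (hZ : ∀ S : Sylow 2 G, centralizer (Cfsg.omegaCenterOf (S : Subgroup G) : Set G) ≤
    normalizer ((S : Subgroup G) : Set G))

include hL hN hZ

set_option maxHeartbeats 1000000 in
/-- The 2-local subgroups above a Sylow 2-subgroup with a component are not all in one. -/
theorem no_second (hO : Cfsg.pCore 2 G = ⊥) (S : Sylow 2 G) {K L : Subgroup G}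
    (g : Good (S : Subgroup G) K L)
    (hlocS : ∀ H : Subgroup G, Cfsg.IsTwoLocal H → (S : Subgroup G) ≤ H → H ≤ L) : False := by
  classical
  haveI : Fact (Nat.Prime 2) := ⟨Nat.prime_two⟩
  set T := (S : Subgroup G) with hTdef
  have hset := g.sett
  have hT2 : IsPGroup 2 T := g.T2
  have hT1 : T ≠ ⊥ := fun e => hset.nle (((jof_le T).trans e.le).trans bot_le)
  obtain ⟨T', hT', l, hl, hT'S⟩ := exists_max_straddle hO hset g.max hT2 hT1
  have hlL : cj l L = L := cj_eq_self (le_normalizer hl)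
  set S' : Sylow 2 G := l • S
  have hS' : (S' : Subgroup G) = cj l T := sylow_smul_coe S l
  have hS'L : (S' : Subgroup G) ≤ L := by rw [hS', ← hlL]; exact map_mono hset.syl.1
  have hJ1 : Jof T ≠ ⊥ := Cfsg.Lib.Thompson.thompsonSubgroupOf_ne_bot hT2 hT1
  have hNJ : normalizer (Jof T : Set G) ≤ L := hlocS _ ⟨_, isPGroup_jof hT2, hJ1, rfl⟩
    (le_normalizer.trans (Cfsg.Lib.Thompson.normalizer_le_normalizer_thompson T))
  have hMJ' : normalizer (Jof (S' : Subgroup G) : Set G) ≤ L := by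
    rw [hS', jof_cj, normalizer_cj, ← hlL]
    exact map_mono hNJ
  have hT'S' : T' ≤ (S' : Subgroup G) := hS' ▸ hT'S
  have hne : T' ≠ (S' : Subgroup G) := by
    intro e
    obtain ⟨-, -, -, H, hH, hTH, hHL⟩ := hT'.1
    have h1 : T ≤ cj l⁻¹ H := by
      have h2 : cj l⁻¹ T' ≤ cj l⁻¹ H := map_mono hTH
      rwa [e, hS', cj_inv_cj] at h2
    have h2 : cj l (cj l⁻¹ H) ≤ cj l L := map_mono (hlocS _ (local_cj l⁻¹ hH) h1)
    rw [cj_cj_inv, hlL] at h2
    exact hHL h2
  obtain ⟨K', hK'⟩ := outside_nonempty hL hN hZ hMJ' hT'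
  obtain ⟨L', g'⟩ := good_of_outside hL hN hZ hO g.max.1 hMJ' hT' hK'
  have hset' := g'.sett
  obtain ⟨hc2, hdisj⟩ := case_lt hL hN hZ hMJ' hT' hT'S' hne hK' g'.max g'.le
  have hc2T : Nat.card ↥(Cfsg.omegaCenterOf T) = 2 := by rwa [hS', omegaCenterOf_cj, card_cj] at hc2
  set Z0 := Cfsg.omegaCenterOf (Jof T) with hZ0
  have hZ0eq : Cfsg.omegaCenterOf T = Z0 := g.omega_eq
  -- `V` is the four-group of `K`
  obtain ⟨x, a, ha, hKx, hW⟩ := hset.classify g.comp g.KL
  have hM := ha.mover hset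
  set W := dlR x (Vm L) with hWdef
  have hmemW : ∀ {K'' : Subgroup G}, Cfsg.IsJComponent T K'' → Z0 ≤ Cfsg.wOf K'' := fun {K''} hK'' => by
    have h2 := (main_center hT2 hK'').1
    have h0 : Nat.card Z0 = 2 := hZ0eq ▸ hc2T
    exact (eq_of_le_of_card_ge inf_le_left (h0.trans h2.symm).le).ge.trans inf_le_right
  obtain ⟨z0, hz0, hz01⟩ := (bot_or_exists_ne_one (Cfsg.omegaCenterOf T)).resolve_left (omegaCenterOf_ne_bot hT2 hT1)
  have hz0W : z0 ∈ W := hW ▸ hmemW g.comp (hZ0eq ▸ hz0)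
  have hJfix : ∀ c ∈ Vm L, x * c * x⁻¹ = c → Jof T ≤ centralizer ({c} : Set G) := by
    intro c hc hxc
    refine hset.J_le_kill (fun p hp => mem_centralizer_singleton_iff.2 ((mem_omegaCenterOf.1 hc).2.1 p hp))
      fun y b hb => mem_centralizer_singleton_iff.2 ?_
    have hM' := hb.mover hset
    have hxn : x ∈ normalizer (dlR y (Vm L) : Set G) :=
      mem_normalizer_of_cj_le (by
        rintro _ ⟨u, hu, rfl⟩
        exact hb.N0_stab hset (ha.x_N0 hset) u hu)
    have hz0y : z0 ∈ dlR y (Vm L) := hb.wOf_Kx hset ▸ hmemW (hb.isComp hset) (hZ0eq ▸ hz0)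
    have hU : W ⊓ dlR y (Vm L) = W := hM.irred ha.card inf_le_left
      (fun u hu => mem_inf.2 ⟨hM.conj_mem_dlR (mem_inf.1 hu).1, conj_mem hxn (mem_inf.1 hu).2⟩)
      (mem_inf.2 ⟨hz0W, hz0y⟩) hz01
    have hWy : dlR y (Vm L) = W := (eq_of_le_of_card_ge (inf_eq_left.1 hU)
      (by rw [hb.card_eq hset, ha.card_eq hset])).symm
    have hxc' : x⁻¹ * c * x = c := by
      calc x⁻¹ * c * x = x⁻¹ * (x * c * x⁻¹) * x := by rw [hxc]
        _ = c := by group
    have hfixd : x * (b * c * b⁻¹) * x⁻¹ = b * c * b⁻¹ := by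
      obtain ⟨c0, hc0, e | e⟩ := ha.conj_cases hset (inv_mem (hset.J_le_N0 hb.aJ))
      all_goals
        have e1 : x * (b * c * b⁻¹) * x⁻¹ = b * ((b⁻¹ * x * b⁻¹⁻¹) * c * (b⁻¹ * x * b⁻¹⁻¹)⁻¹) * b⁻¹ := by group
        rw [e1, e]
      · rw [show x * c0 * c * (x * c0)⁻¹ = x * (c0 * c * c0⁻¹) * x⁻¹ by group, Atom.C_V hset hc0 hc, hxc]
      · rw [show x⁻¹ * c0 * c * (x⁻¹ * c0)⁻¹ = x⁻¹ * (c0 * c * c0⁻¹) * x by group, Atom.C_V hset hc0 hc, hxc']
    have hd : b * c * b⁻¹ * c ∈ W := by rw [hb.a_inv, ← hWy]; exact hb.brk c hc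
    have h3 := hM.fix_eq_one hd (by
      calc x * (b * c * b⁻¹ * c) * x⁻¹ = (x * (b * c * b⁻¹) * x⁻¹) * (x * c * x⁻¹) := by group
        _ = _ := by rw [hfixd, hxc])
    rw [mul_eq_one_iff_eq_inv, elem_inv hM.elem hc] at h3
    exact mul_inv_eq_iff_eq_mul.1 h3
  have hVW : Vm L = W := by
    refine le_antisymm (fun v hv => ?_) hM.dlR_le
    obtain ⟨c, hc, r, hr, hxc, rfl⟩ := hM.split hv
    have hcT : c ∈ T := hset.P_le_T (omegaCenterOf_le _ hc)
    have hcZ : c ∈ Cfsg.omegaCenterOf (Jof T) := maxE_absorb hcT (elem_sq hM.elem hc) fun j hj =>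
      mem_centralizer_singleton_iff.1 (hJfix c hc hxc hj)
    have hcW : c ∈ W := hW ▸ hmemW g.comp hcZ
    rw [hM.fix_eq_one hcW hxc, one_mul]
    exact hr
  have hV4 : Nat.card (Vm L) = 4 := by rw [hVW]; exact ha.card_eq hset
  set V := Vm L with hV
  have hVe : Cfsg.IsElementaryAbelian 2 V := elem_omegaCenterOf _
  -- the involution `z`
  set P := Pc L with hP
  have hPS : P ≤ (S' : Subgroup G) := by
    have hPl : cj l P = P := cj_eq_self (hset.P_norm hl)
    rw [hS', ← hPl]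
    exact map_mono hset.P_le_T
  obtain ⟨z, hz, hz1⟩ := (bot_or_exists_ne_one (Cfsg.omegaCenterOf (S' : Subgroup G))).resolve_left fun e => by
    rw [e, card_bot] at hc2; omega
  have hzV : z ∈ V := omega_le_Vm hset.cen hPS hz
  have hzS : ∀ s ∈ (S' : Subgroup G), s * z = z * s := (mem_omegaCenterOf.1 hz).2.1
  have hzS' : ∀ s ∈ (S' : Subgroup G), s * z * s⁻¹ = z := fun s hs => by rw [hzS s hs, mul_inv_cancel_right]
  have hCz : centralizer ({z} : Set G) ≤ normalizer ((S' : Subgroup G) : Set G) :=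
    (centralizer_omega_two hc2 hz hz1).2.trans (hZ S')
  have hCzL : centralizer ({z} : Set G) ≤ L :=
    (hCz.trans (Cfsg.Lib.Thompson.normalizer_le_normalizer_thompson _)).trans hMJ'
  have hxL := ha.xL
  have hconjz : ∀ v ∈ V, v ≠ 1 → ∃ k ∈ L, k * z * k⁻¹ = v := by
    intro v hv hv1
    rcases ha.W_cases hset (hVW.le hzV) hz1 (hVW.le hv) with e | e | e | e
    · exact absurd e hv1
    · exact ⟨1, one_mem _, by rw [e]; group⟩
    · exact ⟨x, hxL, e.symm⟩
    · exact ⟨x * x, mul_mem hxL hxL, by rw [e]; group⟩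
  have hti : ∀ k v : G, v ∈ V → v ≠ 1 → k * v * k⁻¹ ∈ V → k ∈ L := by
    intro k v hv hv1 hkv
    have hkv1 : k * v * k⁻¹ ≠ 1 := fun e => hv1 (by
      calc v = k⁻¹ * (k * v * k⁻¹) * k := by group
        _ = 1 := by rw [e]; group)
    obtain ⟨p, hp, hpv⟩ := hconjz v hv hv1
    obtain ⟨q, hq, hqv⟩ := hconjz _ hkv hkv1
    have h1 : q⁻¹ * k * p ∈ L := hCzL (mem_centralizer_singleton_iff.2 (by
      calc q⁻¹ * k * p * z = q⁻¹ * (k * (p * z * p⁻¹) * k⁻¹) * k * p := by group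
        _ = q⁻¹ * (q * z * q⁻¹) * k * p := by rw [hpv, hqv]
        _ = _ := by group))
    have h2 := mul_mem (mul_mem hq h1) (inv_mem hp)
    rwa [show q * (q⁻¹ * k * p) * p⁻¹ = k by group] at h2
  -- the component of `T'`
  obtain ⟨x', a', ha', hKx', hW'⟩ := hset'.classify g'.comp g'.KL
  have hx'L : x' ∉ L := fun hx => hK'.2.1 (hKx' ▸ (oddGen_le _).trans
    (sup_le (hset'.P_le_T.trans hT'.1.2.2.1) (zpowers_le.2 hx)))
  have hTX : T' ≤ normalizer (Atom.X0 L' x' : Set G) := fun t ht =>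
    ha'.stab_X0 hset' (hset'.syl.1 ht) fun w hw => hW' ▸ conj_mem (normalizer_le_wOf K' (g'.norm ht)) (hW'.symm ▸ hw)
  have hT'L : T' ≤ L := hT'.1.2.2.1
  have hzV' : z ∈ Vm L' := omega_le_Vm hset'.cen (hset'.P_le_T.trans hT'S') hz
  have hzT' : z ∈ T' := hset'.P_le_T (omegaCenterOf_le _ hzV')
  set u := x' * z * x'⁻¹ with hu
  have huV' : u ∈ Vm L' := conj_mem (hset'.V_norm ha'.xL) hzV'
  clear_value u
  have huT : u ∈ T' := hset'.P_le_T (omegaCenterOf_le _ huV')
  have huS : u ∈ (S' : Subgroup G) := hT'S' huT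
  have huL : u ∈ L := hT'L huT
  have hu2 : u * u = 1 := elem_sq (elem_omegaCenterOf _) huV'
  have hui : u⁻¹ = u := inv_eq_of_mul_eq_one_right hu2
  have huC : u ∉ centralizer (V : Set G) := by
    intro huc
    set u' := x'⁻¹ * z * x' with hu'
    have ha'T : a' ∈ T' := jof_le T' ha'.aJ
    have hau : a' * u * a'⁻¹ = u' := by
      have haz : a' * z * a'⁻¹ = z := hzS' a' (hT'S' ha'T)
      calc a' * u * a'⁻¹ = (a' * x' * a'⁻¹) * (a' * z * a'⁻¹) * (a' * x' * a'⁻¹)⁻¹ := by rw [hu]; group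
        _ = u' := by rw [haz, ha'.a_inv, ha'.ax, inv_inv]
    have huc' : ∀ v ∈ V, v * u' = u' * v := by
      intro v hv
      have hv' := conj_mem (inv_mem (hset.V_norm (hT'L ha'T))) hv
      have h1 := mem_centralizer_iff.1 huc _ hv'
      rw [← hau]
      calc v * (a' * u * a'⁻¹) = a' * (a'⁻¹ * v * a'⁻¹⁻¹ * u) * a'⁻¹ := by group
        _ = a' * (u * (a'⁻¹ * v * a'⁻¹⁻¹)) * a'⁻¹ := by rw [h1]
        _ = _ := by group
    have hboth : ∀ v ∈ V, x'⁻¹ * v * x' ∈ L ∧ x' * v * x'⁻¹ ∈ L := by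
      intro v hv
      refine ⟨hCzL (mem_centralizer_singleton_iff.2 ?_), hCzL (mem_centralizer_singleton_iff.2 ?_)⟩
      · calc x'⁻¹ * v * x' * z = x'⁻¹ * (v * u) * x' := by rw [hu]; group
          _ = x'⁻¹ * (u * v) * x' := by rw [mem_centralizer_iff.1 huc v hv]
          _ = _ := by rw [hu]; group
      · calc x' * v * x'⁻¹ * z = x' * (v * u') * x'⁻¹ := by rw [hu']; group
          _ = x' * (u' * v) * x'⁻¹ := by rw [huc' v hv]
          _ = _ := by rw [hu']; group
    have hpairy : ∀ y : G, y ∉ L → (∀ v ∈ V, y⁻¹ * v * y ∈ L ∧ y * v * y⁻¹ ∈ L) →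
        ∀ v ∈ V, ∀ w ∈ V, v * (y * w * y⁻¹) = y * w * y⁻¹ * v := by
      intro y hy hyV v hv w hw
      set b := y * w * y⁻¹ with hb
      have hc : v * b * v⁻¹ * b⁻¹ ∈ V := by
        rw [show v * b * v⁻¹ * b⁻¹ = v * (b * v⁻¹ * b⁻¹) by group]
        exact mul_mem hv (conj_mem (hset.V_norm (hyV w hw).2) (inv_mem hv))
      set k := y⁻¹ * v * y
      have h2 : k * w * k⁻¹ * w⁻¹ ∈ V := mul_mem (conj_mem (hset.V_norm (hyV v hv).1) hw) (inv_mem hw)
      have e : v * b * v⁻¹ * b⁻¹ = y * (k * w * k⁻¹ * w⁻¹) * y⁻¹ := by rw [hb]; simp only [k]; group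
      have h3 : k * w * k⁻¹ * w⁻¹ = 1 := by
        by_contra hne1
        exact hy (hti y _ h2 hne1 (e ▸ hc))
      rw [h3, mul_one, mul_inv_cancel, ← commutatorElement_def] at e
      exact commutatorElement_eq_one_iff_mul_comm.1 e
    refine no_straddle_core g.max hset hti (by rw [hV4]; norm_num) hset' hT'L
      (fun H hH hHL hTH => (straddle_main hL hN hZ hMJ' hT' hH hHL hTH).1.P_le_T) ha' hx'L hTX ?_ hzV hz1
    intro k hk v hv w hw
    have hzn : zpowers x' ≤ normalizer (Pc L' : Set G) := zpowers_le.2 (hset'.P_norm ha'.xL)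
    obtain ⟨y, hy, p, hp, he⟩ := (Cfsg.Lib.Coprime.mem_sup_of_le_normalizer' hzn).1 hk
    obtain ⟨n, rfl⟩ := mem_powers_iff_mem_zpowers.2 hy
    change x' ^ n * p = k at he
    rw [← pow_mod_orderOf, ha'.order] at he
    have hn3 : n % 3 < 3 := Nat.mod_lt _ (by omega)
    have hpV := conj_mem (hset.V_norm (hT'L (hset'.P_le_T hp))) hw
    rw [← he, show x' ^ (n % 3) * p * w * (x' ^ (n % 3) * p)⁻¹ = x' ^ (n % 3) * (p * w * p⁻¹) * (x' ^ (n % 3))⁻¹
      by group]
    interval_cases hnm : n % 3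
    · simpa using elem_comm hVe hv hpV
    · rw [pow_one]
      exact hpairy x' hx'L hboth v hv _ hpV
    · rw [pow_two, ← ha'.x_inv]
      exact hpairy x'⁻¹ (fun e => hx'L (inv_inv x' ▸ inv_mem e))
        (fun v hv => by rw [inv_inv]; exact ⟨(hboth v hv).2, (hboth v hv).1⟩) v hv _ hpV
  -- an element `v` moved by `u`
  obtain ⟨v, hv, hvu⟩ : ∃ v ∈ V, v * u ≠ u * v := by
    by_contra hno
    push Not at hno
    exact huC (mem_centralizer_iff.2 hno)
  have hv1 : v ≠ 1 := fun e => hvu (by rw [e, one_mul, mul_one])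
  have hzv : z ≠ v := fun e => hvu (by rw [← e]; exact (hzS u huS).symm)
  have hfour := fun {w : G} (hw : w ∈ V) => four_cases hVe hV4 hzV hv hz1 hv1 hzv hw
  have himg : ∀ k ∈ L, k * z * k⁻¹ = z → k * v * k⁻¹ = v ∨ k * v * k⁻¹ = z * v := by
    intro k hk hkz
    rcases hfour (conj_mem (hset.V_norm hk) hv) with e | e | e | e
    · refine absurd ?_ hv1
      calc v = k⁻¹ * (k * v * k⁻¹) * k := by group
        _ = 1 := by rw [e]; group
    · refine absurd ?_ hzv.symm
      calc v = k⁻¹ * (k * v * k⁻¹) * k := by group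
        _ = k⁻¹ * (k * z * k⁻¹) * k := by rw [e, hkz]
        _ = z := by group
    · exact Or.inl e
    · exact Or.inr e
  have huv : u * v * u⁻¹ = z * v := (himg u huL (hzS' u huS)).resolve_left fun e =>
    hvu (mul_inv_eq_iff_eq_mul.1 e).symm
  have huzv : u * (z * v) * u⁻¹ = v := by
    rw [show u * (z * v) * u⁻¹ = (u * z * u⁻¹) * (u * v * u⁻¹) by group, hzS' u huS, huv, ← mul_assoc,
      elem_sq hVe hzV, one_mul]
  have hSP : ∀ s ∈ (S' : Subgroup G), s ∈ P ∨ s * u ∈ P := by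
    have hmem : ∀ s ∈ (S' : Subgroup G), s * v * s⁻¹ = v → s ∈ P := by
      intro s hs hsv
      refine hset.two_le_P (R := (S' : Subgroup G) ⊓ Cv L) (S'.isPGroup'.to_le inf_le_left) inf_le_right
        (mem_inf.2 ⟨hs, (Setting.mem_Cv_iff (hS'L hs)).2 fun w hw => ?_⟩)
      rcases hfour hw with e | e | e | e <;> rw [e]
      · group
      · exact hzS' s hs
      · exact hsv
      · rw [show s * (z * v) * s⁻¹ = (s * z * s⁻¹) * (s * v * s⁻¹) by group, hzS' s hs, hsv]
    intro s hs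
    rcases himg s (hS'L hs) (hzS' s hs) with e | e
    · exact Or.inl (hmem s hs e)
    · refine Or.inr (hmem _ (mul_mem hs huS) ?_)
      rw [show s * u * v * (s * u)⁻¹ = s * (u * v * u⁻¹) * s⁻¹ by group, huv,
        show s * (z * v) * s⁻¹ = (s * z * s⁻¹) * (s * v * s⁻¹) by group, hzS' s hs, e, ← mul_assoc,
        elem_sq hVe hzV, one_mul]
  have hVP : ∀ w ∈ V, ∀ p ∈ P, p * w = w * p := fun w hw p hp => (mem_omegaCenterOf.1 hw).2.1 p hp
  have hVP' : V ≤ P := omegaCenterOf_le _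
  -- `Q`
  set Q := T' ⊓ kCen K' with hQdef
  have hQn : K' ⊔ T' ≤ normalizer (Q : Set G) := g'.norm_kCen
  have hx'K : x' ∈ K' := hKx' ▸ ha'.x_mem_Kx
  have hQu : ∀ q ∈ Q, q * u = u * q := by
    intro q hq
    have hq' := conj_mem (inv_mem (hQn (mem_sup_left hx'K))) hq
    rw [inv_inv] at hq'
    have h1 := hzS _ (hT'S' (mem_inf.1 hq').1)
    calc q * u = x' * (x'⁻¹ * q * x' * z) * x'⁻¹ := by rw [hu]; group
      _ = x' * (z * (x'⁻¹ * q * x')) * x'⁻¹ := by rw [h1]
      _ = _ := by rw [hu]; group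
  have ha'n : a' ∉ kCen K' := by
    intro h
    have h1 := (mem_kCen.1 h).2 x' hx'K
    rw [commutatorElement_def, show x' * a' * x'⁻¹ * a'⁻¹ = x' * (a' * x' * a'⁻¹)⁻¹ by group,
      ha'.a_inv, ha'.ax, inv_inv] at h1
    have h2 := mul_mem h1 h1
    rw [show x' * x' * (x' * x') = x' ^ 3 * x' by simp only [pow_succ, pow_zero, one_mul, mul_assoc], ha'.x3,
      one_mul] at h2
    exact ((tri_of_comp g'.comp).gen3 hx'K ha'.order).1 h2
  have ha'T : a' ∈ T' := jof_le T' ha'.aJ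
  have hQof : ∀ t ∈ T', t * u = u * t → t ∈ Q := by
    intro t ht htu
    refine mem_inf.2 ⟨ht, ?_⟩
    by_contra htn
    have hq : t * a' ∈ Q := mem_inf.2 ⟨mul_mem ht ha'T, g'.mul_mem ht ha'T htn ha'n⟩
    have h2 : a' * u = u * a' := by
      have h := ((show Commute t u from htu).inv_left.mul_left (show Commute (t * a') u from hQu _ hq)).eq
      rwa [show t⁻¹ * (t * a') = a' by group] at h
    refine hx'L (hCzL (mem_centralizer_singleton_iff.2 ?_))
    have haz : a' * z * a'⁻¹ = z := hzS' a' (hT'S' ha'T)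
    have h3 : u = x'⁻¹ * z * x' := by
      calc u = a' * u * a'⁻¹ := by rw [h2, mul_inv_cancel_right]
        _ = (a' * x' * a'⁻¹) * (a' * z * a'⁻¹) * (a' * x' * a'⁻¹)⁻¹ := by rw [hu]; group
        _ = _ := by rw [haz, ha'.a_inv, ha'.ax, inv_inv]
    calc x' * z = (x' ^ 3)⁻¹ * x' * z * x'⁻¹ * x' := by rw [ha'.x3]; group
      _ = (x' ^ 3)⁻¹ * u * x' := by rw [hu]; group
      _ = (x' ^ 3)⁻¹ * (x'⁻¹ * z * x') * x' := by rw [h3]
      _ = (x' ^ 3)⁻¹ * x' * (x'⁻¹ * (x'⁻¹ * z * x') * x') := by group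
      _ = (x' ^ 3)⁻¹ * x' * (x'⁻¹ * u * x') := by rw [← h3]
      _ = (x' ^ 3)⁻¹ * x' * z := by rw [hu]; group
      _ = x' * z := by rw [ha'.x3]; group
      _ = _ := by
        have h4 : x' * (x' * z * x'⁻¹) * x'⁻¹ = z := by
          rw [← hu, h3]; group
        have h5 : x'⁻¹ * z * x' = x' * (x' * z * x'⁻¹) * x'⁻¹ := by
          calc x'⁻¹ * z * x' = (x' ^ 3) * (x'⁻¹ * z * x') * (x' ^ 3)⁻¹ := by rw [ha'.x3]; group
            _ = _ := by simp only [pow_succ, pow_zero, one_mul]; group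
        have h6 : x' * z * x'⁻¹ = z := by rw [← hu, h3, h5, h4]
        exact mul_inv_eq_iff_eq_mul.1 h6
  have hzQ : z ∈ Q := hQof z hzT' (hzS u huS).symm
  have huQ : u ∈ Q := hQof u huT rfl
  have hNQ : normalizer (Q : Set G) ≤ L' :=
    g'.local_le ⟨_, g'.T2.to_le inf_le_left, fun e => hz1 (mem_bot.1 (e ▸ hzQ)), rfl⟩
      ((sup_le_sup_left (jof_le T') K').trans hQn)
  have hST : ∀ s ∈ (S' : Subgroup G), s ∈ L' → s ∈ T' := fun s hs hs' =>
    (sylowIn_eq_of_le hset'.syl (le_inf hT'S' hset'.syl.1 : T' ≤ (S' : Subgroup G) ⊓ L') inf_le_right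
      (S'.isPGroup'.to_le inf_le_left)).le (mem_inf.2 ⟨hs, hs'⟩)
  have hvS : v ∈ (S' : Subgroup G) := hPS (hVP' hv)
  have hvT : v ∈ T' := by
    refine hST v hvS (hNQ (le_normalizer_of_conj (K := zpowers v) ?_ (mem_zpowers v)))
    intro m hm q hq
    obtain ⟨n, rfl⟩ := mem_zpowers_iff.1 hm
    have hvi : v⁻¹ = v := elem_inv hVe hv
    suffices h : v * q * v⁻¹ ∈ Q by
      rcases Int.even_or_odd n with ⟨k, hk⟩ | ⟨k, hk⟩
      · rw [hk, zpow_add, ← (Commute.refl v).mul_zpow, elem_sq hVe hv, one_zpow]; simpa using hq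
      · rw [hk, zpow_add, zpow_one, two_mul, zpow_add, ← (Commute.refl v).mul_zpow, elem_sq hVe hv, one_zpow,
          one_mul]
        exact h
    have hqS := hT'S' (mem_inf.1 hq).1
    rcases himg q (hS'L hqS) (hzS' q hqS) with e | e
    · rwa [show v * q * v⁻¹ = v * (q * v⁻¹ * q⁻¹) * q by group,
        show q * v⁻¹ * q⁻¹ = (q * v * q⁻¹)⁻¹ by group, e, mul_inv_cancel, one_mul]
    · rw [show v * q * v⁻¹ = v * (q * v * q⁻¹)⁻¹ * q by group, e, mul_inv_rev, ← mul_assoc v v⁻¹, mul_inv_cancel,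
        one_mul]
      exact mul_mem (inv_mem hzQ) hq
  have hvQ : v ∉ Q := fun h => hvu (hQu v h)
  have hTQ : ∀ t ∈ T', t ∈ Q ∨ t * v ∈ Q := by
    intro t ht
    by_cases htn : t ∈ kCen K'
    · exact Or.inl (mem_inf.2 ⟨ht, htn⟩)
    · exact Or.inr (mem_inf.2 ⟨mul_mem ht hvT, g'.mul_mem ht hvT htn fun h => hvQ (mem_inf.2 ⟨hvT, h⟩)⟩)
  have hSu : ∀ s ∈ (S' : Subgroup G), s * u = u * s → s ∈ Q := by
    set R := (S' : Subgroup G) ⊓ centralizer ({u} : Set G)
    have hQR : Q ≤ R := fun q hq =>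
      mem_inf.2 ⟨hT'S' (mem_inf.1 hq).1, mem_centralizer_singleton_iff.2 (hQu q hq)⟩
    intro s hs hsu
    suffices hQe : Q = R from hQe.ge (mem_inf.2 ⟨hs, mem_centralizer_singleton_iff.2 hsu⟩)
    by_contra hneQ
    obtain ⟨k, hk, hkn, hkQ⟩ := exists_normalizing (S'.isPGroup'.to_le inf_le_left : IsPGroup 2 R) hQR hneQ
    exact hkQ (hQof k (hST k (mem_inf.1 hk).1 (hNQ hkn)) (mem_centralizer_singleton_iff.1 (mem_inf.1 hk).2))
  -- `Q` has exponent two
  obtain ⟨r, hrS, hrT, hrn⟩ := exists_normalizing S'.isPGroup' hT'S' hne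
  have hrL' : r ∉ L' := fun h => hrn (hST r hrS h)
  have hzP : z ∈ P := hVP' hzV
  have hQD : ∀ q ∈ Q, ∃ d ∈ Q, d ∈ P ∧ q * q = d * d := by
    intro q hq
    rcases hSP q (hT'S' (mem_inf.1 hq).1) with h | h
    · exact ⟨q, hq, h, rfl⟩
    · refine ⟨q * u, mul_mem hq huQ, h, ?_⟩
      calc q * q = q * q * (u * u) := by rw [hu2, mul_one]
        _ = q * (q * u) * u := by group
        _ = q * (u * q) * u := by rw [hQu q hq]
        _ = _ := by group
  set Sq := closure {s : G | ∃ q ∈ Q, q * q = s} with hSq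
  have hSqn : normalizer (Q : Set G) ≤ normalizer (Sq : Set G) := fun k hk => mem_normalizer_of_cj_le (by
    rw [hSq, cj, MonoidHom.map_closure]
    refine closure_mono ?_
    rintro _ ⟨_, ⟨q, hq, rfl⟩, rfl⟩
    exact ⟨k * q * k⁻¹, conj_mem hk hq, by simp [mul_assoc]⟩)
  have hF : ∀ f ∈ T', f ∈ P → ∃ q ∈ Q, q * q = f * f := by
    intro f hf hfP
    rcases hTQ f hf with h | h
    · exact ⟨f, h, rfl⟩
    · refine ⟨f * v, h, ?_⟩
      calc f * v * (f * v) = f * (v * f) * v := by group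
        _ = f * (f * v) * v := by rw [← hVP v hv f hfP]
        _ = f * f * (v * v) := by group
        _ = _ := by rw [elem_sq hVe hv, mul_one]
  have hrSq : r ∈ normalizer (Sq : Set G) := mem_normalizer_of_cj_le (by
    rw [hSq, cj, MonoidHom.map_closure, closure_le]
    rintro _ ⟨_, ⟨q, hq, rfl⟩, rfl⟩
    obtain ⟨d, hd, hdP, e⟩ := hQD q hq
    obtain ⟨q', hq', e'⟩ := hF (r * d * r⁻¹) (conj_mem hrT (mem_inf.1 hd).1)
      (conj_mem (hset.P_norm (hS'L hrS)) hdP)
    refine subset_closure ⟨q', hq', ?_⟩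
    show q' * q' = r * (q * q) * r⁻¹
    rw [e', e]; group)
  have hQ2 : ∀ q ∈ Q, q * q = 1 := by
    intro q hq
    by_contra hq1
    have hne1 : Sq ≠ ⊥ := fun e => hq1 (mem_bot.1 (e ▸ subset_closure ⟨q, hq, rfl⟩))
    have hle : Sq ≤ T' := (closure_le _).2 (by
      rintro _ ⟨q, hq, rfl⟩
      exact mul_mem (mem_inf.1 hq).1 (mem_inf.1 hq).1)
    exact hrL' (g'.local_le ⟨Sq, g'.T2.to_le hle, hne1, rfl⟩
      (((sup_le_sup_left (jof_le T') K').trans hQn).trans hSqn) hrSq)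
  have hQe : Cfsg.IsElementaryAbelian 2 Q := elem_of_sq hQ2
  have hDZ : ∀ d ∈ Q, d ∈ P → d ∈ Cfsg.omegaCenterOf (Jof T') := by
    intro d hd hdP
    refine omega_le_omega_jof T' (mem_omegaCenterOf.2 ⟨(mem_inf.1 hd).1, fun t ht => ?_, hQ2 d hd⟩)
    rcases hTQ t ht with h | h
    · exact elem_comm hQe h hd
    · have h1 : Commute d (t * v) := (elem_comm hQe hd h)
      have h2 : Commute d v := hVP v hv d hdP
      have h3 := h1.mul_right h2.inv_right
      rw [mul_inv_cancel_right] at h3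
      exact h3.eq.symm
  -- an element of order 3 inverted by `u`
  set w := x * z * x⁻¹ with hw
  have hwV : w ∈ V := conj_mem (hset.V_norm hxL) hzV
  have hzW : z ∈ W := hVW ▸ hzV
  have hwne : w ≠ z := fun e => hz1 (hM.fix_eq_one hzW e)
  have hw1 : w ≠ 1 := fun e => hz1 (by
    calc z = x⁻¹ * w * x := by rw [hw]; group
      _ = 1 := by rw [e]; group)
  have hsum : z * w * (x * w * x⁻¹) = 1 := hM.sum_eq_one hzW
  have hzw2 : x * w * x⁻¹ = z * w := by
    rw [mul_eq_one_iff_eq_inv] at hsum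
    rw [show x * w * x⁻¹ = (x * w * x⁻¹)⁻¹⁻¹ by group, ← hsum]
    exact elem_inv hVe (mul_mem hzV hwV)
  have hxinvz : x⁻¹ * z * x = z * w := by
    rw [← hzw2]
    calc x⁻¹ * z * x = x⁻¹ * (x * (x * (x * z * x⁻¹) * x⁻¹) * x⁻¹) * x := by rw [hM.conj3 z]
      _ = _ := by rw [hw]; group
  have huw : u * w * u⁻¹ = z * w := by
    rcases hfour hwV with e | e | e | e
    · exact absurd e hw1
    · exact absurd e hwne
    · rw [e]; exact huv
    · rw [e, huzv, ← mul_assoc, elem_sq hVe hzV, one_mul]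
  have huzw : u * (z * w) * u⁻¹ = w := by
    rw [show u * (z * w) * u⁻¹ = (u * z * u⁻¹) * (u * w * u⁻¹) by group, hzS' u huS, huw, ← mul_assoc,
      elem_sq hVe hzV, one_mul]
  set y0 := x * u * x⁻¹ * u with hy0
  have hy0L : y0 ∈ L := mul_mem (mul_mem (mul_mem hxL huL) (inv_mem hxL)) huL
  clear_value w y0
  have hact : ∀ k : G, y0 * k * y0⁻¹ = x * (u * (x⁻¹ * (u * k * u⁻¹) * x) * u⁻¹) * x⁻¹ := fun k => by
    rw [hy0]; group
  have hy0z : y0 * z * y0⁻¹ = z * w := by
    rw [hact, hzS' u huS, hxinvz, huzw, hzw2]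
  have hy0w : y0 * w * y0⁻¹ = z := by
    have h2 : x⁻¹ * (z * w) * x = w := by
      calc x⁻¹ * (z * w) * x = x⁻¹ * (x * w * x⁻¹) * x := by rw [hzw2]
        _ = w := by group
    rw [hact, huw, h2, huw]
    rw [show x * (z * w) * x⁻¹ = (x * z * x⁻¹) * (x * w * x⁻¹) by group, hzw2, ← hw, ← mul_assoc,
      elem_comm hVe hwV hzV, mul_assoc, elem_sq hVe hwV, mul_one]
  have hy03 : y0 ^ 3 * z * (y0 ^ 3)⁻¹ = z := by
    calc y0 ^ 3 * z * (y0 ^ 3)⁻¹ = y0 * (y0 * (y0 * z * y0⁻¹) * y0⁻¹) * y0⁻¹ := by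
          simp only [pow_succ, pow_zero, one_mul]; group
      _ = y0 * (y0 * (z * w) * y0⁻¹) * y0⁻¹ := by rw [hy0z]
      _ = y0 * w * y0⁻¹ := by
        rw [show y0 * (z * w) * y0⁻¹ = (y0 * z * y0⁻¹) * (y0 * w * y0⁻¹) by group, hy0z, hy0w,
          elem_comm hVe (mul_mem hzV hwV) hzV, ← mul_assoc z z w, elem_sq hVe hzV, one_mul, hy0w]
      _ = z := hy0w
  have hy0inv : u * y0 * u⁻¹ = y0⁻¹ := by
    rw [hy0, hui]
    calc u * (x * u * x⁻¹ * u) * u = u * x * u * x⁻¹ * (u * u) := by group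
      _ = u * x * u * x⁻¹ := by rw [hu2, mul_one]
      _ = u⁻¹ * x * u⁻¹ * x⁻¹ := by rw [hui]
      _ = _ := by group
  obtain ⟨s, hsodd⟩ := exists_odd_pow y0
  set x1 := y0 ^ 2 ^ s with hx1
  have hx1L : x1 ∈ L := pow_mem hy0L _
  have hinv : ∀ n : ℕ, u * y0 ^ n * u⁻¹ = (y0 ^ n)⁻¹ := fun n => by rw [← conj_pow, hy0inv, inv_pow]
  have hkill : ∀ k : G, Odd (orderOf k) → u * k * u⁻¹ = k⁻¹ → k * z * k⁻¹ = z → k = 1 := by
    intro k hko huk hkz
    have hkn := hCz (mem_centralizer_singleton_iff.2 (mul_inv_eq_iff_eq_mul.1 hkz))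
    have h1 : k * u * k⁻¹ * u⁻¹ ∈ (S' : Subgroup G) := mul_mem (conj_mem hkn huS) (inv_mem huS)
    rw [show k * u * k⁻¹ * u⁻¹ = k * (u * k * u⁻¹)⁻¹ by group, huk, inv_inv, ← pow_two] at h1
    have h2 : k ^ 2 = 1 := eq_one_of_odd S'.isPGroup' h1 (Odd.of_dvd_nat hko (orderOf_pow_dvd 2))
    exact orderOf_eq_one_iff.1 (Nat.eq_one_of_dvd_coprimes (hko.coprime_two_right) dvd_rfl
      (orderOf_dvd_of_pow_eq_one h2))
  have hy0mov : y0 * z * y0⁻¹ ≠ z := by
    rw [hy0z]
    intro e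
    exact hw1 (mul_eq_left.1 e)
  have hx1z : x1 * z * x1⁻¹ ≠ z := by
    intro e
    have h1 : x1 = 1 := hkill x1 hsodd (hinv _) e
    refine hy0mov (mul_inv_eq_iff_eq_mul.2 (mem_centralizer_singleton_iff.1 (?_ : y0 ∈ centralizer ({z} : Set G))))
    refine mem_of_coprime_pows (Nat.Coprime.pow_left s (by decide : Nat.Coprime 2 3)) ?_
      (mem_centralizer_singleton_iff.2 (mul_inv_eq_iff_eq_mul.1 hy03))
    rw [← hx1, h1]; exact one_mem _
  have hx13 : x1 ^ 3 = 1 := by
    refine hkill _ (Odd.of_dvd_nat hsodd (orderOf_pow_dvd 3)) ?_ ?_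
    · rw [hx1, ← pow_mul]; exact hinv _
    · have hm : y0 ^ 3 ∈ centralizer ({z} : Set G) :=
        mem_centralizer_singleton_iff.2 (mul_inv_eq_iff_eq_mul.1 hy03)
      have h1 : x1 ^ 3 ∈ centralizer ({z} : Set G) := by
        rw [hx1, ← pow_mul, mul_comm, pow_mul]; exact pow_mem hm _
      exact mul_inv_eq_iff_eq_mul.2 (mem_centralizer_singleton_iff.1 h1)
  have hx1u : u * x1 * u⁻¹ = x1⁻¹ := hinv _
  -- no element of `C(z1)` moves `z`
  have hmove : ∀ k ∈ L', k ∈ L → k * z * k⁻¹ = z := by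
    intro k hk hkL
    by_contra hne1
    have hm : k * z * k⁻¹ ∈ Vm L' := conj_mem (hset'.V_norm hk) hzV'
    have hc : u * (k * z * k⁻¹) * u⁻¹ = k * z * k⁻¹ := by
      rw [elem_comm (elem_omegaCenterOf _) huV' hm, mul_inv_cancel_right]
    rcases hfour (conj_mem (hset.V_norm hkL) hzV) with e | e | e | e
    · refine hz1 ?_
      calc z = k⁻¹ * (k * z * k⁻¹) * k := by group
        _ = 1 := by rw [e]; group
    · exact hne1 e
    · rw [e, huv] at hc
      exact hz1 (mul_eq_right.1 hc)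
    · rw [e, huzv] at hc
      exact hz1 (mul_eq_right.1 hc.symm)
  have hZ0' : ∀ e ∈ Cfsg.omegaCenterOf (Jof T'), e ≠ 1 → e ≠ z → ∀ k ∈ L, k * e = e * k → k * z * k⁻¹ = z := by
    intro e he he1 hez k hkL hke
    have huniq' := g'.uniq
    have h4 : Nat.card ↥(Cfsg.omegaCenterOf (Jof T')) = 4 := by
      rcases hdisj with ⟨heq, h2⟩ | ⟨-, h4, -⟩
      · exfalso
        have hzc := (centralizer_omega_two hc2 hz hz1).1
        have hm : e ∈ zpowers z := by rw [hzc, heq]; exact he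
        obtain ⟨n, rfl⟩ := mem_zpowers_iff.1 hm
        rcases Int.even_or_odd n with ⟨j, hj⟩ | ⟨j, hj⟩
        · exact he1 (by rw [hj, zpow_add, ← (Commute.refl z).mul_zpow, elem_sq hVe hzV, one_zpow])
        · exact hez (by rw [hj, zpow_add, zpow_one, two_mul, zpow_add, ← (Commute.refl z).mul_zpow,
            elem_sq hVe hzV, one_zpow, one_mul])
      · exact h4
    have hzZ : z ∈ Cfsg.omegaCenterOf (Jof T') :=
      omega_le_omega_jof T' (mem_omegaCenterOf.2 ⟨hzT', fun t ht => hzS t (hT'S' ht), elem_sq hVe hzV⟩)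
    obtain ⟨z1, hz1c, hz1n⟩ := (bot_or_exists_ne_one (Zc T' K')).resolve_left fun e => by
      have := card_jof_center_le g'.T2 g'.comp
      rw [h4, e, card_bot] at this
      omega
    have hcen := cen_zc_le g'.max huniq' hz1c hz1n
    have hzz1 : z ≠ z1 := fun e => hne (le_antisymm hT'S' fun s hs =>
      hST s hs (hcen (e ▸ mem_centralizer_singleton_iff.2 (hzS s hs))))
    have hrz1 : r * z1 * r⁻¹ = z * z1 := by
      rcases four_cases (elem_omegaCenterOf (Jof T')) h4 hzZ (Zc_le T' K' hz1c) hz1 hz1n hzz1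
        (conj_mem (normalizer_le_omegaCenterOf _ (Cfsg.Lib.Thompson.normalizer_le_normalizer_thompson T' hrT))
          (Zc_le T' K' hz1c)) with e | e | e | e
      · refine absurd ?_ hz1n
        calc z1 = r⁻¹ * (r * z1 * r⁻¹) * r := by group
          _ = 1 := by rw [e]; group
      · refine absurd ?_ hzz1.symm
        calc z1 = r⁻¹ * (r * z1 * r⁻¹) * r := by group
          _ = r⁻¹ * (r * z * r⁻¹) * r := by rw [e, hzS' r hrS]
          _ = z := by group
      · exact absurd (hcen (mem_centralizer_singleton_iff.2 (mul_inv_eq_iff_eq_mul.1 e))) hrL'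
      · exact e
    rcases four_cases (elem_omegaCenterOf (Jof T')) h4 hzZ (Zc_le T' K' hz1c) hz1 hz1n hzz1 he with h | h | h | h
    · exact absurd h he1
    · exact absurd h hez
    · exact hmove k (hcen (mem_centralizer_singleton_iff.2 (h ▸ hke))) hkL
    · have hk' : (r⁻¹ * k * r) * z1 = z1 * (r⁻¹ * k * r) := by
        rw [h, ← hrz1] at hke
        calc r⁻¹ * k * r * z1 = r⁻¹ * (k * (r * z1 * r⁻¹)) * r := by group
          _ = r⁻¹ * (r * z1 * r⁻¹ * k) * r := by rw [hke]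
          _ = _ := by group
      have h7 := hmove _ (hcen (mem_centralizer_singleton_iff.2 hk'))
        (mul_mem (mul_mem (inv_mem (hS'L hrS)) hkL) (hS'L hrS))
      calc k * z * k⁻¹ = k * (r * z * r⁻¹) * k⁻¹ := by rw [hzS' r hrS]
        _ = r * (r⁻¹ * k * r * z * (r⁻¹ * k * r)⁻¹) * r⁻¹ := by group
        _ = z := by rw [h7, hzS' r hrS]
  -- `x1` has no fixed points on `P`
  have hxP : x1 ∈ normalizer (P : Set G) := hset.P_norm hx1L
  have hfpf : ∀ p ∈ P, x1 * p * x1⁻¹ = p → p = 1 := by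
    set E := P ⊓ centralizer ({x1} : Set G)
    suffices hE : E = ⊥ from fun p hp hpx => mem_bot.1 (hE ▸ mem_inf.2
      ⟨hp, mem_centralizer_singleton_iff.2 (mul_inv_eq_iff_eq_mul.1 hpx).symm⟩)
    by_contra hE
    have hun : zpowers u ≤ normalizer (E : Set G) := by
      rw [zpowers_le]
      refine mem_normalizer_of_cj_le ?_
      rintro _ ⟨p, hp, rfl⟩
      obtain ⟨hpP, hpx⟩ := mem_inf.1 hp
      refine mem_inf.2 ⟨conj_mem (hset.P_norm huL) hpP, mem_centralizer_singleton_iff.2 ?_⟩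
      show u * p * u⁻¹ * x1 = x1 * (u * p * u⁻¹)
      have h1 : u⁻¹ * x1 * u = x1⁻¹ := by
        conv_lhs => rw [hui]; arg 2; rw [← hui]
        exact hx1u
      have h2 : Commute p x1⁻¹ := (show Commute p x1 from mem_centralizer_singleton_iff.1 hpx).inv_right
      calc u * p * u⁻¹ * x1 = u * (p * (u⁻¹ * x1 * u)) * u⁻¹ := by group
        _ = u * ((u⁻¹ * x1 * u) * p) * u⁻¹ := by rw [h1, h2.eq]
        _ = _ := by group
    obtain ⟨e, he, he1, heu⟩ := exists_fixed ((isPGroup_pCoreOf L).to_le inf_le_left)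
      (elem_isPGroup (zpowers_elem hu2).1) hun hE
    obtain ⟨heP, hex⟩ := mem_inf.1 he
    have heQ : e ∈ Q := hSu e (hPS heP) (heu u (mem_zpowers u)).symm
    refine hx1z ?_
    by_cases hez : e = z
    · rw [← hez, ← mem_centralizer_singleton_iff.1 hex, mul_inv_cancel_right]
    · exact hZ0' e (hDZ e heQ heP) he1 hez x1 hx1L (mem_centralizer_singleton_iff.1 hex).symm
  -- `C_P(u) ≤ V`
  have hDV : ∀ d ∈ Q, d ∈ P → d ∈ V := by
    intro d hd hdP
    by_contra hdV
    have hd1 : d ≠ 1 := fun e => hdV (e ▸ one_mem _)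
    have hdz : d ≠ z := fun e => hdV (e ▸ hzV)
    have hd2 := hQ2 d hd
    set y := x1 * d * x1⁻¹ with hy
    have hrel := fpf_three hxP hx13 hfpf hdP
    rw [← hy] at hrel
    set y' := x1 * y * x1⁻¹ with hy'
    clear_value y y'
    have huy : u * y * u⁻¹ = y' := by
      have hud : u * d * u⁻¹ = d := by rw [← hQu d hd, mul_inv_cancel_right]
      calc u * y * u⁻¹ = (u * x1 * u⁻¹) * (u * d * u⁻¹) * (u * x1 * u⁻¹)⁻¹ := by rw [hy]; group
        _ = x1⁻¹ * d * x1 := by rw [hx1u, hud, inv_inv]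
        _ = x1 ^ 3 * (x1⁻¹ * d * x1) * (x1 ^ 3)⁻¹ := by rw [hx13]; group
        _ = y' := by rw [hy', hy]; simp only [pow_succ, pow_zero, one_mul]; group
    have hyy : y * y = 1 := by
      rw [hy, show x1 * d * x1⁻¹ * (x1 * d * x1⁻¹) = x1 * (d * d) * x1⁻¹ by group, hd2]; group
    have hy'y' : y' * y' = 1 := by
      rw [hy', show x1 * y * x1⁻¹ * (x1 * y * x1⁻¹) = x1 * (y * y) * x1⁻¹ by group, hyy]; group
    have e1 : y * y' = d := by
      calc y * y' = d * (d * y * y') := by rw [← mul_assoc, ← mul_assoc, hd2, one_mul]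
        _ = d := by rw [hrel, mul_one]
    have e2 : y' * y = d := by
      calc y' * y = (y * y')⁻¹ := by
            rw [mul_inv_rev, inv_eq_of_mul_eq_one_right hyy, inv_eq_of_mul_eq_one_right hy'y']
        _ = d := by rw [e1, inv_eq_of_mul_eq_one_right hd2]
    have e3 : y' = y * d := by rw [← e1, ← mul_assoc, hyy, one_mul]
    have hyd : y * d = d * y := by
      rw [← e3]
      calc y' = y' * (y * y) := by rw [hyy, mul_one]
        _ = d * y := by rw [← mul_assoc, e2]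
    have hyP : y ∈ P := hy ▸ conj_mem hxP hdP
    -- `y` lies in `T'`
    have hyT : y ∈ T' := by
      refine hST y (hPS hyP) ?_
      have huniq' := g'.uniq
      have hdZ := hDZ d hd hdP
      have h4 : Nat.card ↥(Cfsg.omegaCenterOf (Jof T')) = 4 := by
        rcases hdisj with ⟨heq, h2⟩ | ⟨-, h4, -⟩
        · exfalso
          have hzc := (centralizer_omega_two hc2 hz hz1).1
          have hm : d ∈ zpowers z := by rw [hzc, heq]; exact hdZ
          exact hdV ((zpowers_le.2 hzV) hm)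
        · exact h4
      have hzZ : z ∈ Cfsg.omegaCenterOf (Jof T') := hDZ z hzQ hzP
      obtain ⟨z1, hz1c, hz1n⟩ := (bot_or_exists_ne_one (Zc T' K')).resolve_left fun e => by
        have := card_jof_center_le g'.T2 g'.comp
        rw [h4, e, card_bot] at this
        omega
      have hcen := cen_zc_le g'.max huniq' hz1c hz1n
      have hzz1 : z ≠ z1 := fun e => hne (le_antisymm hT'S' fun s hs =>
        hST s hs (hcen (e ▸ mem_centralizer_singleton_iff.2 (hzS s hs))))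
      rcases four_cases (elem_omegaCenterOf (Jof T')) h4 hzZ (Zc_le T' K' hz1c) hz1 hz1n hzz1 hdZ with h | h | h | h
      · exact absurd h hd1
      · exact absurd h hdz
      · exact hcen (mem_centralizer_singleton_iff.2 (h ▸ hyd))
      · have hyz : Commute y z := (show y * z = z * y from hzS y (hPS hyP))
        refine hcen (mem_centralizer_singleton_iff.2 ?_)
        have h5 : Commute y (z * z1) := h ▸ hyd
        have h6 := hyz.mul_right h5
        rwa [← mul_assoc, elem_sq hVe hzV, one_mul] at h6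
    have hdV' : ∀ q ∈ Q, q ∈ P → q ∈ V ∨ d * q ∈ V := by
      intro q hq hqP
      have hzc := hDZ z hzQ hzP
      have hdZ := hDZ d hd hdP
      rcases Nat.lt_or_ge (Nat.card ↥(Cfsg.omegaCenterOf (Jof T'))) 4 with hlt | hge
      · exfalso
        rcases hdisj with ⟨heq, h2⟩ | ⟨-, h4, -⟩
        · have hzc' := (centralizer_omega_two hc2 hz hz1).1
          have hm : d ∈ zpowers z := by rw [hzc', heq]; exact hdZ
          exact hdV ((zpowers_le.2 hzV) hm)
        · omega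
      have h4 : Nat.card ↥(Cfsg.omegaCenterOf (Jof T')) = 4 := by
        rcases hdisj with ⟨-, h2⟩ | ⟨-, h4, -⟩
        · omega
        · exact h4
      rcases four_cases (elem_omegaCenterOf (Jof T')) h4 hzc hdZ hz1 hd1 (Ne.symm hdz) (hDZ q hq hqP) with
        h | h | h | h
      · exact Or.inl (h ▸ one_mem _)
      · exact Or.inl (h ▸ hzV)
      · exact Or.inr (by rw [h, hd2]; exact one_mem _)
      · refine Or.inr ?_
        rw [h, hVP z hzV d hdP |>.symm, ← mul_assoc, hd2, one_mul]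
        exact hzV
    have hycases : y ∈ V ∨ d * y ∈ V := by
      rcases hTQ y hyT with h | h
      · exact hdV' y h hyP
      · rcases hdV' _ h (mul_mem hyP (hVP' hv)) with h1 | h1
        · left
          have := mul_mem h1 (inv_mem hv)
          rwa [mul_inv_cancel_right] at this
        · right
          have := mul_mem h1 (inv_mem hv)
          rwa [show d * (y * v) * v⁻¹ = d * y by group] at this
    rcases hycases with h | h
    · exact hdV (by rw [← e1, ← huy]; exact mul_mem h (conj_mem (hset.V_norm huL) h))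
    · have h' : d * y' ∈ V := by
        have hud : u * d * u⁻¹ = d := by rw [← hQu d hd, mul_inv_cancel_right]
        have := conj_mem (hset.V_norm huL) h
        rwa [show u * (d * y) * u⁻¹ = (u * d * u⁻¹) * (u * y * u⁻¹) by group, hud, huy] at this
      refine hdV ?_
      have h8 := mul_mem h h'
      have hdy' : d * y' = y := by
        rw [e3, hyd, ← mul_assoc, hd2, one_mul]
      rw [hdy', mul_assoc, hyy, mul_one] at h8
      exact h8
  -- the end
  have hPV : P ≤ V := by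
    intro p0 hp0
    by_contra hp0V
    set F := V ⊔ zpowers u with hFdef
    have hun : zpowers u ≤ normalizer (V : Set G) := zpowers_le.2 (hset.V_norm huL)
    have hFS : F ≤ (S' : Subgroup G) := sup_le (hVP'.trans hPS) (zpowers_le.2 huS)
    have huP : u ∉ P := fun h => huC (mem_centralizer_iff.2 fun w hw => (hVP w hw u h).symm)
    have hFmem : ∀ f ∈ F, f ∈ V ∨ f * u ∈ V := by
      intro f hf
      obtain ⟨k, hk, m, hm, rfl⟩ := (Cfsg.Lib.Coprime.mem_sup_of_le_normalizer hun).1 hf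
      obtain ⟨n, rfl⟩ := mem_zpowers_iff.1 hm
      rcases Int.even_or_odd n with ⟨j, hj⟩ | ⟨j, hj⟩
      · left
        rw [hj, zpow_add, ← (Commute.refl u).mul_zpow, hu2, one_zpow, mul_one]
        exact hk
      · right
        rw [hj, zpow_add, zpow_one, two_mul, zpow_add, ← (Commute.refl u).mul_zpow, hu2, one_zpow, one_mul,
          mul_assoc, hu2, mul_one]
        exact hk
    have hFne : F ≠ (S' : Subgroup G) := fun e => by
      rcases hFmem p0 (e ▸ hPS hp0) with h | h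
      · exact hp0V h
      · exact huP (by
          have := mul_mem (inv_mem hp0) (hVP' h)
          rwa [inv_mul_cancel_left] at this)
    obtain ⟨k, hkS, hkn, hkF⟩ := exists_normalizing S'.isPGroup' hFS hFne
    obtain ⟨p, hp, hpn, hpV⟩ : ∃ p ∈ P, p ∈ normalizer (F : Set G) ∧ p ∉ V := by
      rcases hSP k hkS with h | h
      · exact ⟨k, h, hkn, fun e => hkF (mem_sup_left e)⟩
      · refine ⟨k * u, h, mul_mem hkn (le_normalizer (mem_sup_right (mem_zpowers u))), fun e => hkF ?_⟩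
        have := mul_mem (mem_sup_left e : k * u ∈ F) (inv_mem (mem_sup_right (mem_zpowers u) : u ∈ F))
        rwa [mul_inv_cancel_right] at this
    set m := p * u * p⁻¹ * u with hm
    have hmV : m ∈ V := (hFmem _ (conj_mem hpn (mem_sup_right (mem_zpowers u)))).resolve_left fun h =>
      huP (by
        have := mul_mem (mul_mem (inv_mem hp) (hVP' h)) hp
        rwa [show p⁻¹ * (p * u * p⁻¹) * p = u by group] at this)
    have hpz : p * z = z * p := hzS p (hPS hp)
    have hfix : ∀ p ∈ P, p * u * p⁻¹ * u = 1 → p ∈ V := by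
      intro p hp he
      refine hDV p (hSu p (hPS hp) ?_) hp
      rw [mul_eq_one_iff_eq_inv, hui] at he
      exact mul_inv_eq_iff_eq_mul.1 he
    have hum : u * m * u⁻¹ = m := by
      calc u * m * u⁻¹ = u * (p * u * p⁻¹) := by rw [hm]; group
        _ = u⁻¹ * (p * u⁻¹ * p⁻¹) := by rw [hui]
        _ = m⁻¹ := by rw [hm]; group
        _ = m := elem_inv hVe hmV
    rcases hfour hmV with e | e | e | e
    · exact hpV (hfix p hp (hm ▸ e))
    · refine hpV ?_
      have h1 : p * v ∈ V := hfix _ (mul_mem hp (hVP' hv)) (by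
        have hvz : v * u * v⁻¹ = z * u := by
          calc v * u * v⁻¹ = v * (u * v * u⁻¹)⁻¹ * u := by group
            _ = z * u := by
              rw [huv, mul_inv_rev, mul_inv_cancel_left, elem_inv hVe hzV]
        calc p * v * u * (p * v)⁻¹ * u = p * (v * u * v⁻¹) * p⁻¹ * u := by group
          _ = (p * z) * u * p⁻¹ * u := by rw [hvz]; group
          _ = z * (p * u * p⁻¹ * u) := by rw [hpz]; group
          _ = 1 := by rw [← hm, e, elem_sq hVe hzV])
      have := mul_mem h1 (inv_mem hv)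
      rwa [mul_inv_cancel_right] at this
    · rw [e, huv] at hum
      exact hz1 (mul_eq_right.1 hum)
    · rw [e, huzv] at hum
      exact hz1 (mul_eq_right.1 hum.symm)
  refine hne (le_antisymm hT'S' fun s hs => ?_)
  have hVT : V ≤ T' := fun w hw => by
    rcases hfour hw with e | e | e | e <;> rw [e]
    · exact one_mem _
    · exact hzT'
    · exact hvT
    · exact mul_mem hzT' hvT
  rcases hSP s hs with h | h
  · exact hVT (hPV h)
  · have := mul_mem (hVT (hPV h)) (inv_mem huT)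
    rwa [mul_inv_cancel_right] at this

end Cfsg.Lib.JComp
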