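import Cfsg.Agent.JComp.Pair

/-!
Two maximal 2-local subgroups `S₄` of the subgroup generated by the elements of odd order.
-/

set_option autoImplicit false
set_option linter.unusedSectionVars false
set_option linter.style.haveILetI false

namespace Cfsg.Lib.JComp

open Subgroup
open scoped commutatorElement Pointwise

universe u

variable {G : Type u} [Group G] [Finite G]

theorem cj_centralizer_singleton (g c : G) :
    cj g (centralizer ({c} : Set G)) = centralizer ({g * c * g⁻¹} : Set G) := by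
  ext y
  rw [mem_cj, mem_centralizer_singleton_iff, mem_centralizer_singleton_iff]
  refine ⟨fun h => ?_, fun h => ?_⟩
  · calc y * (g * c * g⁻¹) = g * (g⁻¹ * y * g * c) * g⁻¹ := by group
      _ = g * (c * (g⁻¹ * y * g)) * g⁻¹ := by rw [h]
      _ = _ := by group
  · calc g⁻¹ * y * g * c = g⁻¹ * (y * (g * c * g⁻¹)) * g := by group
      _ = g⁻¹ * (g * c * g⁻¹ * y) * g := by rw [h]
      _ = _ := by group

theorem Frame.center_elt {T L : Subgroup G} {x : G} {W : Subgroup G} (f : Frame T L x W)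
    (h8 : Nat.card (Pc L) = 8) :
    ∃ c ∈ Pc L, c ≠ 1 ∧ x * c * x⁻¹ = c ∧ c ∉ W ∧ c ∈ Cfsg.omegaCenterOf T ∧
      ∀ m ∈ Pc L, x * m * x⁻¹ = m → m = 1 ∨ m = c := by
  obtain ⟨v, hv, hvW⟩ : ∃ v ∈ Pc L, v ∉ W := by
    by_contra hno
    push Not at hno
    have := Cfsg.Lib.ElemToolkit.card_le_card_of_le (show Pc L ≤ W from hno)
    rw [h8, f.W4] at this
    omega
  obtain ⟨c, hc, r, hr, hxc, rfl⟩ := f.split v hv
  have hc1 : c ≠ 1 := fun e => hvW (by rw [e, one_mul]; exact hr)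
  have hcW : c ∉ W := fun h => hc1 (f.fix_one c h hxc)
  refine ⟨c, hc, hc1, hxc, hcW, mem_omegaCenterOf.2 ⟨f.QT hc, fun t ht =>
    mul_inv_eq_iff_eq_mul.1 (f.fixed t (f.syl.1 ht) c hc hxc), elem_sq f.elem hc⟩, fun m hm hxm => ?_⟩
  set C := Pc L ⊓ centralizer ({x} : Set G)
  have hmem : ∀ q ∈ Pc L, x * q * x⁻¹ = q → q ∈ C := fun q hq hxq =>
    mem_inf.2 ⟨hq, mem_centralizer_singleton_iff.2 (mul_inv_eq_iff_eq_mul.1 hxq).symm⟩
  have h1 := card_mul_le_of_disjoint (A := C) (B := W) (C := Pc L) inf_le_left f.WQ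
    (eq_bot_iff.2 fun q hq => mem_bot.2 (f.fix_one q (mem_inf.1 hq).2
      (by rw [← mem_centralizer_singleton_iff.1 (mem_inf.1 (mem_inf.1 hq).1).2, mul_inv_cancel_right])))
  have h2 : 2 ≤ Nat.card C := two_le_card fun e => hc1 (mem_bot.1 (e ▸ hmem c hc hxc))
  rw [f.W4, h8] at h1
  by_cases hm1 : m = 1
  · exact Or.inl hm1
  · exact Or.inr (two_elements (by omega) (hmem m hm hxm) (hmem c hc hxc) hm1 hc1)

theorem Frame.card_eq {T L : Subgroup G} {x : G} {W : Subgroup G} (f : Frame T L x W) :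
    Nat.card T = 2 * Nat.card (Pc L) ∧ Nat.card L = 6 * Nat.card (Pc L) := by
  have h1 := relIndex_mul_relIndex (⊥ : Subgroup G) (Pc L) T bot_le f.QT
  have h2 := relIndex_mul_relIndex (⊥ : Subgroup G) T L bot_le f.syl.1
  rw [relIndex_bot_left, relIndex_bot_left, f.two] at h1
  rw [relIndex_bot_left, relIndex_bot_left, f.idx] at h2
  omega

section Two

variable {T L₁ L₂ : Subgroup G} {x₁ x₂ : G} {W₁ W₂ : Subgroup G}

theorem trace_finish (f₁ : Frame T L₁ x₁ W₁) (f₂ : Frame T L₂ x₂ W₂) (hne : L₁ ≠ L₂) {H T' : Subgroup G}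
    (h1 : W₁ ≤ H ∧ x₁ ∈ H ∧ Pc L₁ ⊓ T' ≤ W₁) (h2 : W₂ ≤ H ∧ x₂ ∈ H ∧ Pc L₂ ⊓ T' ≤ W₂)
    (hT' : T ⊓ H = T') (h8 : Nat.card T' = 8)
    (i₁ : Nonempty (↥(L₁ ⊓ H : Subgroup G) ≃* Equiv.Perm (Fin 4)) ∧ Cfsg.IsSylowTwoIn T' (L₁ ⊓ H))
    (i₂ : Nonempty (↥(L₂ ⊓ H : Subgroup G) ≃* Equiv.Perm (Fin 4)) ∧ Cfsg.IsSylowTwoIn T' (L₂ ⊓ H)) :
    ∃ M₁ M₂ : Subgroup H, M₁ ≠ M₂ ∧ Cfsg.IsMaximalTwoLocal M₁ ∧ Cfsg.IsMaximalTwoLocal M₂ ∧
        Nonempty (M₁ ≃* Equiv.Perm (Fin 4)) ∧ Nonempty (M₂ ≃* Equiv.Perm (Fin 4)) ∧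
        Nat.card ↥(M₁ ⊓ M₂) = 8 := by
  have hT'T : T' ≤ T := hT' ▸ inf_le_left
  obtain ⟨⟨e₁⟩, hs₁⟩ := i₁
  obtain ⟨⟨e₂⟩, hs₂⟩ := i₂
  set M₁ := (L₁ ⊓ H).subgroupOf H
  set M₂ := (L₂ ⊓ H).subgroupOf H
  have hcard : Nat.card ↥(M₁ ⊓ M₂) = 8 := by
    have he : M₁ ⊓ M₂ = T'.subgroupOf H := by
      rw [show M₁ ⊓ M₂ = ((L₁ ⊓ H) ⊓ (L₂ ⊓ H)).subgroupOf H from (comap_inf _ _ _).symm,
        inf_inf_inf_comm, inf_idem, frames_inf f₁ f₂ hne, hT']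
    rw [he, Nat.card_congr (subgroupOfEquivOfLe (hT' ▸ inf_le_right : T' ≤ H)).toEquiv, h8]
  have k₁ : M₁ ≃* Equiv.Perm (Fin 4) := (subgroupOfEquivOfLe (inf_le_right : L₁ ⊓ H ≤ H)).trans e₁
  have k₂ : M₂ ≃* Equiv.Perm (Fin 4) := (subgroupOfEquivOfLe (inf_le_right : L₂ ⊓ H ≤ H)).trans e₂
  refine ⟨M₁, M₂, fun e => ?_, f₁.maximal_trace h1.1 h1.2.1 hT'T hs₁ h1.2.2,
    f₂.maximal_trace h2.1 h2.2.1 hT'T hs₂ h2.2.2, ⟨k₁⟩, ⟨k₂⟩, hcard⟩
  rw [← e, inf_idem, Nat.card_congr k₁.toEquiv, Nat.card_perm, Nat.card_fin] at hcard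
  exact absurd hcard (by decide)

variable (hZ : ∀ S : Sylow 2 G, centralizer (Cfsg.omegaCenterOf (S : Subgroup G) : Set G) ≤
  normalizer ((S : Subgroup G) : Set G))

include hZ

set_option maxHeartbeats 1000000 in
theorem oddClosure_pair (f₁ : Frame T L₁ x₁ W₁) (f₂ : Frame T L₂ x₂ W₂) (hne : L₁ ≠ L₂)
    (hiso : (Nonempty (↥L₁ ≃* Equiv.Perm (Fin 4)) ∧ Nonempty (↥L₂ ≃* Equiv.Perm (Fin 4))) ∨
      (Nonempty (↥L₁ ≃* Multiplicative (ZMod 2) × Equiv.Perm (Fin 4)) ∧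
        Nonempty (↥L₂ ≃* Multiplicative (ZMod 2) × Equiv.Perm (Fin 4)))) :
    ∃ M₁ M₂ : Subgroup (oddClosure G), M₁ ≠ M₂ ∧ Cfsg.IsMaximalTwoLocal M₁ ∧ Cfsg.IsMaximalTwoLocal M₂ ∧
        Nonempty (M₁ ≃* Equiv.Perm (Fin 4)) ∧ Nonempty (M₂ ≃* Equiv.Perm (Fin 4)) ∧
        Nat.card ↥(M₁ ⊓ M₂) = 8 := by
  classical
  haveI : Fact (Nat.Prime 2) := ⟨Nat.prime_two⟩
  obtain ⟨e, u₁, u₂, he1, ⟨heW1, heW2⟩, ⟨hu1, hu1'⟩, ⟨hu2, hu2'⟩, hom, he, hsqT, hcomm, hinv, hsplit1, hfixe⟩ :=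
    pair_basic f₁ f₂ hne
  have hu1T := f₁.QT (f₁.WQ hu1)
  have hu2T := f₂.QT (f₂.WQ hu2)
  have hdec : ∀ t ∈ T, t ∈ Pc L₁ ∨ t * u₂ ∈ Pc L₁ := fun t ht =>
    (em (t ∈ Pc L₁)).imp id fun h => f₁.mul_core ht hu2T h hu2'
  set H := oddClosure G
  set T0 := W₁ ⊔ W₂
  have hT0T : T0 ≤ T := sup_le (f₁.WQ.trans f₁.QT) (f₂.WQ.trans f₂.QT)
  have hT0H : T0 ≤ H := sup_le f₁.W_oddClosure f₂.W_oddClosure
  have he2 : e * e = 1 := elem_sq f₁.elem (f₁.WQ heW1)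
  have hW2mem : ∀ v ∈ W₂, v ∈ W₁ ∨ v * u₂ ∈ W₁ := by
    intro v hv
    have hu21 : u₂ ≠ 1 := fun h => hu2' (h ▸ (Pc L₁).one_mem)
    have hne2 : e ≠ u₂ := fun h => hu2' (h ▸ f₁.WQ heW1)
    rcases four_cases f₂.We f₂.W4 heW2 hu2 he1 hu21 hne2 hv with h | h | h | h <;> rw [h]
    · exact Or.inl W₁.one_mem
    · exact Or.inl heW1
    · exact Or.inr (by rw [elem_sq f₂.We hu2]; exact W₁.one_mem)
    · exact Or.inr (by rw [mul_assoc, elem_sq f₂.We hu2, mul_one]; exact heW1)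
  have hT0mem : ∀ t ∈ T0, t ∈ W₁ ∨ t * u₂ ∈ W₁ := by
    intro t ht
    obtain ⟨w, hw, v, hv, rfl⟩ := (Cfsg.Lib.Coprime.mem_sup_of_le_normalizer
      (((f₂.WQ.trans f₂.QT).trans f₁.syl.1).trans f₁.Wn)).1 ht
    rcases hW2mem v hv with h | h
    · exact Or.inl (W₁.mul_mem hw h)
    · exact Or.inr (by rw [mul_assoc]; exact W₁.mul_mem hw h)
  have hQT0 : Pc L₁ ⊓ T0 ≤ W₁ := fun t ht => by
    obtain ⟨htQ, ht0⟩ := mem_inf.1 ht
    refine (hT0mem t ht0).resolve_right fun h => hu2' ?_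
    have := (Pc L₁).mul_mem ((Pc L₁).inv_mem htQ) (f₁.WQ h)
    rwa [inv_mul_cancel_left] at this
  obtain ⟨hcT1, hcL1⟩ := f₁.card_eq
  obtain ⟨hcT2, hcL2⟩ := f₂.card_eq
  rcases hiso with ⟨⟨e₁⟩, ⟨e₂⟩⟩ | ⟨⟨e₁⟩, ⟨e₂⟩⟩
  · -- `S₄`
    have hQ1 : Nat.card (Pc L₁) = 4 := by
      have := Nat.card_congr e₁.toEquiv
      rw [hcL1, Nat.card_perm, Nat.card_fin, show Nat.factorial 4 = 24 from rfl] at this
      omega
    have hW1 : W₁ = Pc L₁ := eq_of_le_of_card_ge f₁.WQ (by rw [hQ1, f₁.W4])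
    have hW2 : W₂ = Pc L₂ := eq_of_le_of_card_ge f₂.WQ (by rw [f₂.W4]; omega)
    have hTH : T ≤ H := fun t ht => by
      rcases hdec t ht with h | h
      · exact f₁.W_oddClosure (hW1.ge h)
      · have := H.mul_mem (f₁.W_oddClosure (hW1.ge h)) (H.inv_mem (f₂.W_oddClosure hu2))
        rwa [mul_inv_cancel_right] at this
    have hL1H : L₁ ≤ H := f₁.gen hTH f₁.x_oddClosure
    have hL2H : L₂ ≤ H := f₂.gen hTH f₂.x_oddClosure
    refine trace_finish f₁ f₂ hne (T' := T) ⟨f₁.W_oddClosure, f₁.x_oddClosure, inf_le_left.trans hW1.ge⟩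
      ⟨f₂.W_oddClosure, f₂.x_oddClosure, inf_le_left.trans hW2.ge⟩ (inf_eq_left.2 hTH) (by omega) ?_ ?_
    · rw [inf_eq_left.2 hL1H]; exact ⟨⟨e₁⟩, f₁.syl⟩
    · rw [inf_eq_left.2 hL2H]; exact ⟨⟨e₂⟩, f₂.syl⟩
  -- `2 × S₄`
  have hQ1 : Nat.card (Pc L₁) = 8 := by
    have := Nat.card_congr e₁.toEquiv
    rw [hcL1, Nat.card_prod, Nat.card_perm, Nat.card_fin, show Nat.factorial 4 = 24 from rfl,
      show Nat.card (Multiplicative (ZMod 2)) = 2 by simp [Nat.card_eq_fintype_card]] at this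
    omega
  have hQ2 : Nat.card (Pc L₂) = 8 := by omega
  obtain ⟨c₁, hc1Q, hc11, hc1x, hc1W, hc1O, hc1u⟩ := f₁.center_elt hQ1
  obtain ⟨c₂, hc2Q, hc21, hc2x, hc2W, hc2O, hc2u⟩ := f₂.center_elt hQ2
  set Z0 := Cfsg.omegaCenterOf T with hZ0
  have hZe : Cfsg.IsElementaryAbelian 2 Z0 := elem_omegaCenterOf T
  have heZ : e ∈ Z0 := hom ▸ mem_inf.2 ⟨f₁.WQ heW1, f₂.WQ heW2⟩
  have hZ4 : Nat.card Z0 = 4 := by
    have h2 : Z0.relIndex (Pc L₁) = 2 := by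
      rw [relIndex, index_eq_two_iff_exists_notMem_and]
      refine ⟨⟨u₁, f₁.WQ hu1⟩, fun h => hu1' (mem_inf.1 (hom.le (mem_subgroupOf.1 h))).2, fun b => ?_⟩
      rcases hsplit1 b b.2 with h | h
      · exact Or.inr (mem_subgroupOf.2 (hom.ge (mem_inf.2 ⟨b.2, h⟩)))
      · exact Or.inl (mem_subgroupOf.2 (hom.ge (mem_inf.2 ⟨(Pc L₁).mul_mem b.2 (f₁.WQ hu1), h⟩)))
    have h := relIndex_mul_relIndex (⊥ : Subgroup G) Z0 (Pc L₁) bot_le (hom.le.trans inf_le_left)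
    rw [relIndex_bot_left, relIndex_bot_left, h2, hQ1] at h
    omega
  have hec1 : e ≠ c₁ := fun h => hc1W (h ▸ heW1)
  have hC1 : centralizer ({c₁} : Set G) = L₁ := f₁.cen_fixed hc1Q hc1x hc11
  have hC2 : centralizer ({c₂} : Set G) = L₂ := f₂.cen_fixed hc2Q hc2x hc21
  have hzcases : ∀ z ∈ Z0, z = 1 ∨ z = c₁ ∨ z = e ∨ z = c₁ * e := fun z hz =>
    four_cases hZe hZ4 hc1O heZ hc11 he1 (Ne.symm hec1) hz
  have hc2eq : c₂ = c₁ * e := by
    rcases hzcases c₂ hc2O with h | h | h | h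
    · exact absurd h hc21
    · exact absurd (by rw [← hC1, ← hC2, h]) hne
    · exact absurd (h ▸ heW2) hc2W
    · exact h
  have hc1c2 : c₁ ≠ c₂ := fun h => hne (by rw [← hC1, ← hC2, h])
  have hc1comm : ∀ t ∈ T, t * c₁ = c₁ * t := (mem_omegaCenterOf.1 hc1O).2.1
  have hc1sq : c₁ * c₁ = 1 := elem_sq hZe hc1O
  have hc1T : c₁ ∈ T := f₁.QT hc1Q
  have hc1T0 : c₁ ∉ T0 := fun h => hc1W (hQT0 (mem_inf.2 ⟨hc1Q, h⟩))
  have hidx0 : ∀ t ∈ T, t ∈ T0 ∨ t * c₁ ∈ T0 := by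
    have hQ : ∀ q ∈ Pc L₁, q ∈ T0 ∨ q * c₁ ∈ T0 := by
      intro q hq
      obtain ⟨c, hc, r, hr, hxc, rfl⟩ := f₁.split q hq
      rcases hc1u c hc hxc with rfl | rfl
      · exact Or.inl (by rw [one_mul]; exact mem_sup_left hr)
      · refine Or.inr ?_
        rw [mul_assoc, hc1comm r (f₁.QT (f₁.WQ hr)), ← mul_assoc, hc1sq, one_mul]
        exact mem_sup_left hr
    intro t ht
    rcases hdec t ht with h | h
    · exact hQ t h
    · have hu2i : u₂⁻¹ ∈ T0 := T0.inv_mem (mem_sup_right hu2)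
      rcases hQ _ h with h' | h'
      · exact Or.inl (by simpa using T0.mul_mem h' hu2i)
      · refine Or.inr ?_
        have := T0.mul_mem h' hu2i
        rwa [show t * u₂ * c₁ * u₂⁻¹ = t * c₁ by
          rw [mul_assoc t u₂ c₁, hc1comm u₂ hu2T]; group] at this
  have hT0card : Nat.card T0 = 8 := by
    have h2 : T0.relIndex T = 2 := by
      rw [relIndex, index_eq_two_iff_exists_notMem_and]
      exact ⟨⟨c₁, hc1T⟩, fun h => hc1T0 (mem_subgroupOf.1 h), fun b =>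
        (hidx0 b b.2).symm.imp (fun h => mem_subgroupOf.2 h) (fun h => mem_subgroupOf.2 h)⟩
    have h := relIndex_mul_relIndex (⊥ : Subgroup G) T0 T bot_le hT0T
    rw [relIndex_bot_left, relIndex_bot_left, h2] at h
    omega
  -- a Sylow 2-subgroup above `T`
  obtain ⟨S', hTS⟩ := f₁.syl.2.1.exists_le_sylow
  set SS := (S' : Subgroup G)
  have hcapT : ∀ {L : Subgroup G}, Cfsg.IsSylowTwoIn T L → ∀ s ∈ SS, s ∈ L → s ∈ T := fun {L} hs s hsS hsL =>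
    (sylowIn_eq_of_le hs (le_inf hTS hs.1 : T ≤ SS ⊓ L) inf_le_right
      (S'.isPGroup'.to_le inf_le_left)).le (mem_inf.2 ⟨hsS, hsL⟩)
  have hswap : ∀ r ∈ SS, r ∈ normalizer (T : Set G) → r ∉ T → r * c₁ * r⁻¹ = c₂ ∧ r * c₂ * r⁻¹ = c₁ := by
    intro r hr hrn hrT
    have h1 : r * c₁ * r⁻¹ = c₂ := by
      rcases hzcases _ (conj_mem (normalizer_le_omegaCenterOf T hrn) hc1O) with h | h | h | h
      · refine absurd ?_ hc11
        calc c₁ = r⁻¹ * (r * c₁ * r⁻¹) * r := by group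
          _ = 1 := by rw [h]; group
      · refine absurd (hcapT f₁.syl r hr ?_) hrT
        rw [← hC1]
        exact mem_centralizer_singleton_iff.2 (mul_inv_eq_iff_eq_mul.1 h)
      · refine absurd ?_ hec1.symm
        calc c₁ = r⁻¹ * (r * c₁ * r⁻¹) * r := by group
          _ = r⁻¹ * (r * e * r⁻¹) * r := by rw [h, hfixe r hrn]
          _ = e := by group
      · rw [h, hc2eq]
    refine ⟨h1, ?_⟩
    calc r * c₂ * r⁻¹ = (r * c₁ * r⁻¹) * (r * e * r⁻¹) := by rw [hc2eq]; group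
      _ = c₁ * (e * e) := by rw [h1, hfixe r hrn, hc2eq, mul_assoc]
      _ = c₁ := by rw [he2, mul_one]
  have hcjW : ∀ r ∈ SS, r ∈ normalizer (T : Set G) → r ∉ T →
      (cj r (Pc L₁) = Pc L₂ ∧ cj r W₁ = W₂) ∧ (cj r (Pc L₂) = Pc L₁ ∧ cj r W₂ = W₁) := by
    intro r hr hrn hrT
    obtain ⟨h1, h2⟩ := hswap r hr hrn hrT
    have hL : cj r L₁ = L₂ := by rw [← hC1, ← hC2, cj_centralizer_singleton, h1]
    have hL' : cj r L₂ = L₁ := by rw [← hC1, ← hC2, cj_centralizer_singleton, h2]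
    have hQ : cj r (Pc L₁) = Pc L₂ := by rw [← pCoreOf_cj, hL]
    have hQ' : cj r (Pc L₂) = Pc L₁ := by rw [← pCoreOf_cj, hL']
    refine ⟨⟨hQ, ?_⟩, hQ', ?_⟩
    · rw [f₁.W_eq, f₂.W_eq, ← hQ, ← hL, cj, cj, cj, map_commutator]
    · rw [f₁.W_eq, f₂.W_eq, ← hQ', ← hL', cj, cj, cj, map_commutator]
  -- the elementary subgroups of order 8 lie in `T`
  have hE : ∀ E : Subgroup G, E ≤ SS → E ≤ normalizer (T : Set G) → Cfsg.IsElementaryAbelian 2 E →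
      Nat.card E = 8 → E ≤ T := by
    intro E hES hEn hEe hE8
    by_contra hET
    obtain ⟨r, hr, hrT⟩ := SetLike.not_le_iff_exists.1 hET
    obtain ⟨hr1, hr2⟩ := hswap r (hES hr) (hEn hr) hrT
    have hcle : Nat.card E ≤ 2 * Nat.card ↥(E ⊓ T) := by
      refine card_le_two_mul hr (elem_sq hEe hr) fun b hb hbT => ?_
      obtain ⟨hb1, -⟩ := hswap b (hES hb) (hEn hb) hbT
      refine hcapT f₂.syl _ (SS.mul_mem (hES hb) (hES hr)) ?_
      rw [← hC2]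
      refine mem_centralizer_singleton_iff.2 (mul_inv_eq_iff_eq_mul.1 ?_)
      rw [show b * r * c₂ * (b * r)⁻¹ = b * (r * c₂ * r⁻¹) * b⁻¹ by group, hr2, hb1]
    have hUZ : E ⊓ T ≤ Z0 := by
      intro a ha
      obtain ⟨haE, haT⟩ := mem_inf.1 ha
      have hfixr : r * a * r⁻¹ = a := by rw [elem_comm hEe hr haE, mul_inv_cancel_right]
      obtain ⟨⟨q1, -⟩, q2, -⟩ := hcjW r (hES hr) (hEn hr) hrT
      rcases hinv a haT (elem_sq hEe haE) with h | h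
      · refine hom.ge (mem_inf.2 ⟨h, ?_⟩)
        rw [← hfixr, ← q1]
        exact conj_mem_cj h
      · refine hom.ge (mem_inf.2 ⟨?_, h⟩)
        rw [← hfixr, ← q2]
        exact conj_mem_cj h
    have heq : E ⊓ T = Z0 := eq_of_le_of_card_ge hUZ (by omega)
    have hc : c₁ ∈ E := (mem_inf.1 (heq.ge hc1O)).1
    exact hc1c2 (by rw [← hr1, elem_comm hEe hr hc, mul_inv_cancel_right])
  have hnorm : ∀ k : G, (∀ q ∈ T, k * q * k⁻¹ ∈ SS ∧ k * q * k⁻¹ ∈ normalizer (T : Set G)) →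
      k ∈ normalizer (T : Set G) := by
    intro k hk
    have hcase : ∀ {L : Subgroup G}, Pc L ≤ T → Cfsg.IsElementaryAbelian 2 (Pc L) → Nat.card (Pc L) = 8 →
        ∀ q ∈ Pc L, k * q * k⁻¹ ∈ T := fun {L} hQT hQe hQ8 q hq =>
      hE (cj k (Pc L)) (by rintro _ ⟨p, hp, rfl⟩; exact (hk p (hQT hp)).1)
        (by rintro _ ⟨p, hp, rfl⟩; exact (hk p (hQT hp)).2) (elem_cj hQe k) (by rw [card_cj, hQ8]) (conj_mem_cj hq)
    refine mem_normalizer_of_cj_le ?_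
    rintro _ ⟨t, ht, rfl⟩
    show k * t * k⁻¹ ∈ T
    rcases hdec t ht with h | h
    · exact hcase f₁.QT f₁.elem hQ1 t h
    · have h3 := T.mul_mem (hcase f₁.QT f₁.elem hQ1 _ h)
        (T.inv_mem (hcase f₂.QT f₂.elem hQ2 _ (f₂.WQ hu2)))
      rwa [show k * (t * u₂) * k⁻¹ * (k * u₂ * k⁻¹)⁻¹ = k * t * k⁻¹ by group] at h3
  have hSN : SS ≤ normalizer (T : Set G) := by
    by_contra hnot
    obtain ⟨k, hk, hkn, hkR⟩ := exists_normalizing S'.isPGroup' (inf_le_left : SS ⊓ normalizer (T : Set G) ≤ SS)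
      fun h => hnot (h.ge.trans inf_le_right)
    exact hkR (mem_inf.2 ⟨hk, hnorm k fun q hq => mem_inf.1 (conj_mem hkn (mem_inf.2 ⟨hTS hq, le_normalizer hq⟩))⟩)
  have hes : ∀ s ∈ SS, s * e * s⁻¹ = e := fun s hs => hfixe s (hSN hs)
  -- `e` is not conjugate to `c₁`
  have hnotconj : ∀ g : G, g * e * g⁻¹ ≠ c₁ := by
    intro g hg
    have hle : cj g SS ≤ L₁ := by
      rintro _ ⟨s, hs, rfl⟩
      rw [← hC1]
      refine mem_centralizer_singleton_iff.2 (mul_inv_eq_iff_eq_mul.1 ?_)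
      show g * s * g⁻¹ * c₁ * (g * s * g⁻¹)⁻¹ = c₁
      rw [← hg, show g * s * g⁻¹ * (g * e * g⁻¹) * (g * s * g⁻¹)⁻¹ = g * (s * e * s⁻¹) * g⁻¹ by group, hes s hs]
    obtain ⟨l, hl, hle'⟩ := exists_conj_le f₁.syl hle (S'.isPGroup'.map _)
    have hST : SS = T := by
      refine (eq_of_le_of_card_ge hTS ?_).symm
      have h := Cfsg.Lib.ElemToolkit.card_le_card_of_le hle'
      rwa [card_cj, card_cj] at h
    have hn : l⁻¹ * g ∈ normalizer (T : Set G) := mem_normalizer_of_cj_le (by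
      rw [← cj_cj, ← hST]
      have h := map_mono (f := (MulAut.conj l⁻¹).toMonoidHom) hle'
      change cj l⁻¹ (cj g SS) ≤ cj l⁻¹ (cj l T) at h
      rwa [cj_inv_cj, ← hST] at h)
    refine hec1 ?_
    rw [← hfixe _ hn, show l⁻¹ * g * e * (l⁻¹ * g)⁻¹ = l⁻¹ * (g * e * g⁻¹) * l⁻¹⁻¹ by group, hg]
    exact f₁.fixed _ (L₁.inv_mem hl) c₁ hc1Q hc1x
  -- the conjugates of `c₁` in the Sylow subgroup lie in `T`
  have hinT : ∀ g : G, g * c₁ * g⁻¹ ∈ SS → g * c₁ * g⁻¹ ∈ T := by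
    intro g hgS
    by_contra hyT
    set y := g * c₁ * g⁻¹ with hy
    have hyn := hSN hgS
    obtain ⟨hy1, hy2⟩ := hswap y hgS hyn hyT
    obtain ⟨⟨yq1, yw1⟩, yq2, -⟩ := hcjW y hgS hyn hyT
    have hyy : y * y = 1 := by
      rw [hy, show g * c₁ * g⁻¹ * (g * c₁ * g⁻¹) = g * (c₁ * c₁) * g⁻¹ by group, hc1sq]; group
    have hyi : y⁻¹ = y := inv_eq_of_mul_eq_one_right hyy
    set u' := y * u₁ * y⁻¹ with hu'
    have hu'W : u' ∈ W₂ := by rw [← yw1]; exact conj_mem_cj hu1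
    have hu'T : u' ∈ T := f₂.QT (f₂.WQ hu'W)
    have hyu' : y * u' * y⁻¹ = u₁ := by
      calc y * u' * y⁻¹ = (y * y) * u₁ * (y * y)⁻¹ := by rw [hu']; group
        _ = u₁ := by rw [hyy]; group
    have hu'Q : u' ∉ Pc L₁ := fun h => hu1' (by rw [← hyu', ← yq1]; exact conj_mem_cj h)
    set t := u₁ * u' with ht
    have htT : t ∈ T := T.mul_mem hu1T hu'T
    have hu'i : u'⁻¹ = u' := elem_inv f₂.elem (f₂.WQ hu'W)
    have hu1i : u₁⁻¹ = u₁ := elem_inv f₁.elem (f₁.WQ hu1)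
    have htt : t * t = e := by
      refine (hsqT t htT).resolve_left fun h => hu1' ?_
      have hc : Commute u₁ u' := by
        show u₁ * u' = u' * u₁
        calc u₁ * u' = t⁻¹ := (inv_eq_of_mul_eq_one_right h).symm
          _ = _ := by rw [ht, mul_inv_rev, hu'i, hu1i]
      refine (mem_inf.1 (hom.le (mem_omegaCenterOf.2 ⟨hu1T, fun s hs => ?_, elem_sq f₁.elem (f₁.WQ hu1)⟩))).2
      by_cases hsQ : s ∈ Pc L₁
      · exact elem_comm f₁.elem hsQ (f₁.WQ hu1)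
      · have h1 : Commute (s * u') u₁ := elem_comm f₁.elem (f₁.mul_core hs hu'T hsQ hu'Q) (f₁.WQ hu1)
        have := h1.mul_left hc.symm.inv_left
        rwa [mul_inv_cancel_right] at this
    have hti : t⁻¹ = t * e := inv_eq_of_mul_eq_one_right (by rw [← mul_assoc, htt, he2])
    have hyt : y * t * y⁻¹ = t * e := by
      calc y * t * y⁻¹ = (y * u₁ * y⁻¹) * (y * u' * y⁻¹) := by rw [ht]; group
        _ = u' * u₁ := by rw [← hu', hyu']
        _ = t⁻¹ := by rw [ht, mul_inv_rev, hu'i, hu1i]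
        _ = _ := hti
    set t' := t * c₁ with ht'
    have hyt' : y * t' * y⁻¹ = t' := by
      calc y * t' * y⁻¹ = (y * t * y⁻¹) * (y * c₁ * y⁻¹) := by rw [ht']; group
        _ = t * e * (c₁ * e) := by rw [hyt, hy1, hc2eq]
        _ = t * (e * c₁) * e := by group
        _ = t * (c₁ * e) * e := by rw [elem_comm hZe heZ hc1O]
        _ = t * c₁ * (e * e) := by group
        _ = t' := by rw [he2, mul_one]
    have ht'T : t' ∈ T := T.mul_mem htT hc1T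
    have ht'sq : t' * t' = e := by
      calc t' * t' = t * (c₁ * t) * c₁ := by rw [ht']; group
        _ = t * (t * c₁) * c₁ := by rw [hc1comm t htT]
        _ = (t * t) * (c₁ * c₁) := by group
        _ = e := by rw [htt, hc1sq, mul_one]
    have hmem : g⁻¹ * t' * g ∈ L₁ := by
      rw [← hC1]
      refine mem_centralizer_singleton_iff.2 ?_
      have h := mul_inv_eq_iff_eq_mul.1 hyt'
      calc g⁻¹ * t' * g * c₁ = g⁻¹ * (t' * y) * g := by rw [hy]; group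
        _ = g⁻¹ * (y * t') * g := by rw [h]
        _ = _ := by rw [hy]; group
    have h2g : IsPGroup 2 (zpowers (g⁻¹ * t' * g)) := by
      have : zpowers (g⁻¹ * t' * g) ≤ cj g⁻¹ T := zpowers_le.2 (by
        rw [mem_cj, inv_inv]; simpa [mul_assoc] using ht'T)
      exact (f₁.syl.2.1.map _).to_le this
    obtain ⟨l, hl, hle⟩ := exists_conj_le f₁.syl (zpowers_le.2 hmem) h2g
    have hk1 : l⁻¹ * (g⁻¹ * t' * g) * l ∈ T := mem_cj.1 (hle (mem_zpowers _))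
    set k := l⁻¹ * g⁻¹ with hk
    have hk2 : k * t' * k⁻¹ ∈ T := by
      rw [show k * t' * k⁻¹ = l⁻¹ * (g⁻¹ * t' * g) * l by rw [hk]; group]; exact hk1
    have hky : k * y * k⁻¹ = c₁ := by
      calc k * y * k⁻¹ = l⁻¹ * c₁ * l⁻¹⁻¹ := by rw [hk, hy]; group
        _ = c₁ := f₁.fixed _ (L₁.inv_mem hl) c₁ hc1Q hc1x
    have hke : k * e * k⁻¹ = e := by
      have h1 : k * e * k⁻¹ = k * t' * k⁻¹ * (k * t' * k⁻¹) := by rw [← ht'sq]; group
      rcases hsqT _ hk2 with h | h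
      · refine absurd ?_ he1
        calc e = k⁻¹ * (k * e * k⁻¹) * k := by group
          _ = 1 := by rw [h1, h]; group
      · rw [h1, h]
    have hcen : k ∈ centralizer (Cfsg.omegaCenterOf SS : Set G) := by
      refine mem_centralizer_iff.2 fun z hz => ?_
      obtain ⟨hzS, hzc, hz2⟩ := mem_omegaCenterOf.1 hz
      have hzT : z ∈ T := by
        by_contra hzT
        obtain ⟨hz1, -⟩ := hswap z hzS (hSN hzS) hzT
        exact hc1c2 (by rw [← hz1, ← hzc c₁ (hTS hc1T), mul_inv_cancel_right])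
      have hzO : z ∈ Z0 := mem_omegaCenterOf.2 ⟨hzT, fun s hs => hzc s (hTS hs), hz2⟩
      have hyz : y * z * y⁻¹ = z := by rw [hzc y hgS, mul_inv_cancel_right]
      rcases hzcases z hzO with rfl | rfl | rfl | rfl
      · rw [one_mul, mul_one]
      · exact absurd (hy1.symm.trans hyz).symm hc1c2
      · exact (mul_inv_eq_iff_eq_mul.1 hke).symm
      · rw [← hc2eq, hy2] at hyz
        exact absurd hyz hc1c2
    have hkn : k ∈ normalizer (T : Set G) := hnorm k fun q hq =>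
      have h := conj_mem (hZ S' hcen) (hTS hq)
      ⟨h, hSN h⟩
    refine hyT ?_
    have hyk : k⁻¹ * c₁ * k⁻¹⁻¹ = y := by rw [← hky]; group
    rw [← hyk]
    exact conj_mem (inv_mem hkn) hc1T
  -- transfer
  have hT0n : SS ≤ normalizer (T0 : Set G) := by
    intro s hs
    by_cases hsT : s ∈ T
    · exact mem_normalizer_of_cj (by
        rw [show cj s T0 = cj s W₁ ⊔ cj s W₂ from Subgroup.map_sup _ _ _, cj_eq_self (f₁.Wn (f₁.syl.1 hsT)),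
          cj_eq_self (f₂.Wn (f₂.syl.1 hsT))])
    · obtain ⟨⟨-, h1⟩, -, h2⟩ := hcjW s hs (hSN hs) hsT
      exact mem_normalizer_of_cj (by
        rw [show cj s T0 = cj s W₁ ⊔ cj s W₂ from Subgroup.map_sup _ _ _, h1, h2, sup_comm])
  have heT0 : e ∈ T0 := mem_sup_left heW1
  have hat : ∀ a ∈ SS, ∀ t ∈ T, a * t * a⁻¹ * t⁻¹ ∈ T0 := by
    intro a ha t htT
    by_cases haT : a ∈ T
    · rcases hcomm a haT t htT with h | h <;> rw [h]
      · exact T0.one_mem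
      · exact heT0
    rcases hidx0 t htT with h | h
    · exact T0.mul_mem (conj_mem (hT0n ha) h) (T0.inv_mem h)
    · obtain ⟨h1, -⟩ := hswap a ha (hSN ha) haT
      have h2 : a * c₁ * a⁻¹ * c₁⁻¹ = e := by
        rw [h1, hc2eq, elem_comm hZe hc1O heZ, mul_inv_cancel_right]
      have h3 := T0.mul_mem (T0.mul_mem (conj_mem (hT0n ha) h)
        (conj_mem (hT0n (hTS hc1T)) heT0)) (T0.inv_mem h)
      rwa [← h2, show a * (t * c₁) * a⁻¹ * (c₁ * (a * c₁ * a⁻¹ * c₁⁻¹) * c₁⁻¹) * (t * c₁)⁻¹ =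
        a * t * (c₁ * a⁻¹ * c₁ * a * c₁ * a⁻¹ * c₁⁻¹ * c₁⁻¹ * c₁⁻¹ * t⁻¹) by group,
        show c₁ * a⁻¹ * c₁ * a * c₁ * a⁻¹ * c₁⁻¹ * c₁⁻¹ * c₁⁻¹ * t⁻¹ = a⁻¹ * t⁻¹ from ?_, ← mul_assoc] at h3
      have hac : (a * c₁ * a⁻¹) * c₁ = c₁ * (a * c₁ * a⁻¹) := by
        rw [h1]; exact elem_comm hZe hc2O hc1O
      have hci : c₁⁻¹ = c₁ := inv_eq_of_mul_eq_one_right hc1sq
      calc c₁ * a⁻¹ * c₁ * a * c₁ * a⁻¹ * c₁⁻¹ * c₁⁻¹ * c₁⁻¹ * t⁻¹
          = c₁ * a⁻¹ * (c₁ * (a * c₁ * a⁻¹)) * c₁ * (c₁ * c₁) * t⁻¹ := by rw [hci]; group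
        _ = c₁ * a⁻¹ * ((a * c₁ * a⁻¹) * c₁) * c₁ * t⁻¹ := by rw [hc1sq, mul_one, hac]
        _ = (c₁ * c₁) * a⁻¹ * (c₁ * c₁) * t⁻¹ := by group
        _ = _ := by rw [hc1sq, one_mul, mul_one]
  have hab : ∀ a ∈ SS, ∀ b ∈ SS, a * b * a⁻¹ * b⁻¹ ∈ T0 := by
    intro a ha b hb
    by_cases hbT : b ∈ T
    · exact hat a ha b hbT
    by_cases haT : a ∈ T
    · have := T0.inv_mem (hat b hb a haT)
      rwa [show (b * a * b⁻¹ * a⁻¹)⁻¹ = a * b * a⁻¹ * b⁻¹ by group] at this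
    obtain ⟨-, hb2⟩ := hswap b hb (hSN hb) hbT
    obtain ⟨ha1, ha2⟩ := hswap a ha (hSN ha) haT
    have hba : b * a⁻¹ ∈ T := hcapT f₁.syl _ (SS.mul_mem hb (SS.inv_mem ha)) (by
      rw [← hC1]
      refine mem_centralizer_singleton_iff.2 (mul_inv_eq_iff_eq_mul.1 ?_)
      calc b * a⁻¹ * c₁ * (b * a⁻¹)⁻¹ = b * (a⁻¹ * (a * c₂ * a⁻¹) * a) * b⁻¹ := by rw [ha2]; group
        _ = b * c₂ * b⁻¹ := by group
        _ = c₁ := hb2)
    have := hat a ha _ hba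
    rwa [show a * (b * a⁻¹) * a⁻¹ * (b * a⁻¹)⁻¹ = a * b * a⁻¹ * b⁻¹ by group] at this
  have hc1H : c₁ ∉ H := by
    refine notMem_oddClosure S' T0 (normal_subgroupOf_of_le_normalizer hT0n) hab (hTS hc1T) hc1T0 hc1sq fun g hg => ?_
    have hyT := hinT g hg
    have hnot : g * c₁ * g⁻¹ ∉ T0 := by
      intro h0
      set y := g * c₁ * g⁻¹ with hy
      have hy2 : y * y = 1 := by
        rw [hy, show g * c₁ * g⁻¹ * (g * c₁ * g⁻¹) = g * (c₁ * c₁) * g⁻¹ by group, hc1sq]; group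
      have hy1 : y ≠ 1 := fun h => hc11 (by
        calc c₁ = g⁻¹ * y * g := by rw [hy]; group
          _ = 1 := by rw [h]; group)
      have hQT0' : y ∈ Pc L₂ → y ∈ W₁ ∨ y ∈ W₂ := by
        intro hQ2
        rcases hT0mem y h0 with h | h
        · exact Or.inl h
        · refine Or.inr ?_
          have hyu : y * u₂ ∈ Z0 := hom.ge (mem_inf.2 ⟨f₁.WQ h, (Pc L₂).mul_mem hQ2 (f₂.WQ hu2)⟩)
          rcases hzcases _ hyu with e' | e' | e' | e'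
          · rw [(mul_eq_one_iff_eq_inv.1 e'), elem_inv f₂.elem (f₂.WQ hu2)]; exact hu2
          · exact absurd (e' ▸ h) hc1W
          · rw [show y = e * u₂⁻¹ by rw [← e', mul_inv_cancel_right]]
            exact W₂.mul_mem heW2 (W₂.inv_mem hu2)
          · rw [e'] at h
            refine absurd ?_ hc1W
            have := W₁.mul_mem h heW1
            rwa [mul_assoc, he2, mul_one] at this
      have hW : y ∈ W₁ ∨ y ∈ W₂ := by
        rcases hinv y hyT hy2 with h | h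
        · exact Or.inl (hQT0 (mem_inf.2 ⟨h, h0⟩))
        · exact hQT0' h
      obtain ⟨k, hk⟩ : ∃ k : G, k * e * k⁻¹ = y :=
        hW.elim (fun h => f₁.conj_in_W heW1 he1 h hy1) (fun h => f₂.conj_in_W heW2 he1 h hy1)
      refine hnotconj (g⁻¹ * k) ?_
      calc g⁻¹ * k * e * (g⁻¹ * k)⁻¹ = g⁻¹ * (k * e * k⁻¹) * g := by group
        _ = c₁ := by rw [hk, hy]; group
    have h := (hidx0 _ hyT).resolve_left hnot
    rwa [show c₁⁻¹ = c₁ from inv_eq_of_mul_eq_one_right hc1sq]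
  have hc2H : c₂ ∉ H := fun h => hc1H (by
    have := H.mul_mem h (hT0H heT0)
    rwa [hc2eq, mul_assoc, he2, mul_one] at this)
  have hTH : T ⊓ H = T0 := le_antisymm (fun t ht => by
    obtain ⟨htT, htH⟩ := mem_inf.1 ht
    refine (hidx0 t htT).resolve_right fun h => hc1H ?_
    have := H.mul_mem (H.inv_mem htH) (hT0H h)
    rwa [inv_mul_cancel_left] at this) (le_inf hT0T hT0H)
  have hQT0₂ : Pc L₂ ⊓ T0 ≤ W₂ := fun y hy => by
    obtain ⟨hyQ, hy0⟩ := mem_inf.1 hy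
    obtain ⟨c, hc, r, hr, hxc, rfl⟩ := f₂.split y hyQ
    rcases hc2u c hc hxc with rfl | rfl
    · rw [one_mul]; exact hr
    · refine absurd ?_ hc2H
      have := H.mul_mem (hT0H hy0) (H.inv_mem (f₂.W_oddClosure hr))
      rwa [mul_inv_cancel_right] at this
  exact trace_finish f₁ f₂ hne ⟨f₁.W_oddClosure, f₁.x_oddClosure, hQT0⟩ ⟨f₂.W_oddClosure, f₂.x_oddClosure, hQT0₂⟩
    hTH hT0card (f₁.trace_iso e₁ hc1u hc1H f₁.x_oddClosure hT0H hT0T hT0card)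
    (f₂.trace_iso e₂ hc2u hc2H f₂.x_oddClosure hT0H hT0T hT0card)

end Two

end Cfsg.Lib.JComp

namespace Cfsg.Lib.JComp

open Subgroup

universe v

/-- The straddling family has a member that is maximal in the lexicographic sense. -/
theorem exists_max_of_nonempty {G : Type v} [Group G] [Finite G] {M : Subgroup G}
    (h : (Cfsg.straddlingTwoSubgroups M).Nonempty) : (Cfsg.maxStraddlingTwoSubgroups M).Nonempty := by
  set st := Cfsg.straddlingTwoSubgroups M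
  obtain ⟨T1, hT1s, h1⟩ := Set.exists_max_image st Cfsg.maxElemAbelianOrder (Set.toFinite _) h
  obtain ⟨T2, hT2s, h2⟩ := Set.exists_max_image
    {R | R ∈ st ∧ Cfsg.maxElemAbelianOrder R = Cfsg.maxElemAbelianOrder T1}
    (fun R => Nat.card (Jof R)) (Set.toFinite _) ⟨T1, hT1s, rfl⟩
  obtain ⟨T3, hT3s, h3⟩ := Set.exists_max_image
    {R | (R ∈ st ∧ Cfsg.maxElemAbelianOrder R = Cfsg.maxElemAbelianOrder T1) ∧
      Nat.card (Jof R) = Nat.card (Jof T2)}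
    (fun R => Nat.card R) (Set.toFinite _) ⟨T2, hT2s, rfl⟩
  exact ⟨T3, hT3s.1.1, fun R hR => ⟨hT3s.1.2 ▸ h1 R hR, fun he =>
    ⟨(h2 R ⟨hR, he.trans hT3s.1.2⟩).trans hT3s.2.ge, fun hj => h3 R ⟨⟨hR, he.trans hT3s.1.2⟩, hj.trans hT3s.2⟩⟩⟩⟩

theorem stronglyEmbedded_or_sfour {G : Type v} [Group G] [Finite G] (hL : Cfsg.IsCharacteristicTwoType G)
    (hO : Cfsg.pCore 2 G = ⊥) (hN : ∀ N : Subgroup G, Cfsg.IsTwoLocal N → Group.IsSolvable ↥N)
    (hZ : ∀ S : Sylow 2 G, centralizer (Cfsg.omegaCenterOf (S : Subgroup G) : Set G) ≤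
      normalizer ((S : Subgroup G) : Set G)) :
    (∃ K : Subgroup G, Cfsg.IsStronglyEmbedded K) ∨
      ∃ M₁ M₂ : Subgroup (oddClosure G), M₁ ≠ M₂ ∧ Cfsg.IsMaximalTwoLocal M₁ ∧ Cfsg.IsMaximalTwoLocal M₂ ∧
        Nonempty (M₁ ≃* Equiv.Perm (Fin 4)) ∧ Nonempty (M₂ ≃* Equiv.Perm (Fin 4)) ∧
        Nat.card ↥(M₁ ⊓ M₂) = 8 := by
  haveI : Fact (Nat.Prime 2) := ⟨Nat.prime_two⟩
  obtain ⟨S⟩ := (inferInstance : Nonempty (Sylow 2 G))
  have hS1 : (S : Subgroup G) ≠ ⊥ := fun e => by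
    have h := S.dvd_card_of_dvd_card (even_iff_two_dvd.1 hL.1)
    rw [e, card_bot] at h
    omega
  have hJ2 : Cfsg.IsTwoLocal (normalizer (Jof (S : Subgroup G) : Set G)) :=
    ⟨_, isPGroup_jof S.isPGroup', Cfsg.Lib.Thompson.thompsonSubgroupOf_ne_bot S.isPGroup' hS1, rfl⟩
  obtain ⟨M, hM, hMJ⟩ := exists_maximal_local hJ2
  rcases Set.eq_empty_or_nonempty (Cfsg.straddlingTwoSubgroups M) with he | hne
  · exact Or.inl ⟨M, (Cfsg.Lib.Misc.SweepLocal.straddling_iff hO hM.1).2 he⟩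
  obtain ⟨T, hT⟩ := exists_max_of_nonempty hne
  obtain ⟨L₁, L₂, hne12, ⟨x₁, W₁, f₁⟩, ⟨x₂, W₂, f₂⟩, hiso⟩ := sfour_pair hL hN hZ hO hM.1 hMJ hT
  exact Or.inr (oddClosure_pair hZ f₁ f₂ hne12 hiso)

end Cfsg.Lib.JComp
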