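import Cfsg.Agent.JComp.Max

/-!
The Thompson subgroup normalizes the four-group of a component that is subnormal with it.
-/

set_option autoImplicit false
set_option linter.unusedSectionVars false
set_option linter.style.haveILetI false

namespace Cfsg.Lib.JComp

open Subgroup
open scoped commutatorElement

universe u

variable {G : Type u} [Group G] [Finite G]

theorem odd_mem_of_subnormal {X : Type u} [Group X] {H : Subgroup X} (hsn : H.IsSubnormal) :
    ∀ k : ℕ, H.index = 2 ^ k → ∀ g : X, Odd (orderOf g) → g ∈ H := by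
  induction hsn with
  | top => intro k _ g _; exact mem_top g
  | step H K hle _ hn ih =>
    intro k hk g hg
    have hdvd : H.relIndex K * K.index = 2 ^ k := by rw [relIndex_mul_index hle, hk]
    obtain ⟨i, -, hi⟩ := (Nat.dvd_prime_pow Nat.prime_two).1 (Dvd.intro_left _ hdvd)
    obtain ⟨j, -, hj⟩ := (Nat.dvd_prime_pow Nat.prime_two).1 (Dvd.intro _ hdvd)
    exact mem_of_two_power_index ((normal_subgroupOf_iff_le_normalizer hle).1 hn) ⟨j, hj⟩ (ih i hi g hg) hg

theorem cj_dlR {V : Subgroup G} {x g : G} (hg : g ∈ normalizer (V : Set G)) :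
    cj g (dlR x V) = dlR (g * x * g⁻¹) V := by
  rw [dlR, dlR, cj, MonoidHom.map_closure]
  congr 1
  ext r
  simp only [Set.mem_image, Set.mem_ofPred_eq, MulEquiv.coe_toMonoidHom, MulAut.conj_apply]
  constructor
  · rintro ⟨_, ⟨v, hv, rfl⟩, rfl⟩
    exact ⟨g * v * g⁻¹, conj_mem hg hv, by simp only [dl]; group⟩
  · rintro ⟨v, hv, rfl⟩
    exact ⟨_, ⟨g⁻¹ * v * g⁻¹⁻¹, conj_mem (inv_mem hg) hv, rfl⟩, by simp only [dl]; group⟩

theorem zpowers_elem {u : G} (hu : u * u = 1) :
    Cfsg.IsElementaryAbelian 2 (zpowers u) ∧ Nat.card (zpowers u) ≤ 2 := by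
  refine ⟨elem_of_sq fun v hv => ?_, ?_⟩
  · obtain ⟨n, rfl⟩ := mem_zpowers_iff.1 hv
    rw [← (Commute.refl u).mul_zpow, hu, one_zpow]
  · rw [Nat.card_zpowers]
    exact Nat.le_of_dvd (by omega) (orderOf_dvd_of_pow_eq_one (by rw [pow_two]; exact hu))

/-- The four-subgroups of an elementary abelian 2-group. -/
theorem count_fours {U : Subgroup G} (hU : Cfsg.IsElementaryAbelian 2 U) :
    Nat.card {H : Subgroup G // H ≤ U ∧ Nat.card H = 4} * 6 =
      (Nat.card U - 1) * (Nat.card U - 2) := by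
  classical
  letI := Fintype.ofFinite G
  set Uf : Finset G := (Finset.univ.filter fun g => g ∈ U).erase 1 with hUf
  have hUcard : Uf.card = Nat.card U - 1 := by
    rw [hUf, Finset.card_erase_of_mem (by simp [one_mem])]
    congr 1
    rw [Nat.card_eq_fintype_card, Fintype.card_subtype]
  set SS : Finset (Subgroup G) := (Set.toFinite {H : Subgroup G | H ≤ U ∧ Nat.card H = 4}).toFinset with hSS
  have hSScard : SS.card = Nat.card {H : Subgroup G // H ≤ U ∧ Nat.card H = 4} := by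
    rw [hSS, ← Set.ncard_eq_toFinset_card _ (Set.toFinite _)]
    exact (Nat.card_coe_set_eq _).symm
  have hfour : ∀ u ∈ Uf, ∀ v ∈ Uf, u ≠ v → zpowers u ⊔ zpowers v ∈ SS := by
    intro u hu v hv huv
    simp only [hUf, Finset.mem_erase, Finset.mem_filter, Finset.mem_univ, true_and] at hu hv
    have hle : zpowers u ⊔ zpowers v ≤ U := sup_le (zpowers_le.2 hu.2) (zpowers_le.2 hv.2)
    rw [hSS, Set.Finite.mem_toFinset]
    refine ⟨hle, le_antisymm ?_ ?_⟩
    · refine (Cfsg.Lib.FF.card_sup_le (fun y hy => centralizer_le_normalizer _ (mem_centralizer_iff.2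
        fun z hz => elem_comm hU (zpowers_le.2 hu.2 hz) (zpowers_le.2 hv.2 hy)))).trans ?_
      exact (Nat.mul_le_mul (zpowers_elem (elem_sq hU hu.2)).2 (zpowers_elem (elem_sq hU hv.2)).2).trans le_rfl
    · have h1 : u ∈ zpowers u ⊔ zpowers v := mem_sup_left (mem_zpowers u)
      have h2 : v ∈ zpowers u ⊔ zpowers v := mem_sup_right (mem_zpowers v)
      have huv1 : u * v ≠ 1 := fun e => huv ((mul_eq_one_iff_eq_inv.1 e).trans (elem_inv hU hv.2))
      have hs : ({⟨1, one_mem _⟩, ⟨u, h1⟩, ⟨v, h2⟩, ⟨u * v, mul_mem h1 h2⟩} :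
          Finset ↥(zpowers u ⊔ zpowers v)).card = 4 := by
        simp [Subtype.ext_iff, hu.1, hv.1, Ne.symm hu.1, Ne.symm hv.1, huv, huv1.symm]
      rw [← hs, Nat.card_eq_fintype_card]
      exact Finset.card_le_univ _
  have hsum := Finset.card_eq_sum_card_fiberwise (s := Uf.offDiag) (t := SS)
    (f := fun p => zpowers p.1 ⊔ zpowers p.2) (fun p hp => by
      obtain ⟨h1, h2, h3⟩ := Finset.mem_offDiag.1 hp
      exact hfour _ h1 _ h2 h3)
  have hfib : ∀ H ∈ SS, (Uf.offDiag.filter fun p => zpowers p.1 ⊔ zpowers p.2 = H).card = 6 := by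
    intro H hH
    rw [hSS, Set.Finite.mem_toFinset] at hH
    obtain ⟨hHU, hH4⟩ := hH
    have he : (Uf.offDiag.filter fun p => zpowers p.1 ⊔ zpowers p.2 = H) =
        ((Finset.univ.filter fun g => g ∈ H).erase 1).offDiag := by
      ext ⟨u, v⟩
      simp only [Finset.mem_filter, Finset.mem_offDiag, Finset.mem_erase, Finset.mem_univ, true_and, hUf]
      constructor
      · rintro ⟨⟨⟨hu, -⟩, ⟨hv, -⟩, huv⟩, rfl⟩
        exact ⟨⟨hu, mem_sup_left (mem_zpowers u)⟩, ⟨hv, mem_sup_right (mem_zpowers v)⟩, huv⟩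
      · rintro ⟨⟨hu, huH⟩, ⟨hv, hvH⟩, huv⟩
        refine ⟨⟨⟨hu, hHU huH⟩, ⟨hv, hHU hvH⟩, huv⟩, ?_⟩
        refine eq_of_le_of_card_ge (sup_le (zpowers_le.2 huH) (zpowers_le.2 hvH)) ?_
        have hm := hfour u (by simp [hUf, hu, hHU huH]) v (by simp [hUf, hv, hHU hvH]) huv
        rw [hSS, Set.Finite.mem_toFinset] at hm
        rw [hH4, hm.2]
    rw [he, Finset.offDiag_card, Finset.card_erase_of_mem (by simp [one_mem]),
      ← Fintype.card_subtype, ← Nat.card_eq_fintype_card]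
    rw [hH4]
  rw [Finset.sum_congr rfl hfib, Finset.sum_const, smul_eq_mul, Finset.offDiag_card, hUcard, hSScard] at hsum
  rw [← hsum, ← Nat.mul_sub_one]
  congr 1

/-- Two commutator four-groups of elements generating a 3-group of automorphisms. -/
theorem pair_normalizes {V R : Subgroup G} {x x' : G} (hM : Mover V x) (hM' : Mover V x')
    (hc : Nat.card (dlR x V) = 4) (hc' : Nat.card (dlR x' V) = 4) (hx : x ∈ R) (hx' : x' ∈ R)
    (hR : ∀ r ∈ R, ∃ k : ℕ, ∀ v ∈ V, r ^ 3 ^ k * v = v * r ^ 3 ^ k) :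
    x' ∈ normalizer (dlR x V : Set G) := by
  classical
  haveI : Fact (Nat.Prime 2) := ⟨Nat.prime_two⟩
  haveI : Fact (Nat.Prime 3) := ⟨Nat.prime_three⟩
  set W := dlR x V with hW
  set W' := dlR x' V with hW'
  set U := W ⊔ W' with hU
  have hUV : U ≤ V := sup_le hM.dlR_le hM'.dlR_le
  have hUe : Cfsg.IsElementaryAbelian 2 U := Cfsg.Lib.ElemToolkit.elementary_mono hUV hM.elem
  have hxU : x ∈ normalizer (U : Set G) := mem_normalizer_of_cj_le (by
    rintro _ ⟨u, hu, rfl⟩
    have h1 : x * u * x⁻¹ = dl x u * u := by rw [dl, mul_assoc _ u u, elem_sq hUe hu, mul_one]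
    show x * u * x⁻¹ ∈ U
    rw [h1]
    exact mul_mem (mem_sup_left (hM.mem_dlR.2 ⟨u, hUV hu, rfl⟩)) hu)
  have hx'U : x' ∈ normalizer (U : Set G) := mem_normalizer_of_cj_le (by
    rintro _ ⟨u, hu, rfl⟩
    have h1 : x' * u * x'⁻¹ = dl x' u * u := by rw [dl, mul_assoc _ u u, elem_sq hUe hu, mul_one]
    show x' * u * x'⁻¹ ∈ U
    rw [h1]
    exact mul_mem (mem_sup_right (hM'.mem_dlR.2 ⟨u, hUV hu, rfl⟩)) hu)
  by_cases hWW : W' ≤ W
  · refine mem_normalizer_of_cj_le ?_
    rintro _ ⟨u, hu, rfl⟩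
    show x' * u * x'⁻¹ ∈ W
    have h1 : x' * u * x'⁻¹ = dl x' u * u := by
      rw [dl, mul_assoc _ u u, elem_sq hM.elem (hM.dlR_le hu), mul_one]
    rw [h1]
    exact mul_mem (hWW (hM'.mem_dlR.2 ⟨u, hM.dlR_le hu, rfl⟩)) hu
  -- the action on four-subgroups of `U`
  set P0 := R ⊓ normalizer (U : Set G) with hP0
  let S := {H : Subgroup G // H ≤ U ∧ Nat.card H = 4}
  letI : MulAction P0 S :=
    { smul := fun g H => ⟨cj (g : G) H.1, by
        refine ⟨?_, by rw [card_cj, H.2.2]⟩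
        calc cj (g : G) H.1 ≤ cj (g : G) U := map_mono H.2.1
          _ = U := cj_eq_self (mem_inf.1 g.2).2⟩
      one_smul := fun H => Subtype.ext (cj_one _)
      mul_smul := fun g h H => Subtype.ext (cj_cj _ _ _).symm }
  set φ := MulAction.toPermHom P0 S
  have hφ : IsPGroup 3 φ.range := by
    rintro ⟨_, g, rfl⟩
    obtain ⟨k, hk⟩ := hR g (mem_inf.1 g.2).1
    refine ⟨k, Subtype.ext ?_⟩
    show φ g ^ 3 ^ k = 1
    rw [← map_pow]
    refine Equiv.ext fun H => Subtype.ext ?_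
    show cj ((g ^ 3 ^ k : P0) : G) H.1 = H.1
    refine cj_eq_self (centralizer_le_normalizer _ (mem_centralizer_iff.2 fun u hu => ?_))
    rw [SubmonoidClass.coe_pow]
    exact (hk u (hUV (H.2.1 hu))).symm
  have hmod := hφ.card_modEq_card_fixedPoints S
  -- the fixed four-subgroups
  set Cx := U ⊓ centralizer ({x} : Set G) with hCx
  have hCW : Cx ⊓ W = ⊥ := by
    rw [eq_bot_iff]
    intro u hu
    obtain ⟨h1, h2⟩ := mem_inf.1 hu
    refine mem_bot.2 (hM.fix_eq_one h2 ?_)
    rw [← mem_centralizer_singleton_iff.1 (mem_inf.1 h1).2, mul_inv_cancel_right]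
  have hfix : ∀ H : S, H ∈ MulAction.fixedPoints φ.range S → H.1 ≠ W → H.1 ≤ Cx := by
    intro H hH hne
    refine fun u hu => mem_inf.2 ⟨H.2.1 hu, mem_centralizer_singleton_iff.2 ?_⟩
    have hxH : cj x H.1 = H.1 :=
      congrArg Subtype.val (hH ⟨φ ⟨x, mem_inf.2 ⟨hx, hxU⟩⟩, ⟨x, mem_inf.2 ⟨hx, hxU⟩⟩, rfl⟩)
    have hxn := mem_normalizer_of_cj hxH
    have hd : dl x u ∈ H.1 ⊓ W := mem_inf.2 ⟨mul_mem (conj_mem hxn hu) hu,
      hM.mem_dlR.2 ⟨u, hUV (H.2.1 hu), rfl⟩⟩
    by_cases hd1 : dl x u = 1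
    · rw [dl, mul_eq_one_iff_eq_inv, elem_inv hUe (H.2.1 hu), mul_inv_eq_iff_eq_mul] at hd1
      exact hd1.symm
    · refine absurd ?_ hne
      have hHW := hM.irred hc.le (inf_le_right : H.1 ⊓ W ≤ W)
        (fun y hy => mem_inf.2 ⟨conj_mem hxn (mem_inf.1 hy).1, hM.conj_mem_dlR (mem_inf.1 hy).2⟩) hd hd1
      exact (eq_of_le_of_card_ge (inf_eq_right.1 hHW) (by rw [H.2.2, hc])).symm
  have hU16 : Nat.card U ≤ 16 := by
    refine (Cfsg.Lib.FF.card_sup_le (fun y hy => centralizer_le_normalizer _ (mem_centralizer_iff.2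
      fun z hz => elem_comm hM.elem (hM.dlR_le hz) (hM'.dlR_le hy)))).trans ?_
    rw [hc, hc']
  have hU5 : 4 < Nat.card U := by
    by_contra hle
    push Not at hle
    exact hWW ((le_sup_right : W' ≤ U).trans (eq_of_le_of_card_ge le_sup_left (by rw [hc]; exact hle)).ge)
  obtain ⟨n, hn⟩ := IsPGroup.iff_card.1 (elem_isPGroup hUe)
  by_contra hnot
  have hWS : W ≤ U ∧ Nat.card W = 4 := ⟨le_sup_left, hc⟩
  have hWnf : ∀ H ∈ MulAction.fixedPoints φ.range S, H.1 ≠ W := fun H hH e => hnot (by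
    have := congrArg Subtype.val (hH ⟨φ ⟨x', mem_inf.2 ⟨hx', hx'U⟩⟩, ⟨x', mem_inf.2 ⟨hx', hx'U⟩⟩, rfl⟩)
    rw [← e]
    exact mem_normalizer_of_cj this)
  have hCxb : ∀ H : Subgroup G, H ≤ Cx → Nat.card H * 4 ≤ Nat.card U := by
    intro H hH
    have h1 := Cfsg.Lib.ElemToolkit.mul_card_le H W
    rw [hc, show H ⊓ W = ⊥ from eq_bot_iff.2 (hCW ▸ inf_le_inf_right _ hH), card_bot, mul_one] at h1
    exact h1.trans (Cfsg.Lib.ElemToolkit.card_le_card_of_le (sup_le (hH.trans inf_le_left) le_sup_left))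
  have hle1 : Nat.card (MulAction.fixedPoints φ.range S) ≤ 1 := by
    rw [Finite.card_le_one_iff_subsingleton]
    refine ⟨fun H H' => Subtype.ext (Subtype.ext ?_)⟩
    have h1 := (hfix _ H.2 (hWnf _ H.2))
    have h2 := (hfix _ H'.2 (hWnf _ H'.2))
    have hC4 : Nat.card Cx ≤ 4 := by have := hCxb Cx le_rfl; omega
    rw [eq_of_le_of_card_ge h1 (by rw [H.1.2.2]; exact hC4), eq_of_le_of_card_ge h2 (by rw [H'.1.2.2]; exact hC4)]
  have hcount := count_fours hUe
  have hn5 : n = 3 ∨ n = 4 := by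
    rw [hn] at hU16 hU5
    have h1 : 2 < n := (Nat.pow_lt_pow_iff_right (by norm_num : 1 < 2)).1 (by norm_num; exact hU5)
    have h2 : n ≤ 4 := (Nat.pow_le_pow_iff_right (by norm_num : 1 < 2)).1 (by norm_num; exact hU16)
    omega
  rcases hn5 with rfl | rfl
  · rw [hn] at hcount hCxb
    have h7 : Nat.card S = 7 := by
      change Nat.card {H : Subgroup G // H ≤ U ∧ Nat.card H = 4} = 7
      omega
    have h0 : Nat.card (MulAction.fixedPoints φ.range S) = 0 := by
      rw [Nat.card_eq_zero]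
      refine Or.inl ⟨fun H => ?_⟩
      have := hCxb _ (hfix _ H.2 (hWnf _ H.2))
      rw [H.1.2.2] at this
      norm_num at this
    rw [h7, h0] at hmod
    exact absurd hmod (by decide)
  · rw [hn] at hcount
    have h35 : Nat.card S = 35 := by
      change Nat.card {H : Subgroup G // H ≤ U ∧ Nat.card H = 4} = 35
      omega
    rw [h35] at hmod
    rcases Nat.le_one_iff_eq_zero_or_eq_one.1 hle1 with h0 | h0 <;> rw [h0] at hmod <;>
      exact absurd hmod (by decide)

theorem jof_normalizes_wOf {T T' L K : Subgroup G} (hset : Setting T L) (hK : Cfsg.IsJComponent T' K)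
    (hKL : K ≤ L) (hKsn : (K.subgroupOf (K ⊔ Jof T)).IsSubnormal) :
    Jof T ≤ normalizer (Cfsg.wOf K : Set G) := by
  classical
  haveI : Fact (Nat.Prime 2) := ⟨Nat.prime_two⟩
  haveI : Fact (Nat.Prime 3) := ⟨Nat.prime_three⟩
  have htri := tri_of_comp hK
  set Y := K ⊔ Jof T with hY
  have hYL : Y ≤ L := sup_le hKL hset.J_le_L
  have hKY : K ≤ Y := le_sup_left
  set Q := Cfsg.pCoreOf 2 Y with hQ
  have hYQ : Y ≤ normalizer (Q : Set G) := le_normalizer_pCoreOf Y
  have hQ2 : IsPGroup 2 Q := isPGroup_pCoreOf Y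
  set O := Cfsg.pCoreOf 2 K with hO
  set W := Cfsg.wOf K with hW
  have hW4 : Nat.card W = 4 := hK.2.2.2.2.1
  have hWe : Cfsg.IsElementaryAbelian 2 W := elem_of_sq hK.2.2.2.2.2
  -- `Q` normalizes `K`
  have hQK : Q ≤ normalizer (K : Set G) := by
    set X := K ⊔ Q
    have hXY : X ≤ Y := sup_le hKY (pCoreOf_le Y)
    have hsnX : (K.subgroupOf X).IsSubnormal := by
      have h1 := hKsn.comap (inclusion hXY)
      rwa [show (K.subgroupOf Y).comap (inclusion hXY) = K.subgroupOf X from rfl] at h1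
    haveI : (Q.subgroupOf X).Normal := normal_subgroupOf_of_le_normalizer (hXY.trans hYQ)
    have h2 := Subgroup.relIndex_sup_right (H := K.subgroupOf X) (K := Q.subgroupOf X)
    rw [← subgroupOf_sup le_sup_left le_sup_right, subgroupOf_self, relIndex_top_right,
      relIndex_subgroupOf le_sup_left] at h2
    have h3 : Nat.card Q * Q.relIndex K = Nat.card X := by
      rw [← h2]
      show Nat.card Q * Q.relIndex X = Nat.card X
      rw [← relIndex_bot_left, relIndex_mul_relIndex _ _ _ bot_le le_sup_right, relIndex_bot_left]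
    have h4 : Nat.card ↥(Q ⊓ K) * Q.relIndex K = Nat.card K := by
      rw [← inf_relIndex_right, ← relIndex_bot_left, relIndex_mul_relIndex _ _ _ bot_le inf_le_right,
        relIndex_bot_left]
    have h5 : Nat.card K * K.relIndex X = Nat.card X := by
      rw [← relIndex_bot_left, relIndex_mul_relIndex _ _ _ bot_le le_sup_left, relIndex_bot_left]
    obtain ⟨m, hm⟩ := IsPGroup.iff_card.1 hQ2
    have h6 : Nat.card ↥(Q ⊓ K) * K.relIndex X = 2 ^ m := by
      have hpos : 0 < Q.relIndex K := Nat.pos_of_ne_zero fun e => by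
        rw [e, mul_zero] at h4
        exact Nat.card_pos.ne' h4.symm
      refine Nat.eq_of_mul_eq_mul_right hpos ?_
      rw [← hm, h3, ← h5, ← h4]
      ring
    obtain ⟨j, -, hj⟩ := (Nat.dvd_prime_pow Nat.prime_two).1 (Dvd.intro_left _ h6)
    refine le_normalizer_of_conj fun q hq k hk => ?_
    have hle : K ≤ K.comap (MulAut.conj q).toMonoidHom := by
      conv_lhs => rw [← htri.gen]
      refine (closure_le _).2 fun y hy => ?_
      show q * y * q⁻¹ ∈ K
      have hm' : q * y * q⁻¹ ∈ X :=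
        mul_mem (mul_mem (mem_sup_right hq) (mem_sup_left hy.1)) (inv_mem (mem_sup_right hq))
      refine mem_subgroupOf.1 (odd_mem_of_subnormal hsnX j hj ⟨_, hm'⟩ ?_)
      rw [orderOf_mk, ← MulAut.conj_apply, MulEquiv.orderOf_eq]
      exact hy.2
    exact hle hk
  have hOQ : O ≤ Q := by
    refine le_pCoreOf_of_subnormal (isPGroup_pCoreOf K) ((pCoreOf_le K).trans hKY) ?_
    refine Subgroup.IsSubnormal.step _ (K.subgroupOf Y) (comap_mono (pCoreOf_le K)) hKsn
      (normal_subgroupOf_of_le_normalizer (le_normalizer_of_conj fun g hg y hy => ?_))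
    exact mem_subgroupOf.2 (conj_mem (le_normalizer_pCoreOf K (mem_subgroupOf.1 hg)) (mem_subgroupOf.1 hy))
  have hKQO : K ⊓ Q ≤ O := le_pCoreOf (hQ2.to_le inf_le_right) inf_le_left
    (Cfsg.Lib.Coprime.le_normalizer_inf le_normalizer (hKY.trans hYQ))
  have hQc : Q ≤ kCen K := fun q hq => ⟨hQK hq, fun k hk => hKQO (mem_inf.2 ⟨by
    rw [commutatorElement_def, mul_assoc, mul_assoc]
    exact mul_mem hk (by simpa [mul_assoc] using conj_mem (hQK hq) (inv_mem hk)), by
    rw [commutatorElement_def]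
    exact mul_mem (conj_mem (hYQ (hKY hk)) hq) (inv_mem hq)⟩)⟩
  obtain ⟨x, hxK, hx3⟩ := htri.exists_order3
  have hMZ := htri.mover hxK hx3
  have hWeq : W = _ := htri.wOf_eq hxK hx3
  have hWO : W ≤ O := htri.wOf_le_core.trans (omegaCenterOf_le _)
  have hW1 : W ≠ ⊥ := fun e => by rw [e, card_bot] at hW4; omega
  have hQW : Q ≤ centralizer (W : Set G) := by
    obtain ⟨z, hzW, hz1, hzQ⟩ := exists_fixed (elem_isPGroup hWe) hQ2
      (hQK.trans (normalizer_le_wOf K)) hW1
    have hUW : W ⊓ centralizer (Q : Set G) = W := by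
      refine (hMZ.irred (hWeq ▸ hW4.le) (inf_le_left.trans hWeq.le) (fun u hu => ?_)
        (mem_inf.2 ⟨hzW, mem_centralizer_iff.2 hzQ⟩) hz1).trans hWeq.symm
      obtain ⟨h1, h2⟩ := mem_inf.1 hu
      refine mem_inf.2 ⟨hWeq ▸ hMZ.conj_mem_dlR (hWeq ▸ h1), mem_centralizer_iff.2 fun q hq => ?_⟩
      have h3 := htri.kCen_comm hxK (hQc hq) (htri.wOf_le_core h1)
      rw [mem_centralizer_iff.1 h2 q hq, mul_inv_cancel_right] at h3
      exact mul_inv_eq_iff_eq_mul.1 h3
    rw [le_centralizer_iff]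
    exact hUW.ge.trans inf_le_right
  set V := Cfsg.omegaCenterOf Q with hV
  have hYV : Y ≤ normalizer (V : Set G) := hYQ.trans (normalizer_le_omegaCenterOf Q)
  have hWV : W ≤ V := fun w hw => mem_omegaCenterOf.2 ⟨hOQ (hWO hw),
    fun q hq => (mem_centralizer_iff.1 (hQW hq) w hw).symm, elem_sq hWe hw⟩
  have hVe := elem_omegaCenterOf Q
  have hx30 : x ^ 3 = 1 := hx3 ▸ pow_orderOf_eq_one x
  have hMV : Mover V x := ⟨hVe, hYV (hKY hxK), hx30⟩
  have hdW : dlR x V = W := by
    refine le_antisymm (fun r hr => ?_) fun w hw => ?_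
    · obtain ⟨v, hv, rfl⟩ := hMV.mem_dlR.1 hr
      obtain ⟨hvQ, hvc, hv2⟩ := mem_omegaCenterOf.1 (hMV.dl_mem hv)
      have hdK : dl x v ∈ K := by
        rw [dl, show x * v * x⁻¹ * v = x * (v * x⁻¹ * v⁻¹) * (v * v) by group, elem_sq hVe hv, mul_one]
        exact mul_mem hxK (conj_mem (hQK (omegaCenterOf_le _ hv)) (inv_mem hxK))
      have hdZ : dl x v ∈ Cfsg.omegaCenterOf O :=
        mem_omegaCenterOf.2 ⟨hKQO (mem_inf.2 ⟨hdK, hvQ⟩), fun o ho => hvc o (hOQ ho), hv2⟩
      rw [hWeq]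
      exact hMZ.mem_dlR.2 ⟨_, conj_mem hMZ.norm hdZ, hMV.dl_conj_self hr⟩
    · exact hMV.mem_dlR.2 ⟨_, conj_mem hMV.norm (hWV hw), hMZ.dl_conj_self (hWeq ▸ hw)⟩
  -- a group of 3-power automorphisms containing the conjugates of `x`
  obtain ⟨R, hRY, hxR, hR⟩ : ∃ R : Subgroup G, Y ≤ normalizer (R : Set G) ∧ x ∈ R ∧
      ∀ r ∈ R, ∃ k : ℕ, r ^ 3 ^ k ∈ Q := by
    haveI : (Q.subgroupOf Y).Normal := normal_subgroupOf_of_le_normalizer hYQ
    set π := QuotientGroup.mk' (Q.subgroupOf Y)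
    haveI := Cfsg.Lib.Components.pCore_normal' (G := Y ⧸ Q.subgroupOf Y) 3
    set R' := (Cfsg.pCore 3 (Y ⧸ Q.subgroupOf Y)).comap π with hR'
    haveI : R'.Normal := Normal.comap inferInstance _
    refine ⟨R'.map Y.subtype, le_normalizer_of_conj fun g hg y hy => ?_, ?_, ?_⟩
    · obtain ⟨n, hn, rfl⟩ := hy
      exact ⟨_, Normal.conj_mem inferInstance n hn ⟨g, hg⟩, rfl⟩
    · have hsn := hKsn.map (f := π) (QuotientGroup.mk'_surjective _)
      have h3 : IsPGroup 3 ((K.subgroupOf Y).map π) := by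
        intro q
        obtain ⟨_, k, hk, rfl⟩ := q
        haveI : (O.subgroupOf K).Normal := normal_subgroupOf_of_le_normalizer (le_normalizer_pCoreOf K)
        have := Subgroup.pow_index_mem (O.subgroupOf K) ⟨(k : G), mem_subgroupOf.1 hk⟩
        rw [mem_subgroupOf, show (O.subgroupOf K).index = 3 from htri.idx] at this
        refine ⟨1, Subtype.ext ?_⟩
        show π k ^ 3 ^ 1 = 1
        rw [pow_one, ← map_pow, QuotientGroup.mk'_apply, QuotientGroup.eq_one_iff, mem_subgroupOf]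
        exact hOQ (by simpa using this)
      exact ⟨⟨x, hKY hxK⟩, Cfsg.Lib.Components.le_pCore_of_subnormal hsn h3
        ⟨_, mem_subgroupOf.2 hxK, rfl⟩, rfl⟩
    · rintro _ ⟨n, hn, rfl⟩
      obtain ⟨k, hk⟩ := Cfsg.Lib.Components.isPGroup_pCore (G := Y ⧸ Q.subgroupOf Y) 3 ⟨π n, hn⟩
      refine ⟨k, ?_⟩
      have hk' : π (n ^ 3 ^ k) = 1 := by rw [map_pow]; exact congrArg Subtype.val hk
      rw [QuotientGroup.mk'_apply, QuotientGroup.eq_one_iff, mem_subgroupOf] at hk'
      simpa using hk'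
  have hR3 : ∀ r ∈ R, ∃ k : ℕ, ∀ v ∈ V, r ^ 3 ^ k * v = v * r ^ 3 ^ k := fun r hr => by
    obtain ⟨k, hk⟩ := hR r hr
    exact ⟨k, fun v hv => (mem_omegaCenterOf.1 hv).2.1 _ hk⟩
  refine jof_le_iff.2 fun A hA => ?_
  have hAY : A ≤ Y := (maxE_le_jof hA).trans le_sup_right
  -- the conjugates
  have hcjW : ∀ a ∈ Y, cj a W = dlR (a * x * a⁻¹) V := fun a ha => by rw [← hdW, cj_dlR (hYV ha)]
  have hmov : ∀ a ∈ Y, Mover V (a * x * a⁻¹) := fun a ha =>
    ⟨hVe, hYV (mul_mem (mul_mem ha (hKY hxK)) (inv_mem ha)), by rw [conj_pow, hx30]; group⟩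
  have hcard : ∀ a ∈ Y, Nat.card (dlR (a * x * a⁻¹) V) = 4 := fun a ha => by rw [← hcjW a ha, card_cj, hW4]
  have hcjV : ∀ a ∈ Y, cj a W ≤ V := fun a ha => by rw [hcjW a ha]; exact (hmov a ha).dlR_le
  have hsep : ∀ a ∈ Y, ∀ b ∈ Y, cj a W ≠ cj b W → ∀ w ∈ cj b W,
      a * x * a⁻¹ * w * (a * x * a⁻¹)⁻¹ = w := by
    intro a ha b hb hne w hw
    set y := a * x * a⁻¹ with hy
    have hn := pair_normalizes (hmov b hb) (hmov a ha) (hcard b hb) (hcard a ha)
      (conj_mem (hRY hb) hxR) (conj_mem (hRY ha) hxR) hR3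
    rw [hcjW b hb] at hw
    have hM := hmov a ha
    by_cases hd : dl y w = 1
    · rwa [dl, mul_eq_one_iff_eq_inv, elem_inv hVe ((hmov b hb).dlR_le hw)] at hd
    · refine absurd ?_ hne
      have hm : dl y w ∈ dlR y V ⊓ dlR (b * x * b⁻¹) V :=
        mem_inf.2 ⟨hM.mem_dlR.2 ⟨w, (hmov b hb).dlR_le hw, rfl⟩, mul_mem (conj_mem hn hw) hw⟩
      have he := hM.irred (hcard a ha).le inf_le_left
        (fun u hu => mem_inf.2 ⟨hM.conj_mem_dlR (mem_inf.1 hu).1, conj_mem hn (mem_inf.1 hu).2⟩) hm hd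
      rw [hcjW a ha, hcjW b hb]
      exact eq_of_le_of_card_ge (inf_eq_left.1 he) (by rw [hcard a ha, hcard b hb])
  set OW : Finset (Subgroup G) := (Set.toFinite ((fun a => cj a W) '' (A : Set G))).toFinset with hOWdef
  have hOW : ∀ {D : Subgroup G}, D ∈ OW ↔ ∃ a ∈ A, cj a W = D := by
    intro D; rw [hOWdef, Set.Finite.mem_toFinset]; rfl
  -- sums of members
  have hsum : ∀ s : Finset (Subgroup G), s ⊆ OW →
      s.sup id ≤ V ∧ Nat.card ↥(s.sup id) = 4 ^ s.card ∧
      (∀ a ∈ A, cj a W ∉ s → ∀ v ∈ s.sup id, a * x * a⁻¹ * v * (a * x * a⁻¹)⁻¹ = v) ∧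
      ∀ v ∈ s.sup id, (∀ a ∈ A, a * x * a⁻¹ * v * (a * x * a⁻¹)⁻¹ = v) → v = 1 := by
    intro s
    induction s using Finset.induction_on with
    | empty =>
      intro _
      refine ⟨by simp, by simp, fun a _ _ v hv => ?_, fun v hv _ => by simpa using hv⟩
      rw [Finset.sup_empty, mem_bot] at hv
      rw [hv]; group
    | @insert D s hD ih =>
      intro hss
      obtain ⟨hsV, hscard, hsfix, hsone⟩ := ih fun E hE => hss (Finset.mem_insert_of_mem hE)
      obtain ⟨a, haA, rfl⟩ := hOW.1 (hss (Finset.mem_insert_self _ _))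
      rw [Finset.sup_insert, id]
      set S0 := s.sup id
      have haY := hAY haA
      have hM := hmov a haY
      have hinf : cj a W ⊓ S0 = ⊥ := by
        rw [eq_bot_iff]
        intro v hv
        obtain ⟨h1, h2⟩ := mem_inf.1 hv
        rw [hcjW a haY] at h1
        exact mem_bot.2 (hM.fix_eq_one h1 (hsfix a haA hD v h2))
      have hnorm : S0 ≤ normalizer (cj a W : Set G) := fun y hy => centralizer_le_normalizer _
        (mem_centralizer_iff.2 fun z hz => elem_comm hVe (hcjV a haY hz) (hsV hy))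
      have hdec : ∀ v ∈ cj a W ⊔ S0, ∃ w ∈ cj a W, ∃ r ∈ S0, w * r = v := fun v hv =>
        (Cfsg.Lib.Coprime.mem_sup_of_le_normalizer hnorm).1 hv
      refine ⟨sup_le (hcjV a haY) hsV, le_antisymm ?_ ?_, fun b hb hbn v hv => ?_, fun v hv hvall => ?_⟩
      · refine (Cfsg.Lib.FF.card_sup_le hnorm).trans ?_
        rw [card_cj, hW4, hscard, Finset.card_insert_of_notMem hD, pow_succ']
      · have h1 := Cfsg.Lib.ElemToolkit.mul_card_le (cj a W) S0
        rwa [hinf, card_bot, mul_one, card_cj, hW4, hscard, ← pow_succ', ← Finset.card_insert_of_notMem hD] at h1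
      · obtain ⟨w, hw, r, hr, rfl⟩ := hdec v hv
        rw [show b * x * b⁻¹ * (w * r) * (b * x * b⁻¹)⁻¹ = (b * x * b⁻¹ * w * (b * x * b⁻¹)⁻¹) *
          (b * x * b⁻¹ * r * (b * x * b⁻¹)⁻¹) by group,
          hsep b (hAY hb) a haY (fun e => hbn (e ▸ Finset.mem_insert_self _ _)) w hw,
          hsfix b hb (fun e => hbn (Finset.mem_insert_of_mem e)) r hr]
      · obtain ⟨w, hw, r, hr, rfl⟩ := hdec v hv
        have hw1 : w = 1 := by
          rw [hcjW a haY] at hw
          refine hM.fix_eq_one hw ?_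
          have h1 := hvall a haA
          rw [show a * x * a⁻¹ * (w * r) * (a * x * a⁻¹)⁻¹ = (a * x * a⁻¹ * w * (a * x * a⁻¹)⁻¹) *
            (a * x * a⁻¹ * r * (a * x * a⁻¹)⁻¹) by group, hsfix a haA hD r hr] at h1
          exact mul_right_cancel h1
        subst hw1
        rw [one_mul] at hvall ⊢
        exact hsone r hr hvall
  obtain ⟨hSV, hScard, -, hSone⟩ := hsum OW subset_rfl
  set Sig := OW.sup id with hSig
  have hWmem : W ∈ OW := hOW.2 ⟨1, one_mem _, cj_one W⟩
  set R1 := (OW.erase W).sup id with hR1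
  obtain ⟨hR1V, -, hR1fix, -⟩ := hsum (OW.erase W) (Finset.erase_subset _ _)
  have hxR1 : ∀ v ∈ R1, x * v * x⁻¹ = v := fun v hv => by
    have := hR1fix 1 (one_mem _) (by rw [cj_one]; exact Finset.notMem_erase _ _) v hv
    simpa using this
  have hSsplit : Sig = W ⊔ R1 := by
    rw [hSig, hR1, ← Finset.insert_erase hWmem, Finset.sup_insert, id, Finset.erase_insert (Finset.notMem_erase _ _)]
  have hR1n : R1 ≤ normalizer (W : Set G) := fun y hy => centralizer_le_normalizer _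
    (mem_centralizer_iff.2 fun z hz => elem_comm hVe (hWV hz) (hR1V hy))
  set B := A ⊓ normalizer (W : Set G) with hB
  have hAe := hA.2.1
  have hbfix : ∀ b ∈ B, ∀ a ∈ A, cj b (cj a W) = cj a W := fun b hb a ha => by
    rw [cj_cj, elem_comm hAe (mem_inf.1 hb).1 ha, ← cj_cj, cj_eq_self (mem_inf.1 hb).2]
  have hR1B : B ≤ normalizer (R1 : Set G) := fun b hb => mem_normalizer_of_cj_le (by
    have : R1 ≤ R1.comap (MulAut.conj b).toMonoidHom := by
      rw [hR1]
      refine Finset.sup_le fun D hD y hy => ?_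
      obtain ⟨a, ha, rfl⟩ := hOW.1 (Finset.mem_of_mem_erase hD)
      show b * y * b⁻¹ ∈ (OW.erase W).sup id
      have hy' : b * y * b⁻¹ ∈ cj a W := hbfix b hb a ha ▸ conj_mem_cj hy
      exact (Finset.le_sup (f := id) hD) hy'
    rintro _ ⟨y, hy, rfl⟩
    exact this hy)
  -- fixed points
  set F := Sig ⊓ centralizer (A : Set G) with hF
  set CW := W ⊓ centralizer (B : Set G) with hCW
  have hFle : Nat.card F ≤ Nat.card CW := by
    have hdec : ∀ v : F, ∃ w ∈ CW, w⁻¹ * (v : G) ∈ R1 := by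
      rintro ⟨v, hv⟩
      obtain ⟨hvS, hvA⟩ := mem_inf.1 hv
      rw [hSsplit] at hvS
      obtain ⟨w, hw, r, hr, hwr⟩ := (Cfsg.Lib.Coprime.mem_sup_of_le_normalizer hR1n).1 hvS
      refine ⟨w, mem_inf.2 ⟨hw, mem_centralizer_iff.2 fun b hb => ?_⟩,
        show w⁻¹ * v ∈ R1 by rw [← hwr, inv_mul_cancel_left]; exact hr⟩
      have h1 : b * v * b⁻¹ = v := by rw [mem_centralizer_iff.1 hvA b (mem_inf.1 hb).1, mul_inv_cancel_right]
      have hw' : b * w * b⁻¹ ∈ W := conj_mem (mem_inf.1 hb).2 hw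
      have hr' : b * r * b⁻¹ ∈ R1 := conj_mem (hR1B hb) hr
      have hd : w⁻¹ * (b * w * b⁻¹) = r * (b * r * b⁻¹)⁻¹ := by
        rw [← hwr] at h1
        calc w⁻¹ * (b * w * b⁻¹) = w⁻¹ * (b * (w * r) * b⁻¹) * (b * r * b⁻¹)⁻¹ := by group
          _ = _ := by rw [h1]; group
      have hd1 : w⁻¹ * (b * w * b⁻¹) = 1 := by
        refine hMZ.fix_eq_one (hWeq ▸ mul_mem (inv_mem hw) hw') ?_
        rw [hd]
        exact hxR1 _ (mul_mem hr (inv_mem hr'))
      rw [inv_mul_eq_one, eq_mul_inv_iff_mul_eq] at hd1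
      exact hd1.symm
    choose f hfC hfR using hdec
    refine Nat.card_le_card_of_injective (fun v => (⟨f v, hfC v⟩ : CW)) fun v v' he => ?_
    have he' : f v = f v' := congrArg Subtype.val he
    set d := (v : G)⁻¹ * v' with hd
    have hdF : d ∈ F := mul_mem (inv_mem v.2) v'.2
    have hdR : d ∈ R1 := by
      have := mul_mem (inv_mem (hfR v)) (hfR v')
      rwa [he', show ((f v')⁻¹ * (v : G))⁻¹ * ((f v')⁻¹ * (v' : G)) = d by rw [hd]; group] at this
    have hd1 : d = 1 := hSone d (mem_inf.1 hdF).1 fun a ha => by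
      have hc : a * d = d * a := mem_centralizer_iff.1 (mem_inf.1 hdF).2 a ha
      calc a * x * a⁻¹ * d * (a * x * a⁻¹)⁻¹ = a * (x * (a⁻¹ * d * a) * x⁻¹) * a⁻¹ := by group
        _ = a * d * a⁻¹ := by
          rw [show a⁻¹ * d * a = d by rw [mul_assoc, ← hc, inv_mul_cancel_left], hxR1 d hdR]
        _ = d := by rw [hc, mul_inv_cancel_right]
    exact Subtype.ext (inv_mul_eq_one.1 hd1)
  -- order bounds
  set B0 := A ⊓ centralizer (W : Set G) with hB0
  have hB0B : B0 ≤ B := le_inf inf_le_left (inf_le_right.trans (centralizer_le_normalizer _))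
  have hB0S : Sig ≤ centralizer (B0 : Set G) := by
    refine Finset.sup_le fun D hD => ?_
    obtain ⟨a, ha, rfl⟩ := hOW.1 hD
    intro y hy
    obtain ⟨w, hw, rfl⟩ := hy
    refine mem_centralizer_iff.2 fun b hb => ?_
    have hab := elem_comm hAe (mem_inf.1 hb).1 ha
    have hbw := mem_centralizer_iff.1 (mem_inf.1 hb).2 w hw
    show b * (a * w * a⁻¹) = a * w * a⁻¹ * b
    calc b * (a * w * a⁻¹) = (b * a) * w * a⁻¹ := by group
      _ = a * (b * w) * a⁻¹ := by rw [hab]; group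
      _ = a * w * (b * a⁻¹) := by rw [← hbw]; group
      _ = a * w * (a⁻¹ * b) := by rw [elem_comm hAe (mem_inf.1 hb).1 (inv_mem ha)]
      _ = _ := by group
  have hel : Cfsg.IsElementaryAbelian 2 (B0 ⊔ Sig) :=
    Cfsg.Lib.ElemToolkit.elementary_sup (Cfsg.Lib.ElemToolkit.elementary_mono inf_le_left hAe)
      (Cfsg.Lib.ElemToolkit.elementary_mono hSV hVe) fun b hb v hv => mem_centralizer_iff.1 (hB0S hv) b hb
  have hle1 : Nat.card B0 * 4 ^ OW.card ≤ Nat.card A * Nat.card CW := by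
    rw [← hScard]
    refine (Cfsg.Lib.ElemToolkit.mul_card_le B0 Sig).trans (Nat.mul_le_mul ?_ ?_)
    · exact hset.two_comp hA (sup_le ((inf_le_left.trans hAY).trans hYL)
        ((hSV.trans ((omegaCenterOf_le Q).trans (pCoreOf_le Y))).trans hYL)) hel
    · refine le_trans (Cfsg.Lib.ElemToolkit.card_le_card_of_le fun y hy => ?_) hFle
      exact mem_inf.2 ⟨(mem_inf.1 hy).2, mem_centralizer_iff.2 fun a ha =>
        elem_comm hAe ha (mem_inf.1 (mem_inf.1 hy).1).1⟩
  have hle2 : Nat.card A ≤ OW.card * Nat.card B := by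
    have hmap : ∀ a : A, cj (a : G) W ∈ OW := fun a => hOW.2 ⟨a, a.2, rfl⟩
    choose c hc hcW using fun D : {D // D ∈ OW} => hOW.1 D.2
    have hinj : Function.Injective fun a : A =>
        ((⟨cj (a : G) W, hmap a⟩ : {D // D ∈ OW}),
          (⟨(c ⟨cj (a : G) W, hmap a⟩)⁻¹ * a, mem_inf.2 ⟨mul_mem (inv_mem (hc _)) a.2,
            mem_normalizer_of_cj ((cj_cj _ _ _).symm.trans
              ((congrArg (cj (c ⟨cj (a : G) W, hmap a⟩)⁻¹) (hcW ⟨cj (a : G) W, hmap a⟩).symm).trans (cj_inv_cj _ _)))⟩⟩ : B)) := by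
      intro a a' he
      obtain ⟨h1, h2⟩ := Prod.ext_iff.1 he
      have h3 := congrArg Subtype.val h2
      simp only at h1 h3
      rw [h1] at h3
      exact Subtype.ext (mul_left_cancel h3)
    have := Nat.card_le_card_of_injective _ hinj
    rwa [Nat.card_prod, show Nat.card {D // D ∈ OW} = OW.card by simp] at this
  have hle3 : Nat.card B * Nat.card CW ≤ 4 * Nat.card B0 := by
    by_cases hall : B ≤ centralizer (W : Set G)
    · have h1 : B = B0 := le_antisymm (le_inf inf_le_left hall) hB0B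
      have h2 : Nat.card CW ≤ 4 := hW4 ▸ Cfsg.Lib.ElemToolkit.card_le_card_of_le inf_le_left
      rw [h1, mul_comm 4]
      exact Nat.mul_le_mul_left _ h2
    obtain ⟨b0, hb0, hb0n⟩ := SetLike.not_le_iff_exists.1 hall
    have hBe := Cfsg.Lib.ElemToolkit.elementary_mono (inf_le_left : B ≤ A) hAe
    have hC2 : Nat.card CW ≤ 2 := by
      have hd : Nat.card CW ∣ 4 := hW4 ▸ card_dvd_of_le inf_le_left
      have hne : Nat.card CW ≠ 4 := fun e => hb0n (mem_centralizer_iff.2 fun w hw => by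
        have : w ∈ CW := (eq_of_le_of_card_ge (inf_le_left : CW ≤ W) (by rw [hW4, e])).ge hw
        exact (mem_centralizer_iff.1 (mem_inf.1 this).2 b0 hb0).symm)
      have := Nat.le_of_dvd (by omega) hd
      obtain ⟨i, -, hi⟩ := (Nat.dvd_prime_pow Nat.prime_two).1 (show Nat.card CW ∣ 2 ^ 2 from hd)
      rw [hi] at this hne ⊢
      rcases i with _ | _ | _ | i
      · norm_num
      · norm_num
      · norm_num at hne
      · exfalso; rw [pow_succ, pow_succ, pow_succ] at this; have := Nat.one_le_two_pow (n := i); omega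
    have hidx : Nat.card B ≤ 2 * Nat.card ↥(B ⊓ centralizer (W : Set G)) := by
      refine card_le_two_mul hb0 (elem_sq hBe hb0) fun b hb hbn => ?_
      obtain ⟨z, hzW, hz1, hzB⟩ := exists_fixed (elem_isPGroup hWe) (elem_isPGroup hBe) inf_le_right hW1
      -- all nontrivial elements act alike
      have hact : ∀ b ∈ B, b ∉ centralizer (W : Set G) → ∀ w ∈ W, w ≠ 1 → w ≠ z → b * w * b = w * z := by
        intro b hb hbn w hw hw1 hwz
        have hbi := elem_inv hBe hb
        have hb2 := elem_sq hBe hb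
        have hbw : b * w * b ∈ W := by have := conj_mem (mem_inf.1 hb).2 hw; rwa [hbi] at this
        have hbz : b * z * b = z := by rw [hzB b hb, mul_assoc, hb2, mul_one]
        have hWall : ∀ u ∈ W, u = 1 ∨ u = z ∨ u = w ∨ u = w * z := by
          intro u hu
          by_contra hne
          push Not at hne
          obtain ⟨h1, h2, h3, h4⟩ := hne
          have hwz1 : w * z ≠ 1 := fun e => hwz ((mul_eq_one_iff_eq_inv.1 e).trans (elem_inv hWe hzW))
          letI := Fintype.ofFinite W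
          have hs : ({⟨1, one_mem W⟩, ⟨u, hu⟩, ⟨z, hzW⟩, ⟨w, hw⟩, ⟨w * z, mul_mem hw hzW⟩} : Finset W).card = 5 := by
            simp [Subtype.ext_iff, h1, h1.symm, h2, h3, h4, hz1, Ne.symm hz1, hw1, Ne.symm hw1, Ne.symm hwz,
              Ne.symm hwz1]
          have := Finset.card_le_univ ({⟨1, one_mem W⟩, ⟨u, hu⟩, ⟨z, hzW⟩, ⟨w, hw⟩, ⟨w * z, mul_mem hw hzW⟩} :
            Finset W)
          rw [hs, ← Nat.card_eq_fintype_card, hW4] at this
          omega
        rcases hWall _ hbw with e | e | e | e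
        · refine absurd ?_ hw1
          calc w = (b * b) * w * (b * b) := by rw [hb2, one_mul, mul_one]
            _ = b * (b * w * b) * b := by group
            _ = 1 := by rw [e, mul_one, hb2]
        · refine absurd ?_ hwz
          calc w = (b * b) * w * (b * b) := by rw [hb2, one_mul, mul_one]
            _ = b * (b * w * b) * b := by group
            _ = z := by rw [e, hbz]
        · refine absurd (mem_centralizer_iff.2 fun u hu => ?_) hbn
          have hcw : b * w = w * b := by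
            conv_rhs => rw [← e]
            rw [mul_assoc (b * w) b b, hb2, mul_one]
          have hcz := hzB b hb
          rcases hWall u hu with h | h | h | h <;> rw [h]
          · rw [one_mul, mul_one]
          · exact hcz.symm
          · exact hcw.symm
          · rw [mul_assoc, ← hcz, ← mul_assoc, ← hcw, mul_assoc]
        · exact e
      refine mem_centralizer_iff.2 fun w hw => ?_
      have hbb := elem_comm hBe hb hb0
      by_cases hw1 : w = 1
      · rw [hw1, one_mul, mul_one]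
      by_cases hwz : w = z
      · rw [hwz]
        exact (hzB _ (mul_mem hb hb0)).symm
      have e1 := hact b hb hbn w hw hw1 hwz
      have e2 := hact b0 hb0 hb0n w hw hw1 hwz
      have e3 : b * w * b = b0 * w * b0 := e1.trans e2.symm
      have hbi := elem_inv hBe hb
      have hb0i := elem_inv hBe hb0
      calc w * (b * b0) = (b0 * b0) * w * (b0 * b) := by rw [elem_sq hBe hb0, one_mul, hbb]
        _ = b0 * (b0 * w * b0) * b := by group
        _ = b0 * (b * w * b) * b := by rw [e3]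
        _ = (b * b0) * w * (b * b) := by rw [hbb]; group
        _ = _ := by rw [elem_sq hBe hb, mul_one]
    have h3 : Nat.card ↥(B ⊓ centralizer (W : Set G)) ≤ Nat.card B0 :=
      Cfsg.Lib.ElemToolkit.card_le_card_of_le (inf_le_inf_right _ inf_le_left)
    calc Nat.card B * Nat.card CW ≤ (2 * Nat.card B0) * 2 := Nat.mul_le_mul (by omega) hC2
      _ = 4 * Nat.card B0 := by ring
  have hN : OW.card ≤ 1 := by
    have h9 : 4 ^ OW.card ≤ 4 * OW.card := by
      refine Nat.le_of_mul_le_mul_left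
        (?_ : Nat.card B0 * _ ≤ Nat.card B0 * _) Nat.card_pos
      calc Nat.card B0 * 4 ^ OW.card ≤ Nat.card A * Nat.card CW := hle1
        _ ≤ OW.card * Nat.card B * Nat.card CW := Nat.mul_le_mul_right _ hle2
        _ = OW.card * (Nat.card B * Nat.card CW) := by ring
        _ ≤ OW.card * (4 * Nat.card B0) := Nat.mul_le_mul_left _ hle3
        _ = _ := by ring
    by_contra h
    obtain ⟨n, hn⟩ : ∃ n, OW.card = n + 2 := ⟨OW.card - 2, by omega⟩
    rw [hn, pow_succ, pow_succ] at h9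
    have := Nat.lt_pow_self (show 1 < 4 by norm_num) (n := n)
    omega
  intro a ha
  exact mem_normalizer_of_cj (Finset.card_le_one.1 hN _ (hOW.2 ⟨a, ha, rfl⟩) _ hWmem)

end Cfsg.Lib.JComp
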