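import Cfsg.Agent.JComp.Unique
import Cfsg.Agent.JComp.Orbit

/-!
Offenders of `L` on `V = Ω₁Z(O₂(L))`, intersections of conjugates of `V` with `L`, and the contradiction
when a largest straddling subgroup moves `V`.
-/

set_option autoImplicit false
set_option linter.unusedSectionVars false
set_option linter.style.haveILetI false

namespace Cfsg.Lib.JComp

open Subgroup
open scoped commutatorElement

universe u

variable {G : Type u} [Group G] [Finite G]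

theorem centralizer_le_normalizer_zpowers (z : G) :
    centralizer ({z} : Set G) ≤ normalizer (zpowers z : Set G) := fun c hc =>
  centralizer_le_normalizer _ (mem_centralizer_iff.2 fun w hw => by
    obtain ⟨n, rfl⟩ := mem_zpowers_iff.1 hw
    exact ((show Commute z c from (mem_centralizer_singleton_iff.1 hc).symm).zpow_left n).eq)

theorem local_zpowers {z : G} (hz : z * z = 1) (hz1 : z ≠ 1) :
    Cfsg.IsTwoLocal (normalizer (zpowers z : Set G)) :=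
  ⟨_, elem_isPGroup (zpowers_elem hz).1, fun e => hz1 (mem_bot.1 (e ▸ mem_zpowers z)), rfl⟩

/-- A conjugate of `J` inside `T` is `J`. -/
theorem jof_conj_eq {T : Subgroup G} {g : G} (h : cj g (Jof T) ≤ T) : cj g (Jof T) = Jof T := by
  refine eq_of_le_of_card_ge (map_le_iff_le_comap.2 (jof_le_iff.2 fun A hA =>
    map_le_iff_le_comap.1 (maxE_le_jof (T := T) (A := cj g A) ⟨(map_mono (maxE_le_jof hA)).trans h,
      elem_cj hA.2.1 g, fun B hB hBe => (hA.2.2 B hB hBe).trans (card_cj g A).ge⟩))) (card_cj _ _).ge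

/-- The fixed points of an involution carry the commutators. -/
theorem sq_bound {V A : Subgroup G} (hV : Cfsg.IsElementaryAbelian 2 V) {b : G}
    (hb : b ∈ normalizer (V : Set G)) (hb2 : b * b = 1) (hA : V ⊓ centralizer ({b} : Set G) ≤ A) :
    Nat.card V ≤ Nat.card A * Nat.card A := by
  set δ := Cfsg.Lib.FF.deltaHom hV hb
  have hbi : b⁻¹ = b := inv_eq_of_mul_eq_one_right hb2
  have hker : δ.ker.map V.subtype ≤ A := by
    rintro _ ⟨v, hv, rfl⟩
    exact hA (mem_inf.2 ⟨v.2, mem_centralizer_singleton_iff.2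
      (commutatorElement_eq_one_iff_mul_comm.1 (MonoidHom.mem_ker.1 hv)).symm⟩)
  have hrange : δ.range ≤ A := by
    rintro _ ⟨v, rfl⟩
    show ⁅b, (v : G)⁆ ∈ A
    have hvV := conj_mem hb v.2
    have hvi := elem_inv hV v.2
    refine hA (mem_inf.2 ⟨mul_mem hvV (inv_mem v.2), mem_centralizer_singleton_iff.2 ?_⟩)
    have hcm := elem_comm hV hvV v.2
    rw [hbi] at hcm
    rw [commutatorElement_def, hbi, hvi]
    calc b * (v : G) * b * (v : G) * b = ((v : G) * (b * (v : G) * b)) * b := by rw [← hcm]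
      _ = (v : G) * b * (v : G) * (b * b) := by group
      _ = (b * b) * (v : G) * b * (v : G) := by rw [hb2, one_mul, mul_one]
      _ = _ := by group
  have h := card_mul_index δ.ker
  rw [index_ker] at h
  rw [← h]
  refine Nat.mul_le_mul ?_ (Cfsg.Lib.ElemToolkit.card_le_card_of_le hrange)
  rw [← card_map_of_injective (K := δ.ker) V.subtype_injective]
  exact Cfsg.Lib.ElemToolkit.card_le_card_of_le hker

namespace Setting

variable {T L : Subgroup G}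

theorem ff_setup (h : Setting T L) [((Vm L).subgroupOf L).Normal] :
    Cfsg.Lib.FF.Setup 2 (Cfsg.Lib.FF.vx ((Vm L).subgroupOf L))
      ((⊤ : Subgroup L).map (Cfsg.Lib.FF.rho ((Vm L).subgroupOf L))) := by
  haveI : Fact (Nat.Prime 2) := ⟨Nat.prime_two⟩
  haveI := h.solv
  refine Cfsg.Lib.FF.setup_model _ (Cfsg.Lib.Blocks.isPSolvable_of_solvable inferInstance)
    (elem_of_sq fun v hv => Subtype.ext (elem_sq (elem_omegaCenterOf _) (mem_subgroupOf.1 hv))) ?_ ⊤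
  exact h.pCore_quot

theorem V_le (_ : Setting T L) : Vm L ≤ L := (omegaCenterOf_le _).trans (pCoreOf_le L)

theorem fx_eq (_ : Setting T L) {X : Subgroup G} (hX : X ≤ L) :
    Cfsg.Lib.FF.fx ((Vm L).subgroupOf L) (X.subgroupOf L) =
      (Vm L ⊓ centralizer (X : Set G)).subgroupOf L := by
  ext v
  rw [Cfsg.Lib.FF.mem_fx, mem_subgroupOf, mem_subgroupOf, mem_inf, mem_centralizer_iff]
  exact and_congr Iff.rfl ⟨fun hc b hb => congrArg Subtype.val (hc ⟨b, hX hb⟩ hb),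
    fun hc b hb => Subtype.ext (hc b hb)⟩

/-- `|X| |C_V(X)| ≤ |V| |C_X(V)|`. -/
theorem off_bound (h : Setting T L) {X : Subgroup G} (hX : X ≤ L) (hXe : Cfsg.IsElementaryAbelian 2 X) :
    Nat.card X * Nat.card ↥(Vm L ⊓ centralizer (X : Set G)) ≤
      Nat.card (Vm L) * Nat.card ↥(X ⊓ centralizer (Vm L : Set G)) := by
  haveI : Fact (Nat.Prime 2) := ⟨Nat.prime_two⟩
  haveI : ((Vm L).subgroupOf L).Normal := normal_subgroupOf_of_le_normalizer h.V_norm
  set V' := (Vm L).subgroupOf L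
  set r := Cfsg.Lib.FF.rho V' with hr
  set X' := X.subgroupOf L with hX'
  have hXe' : Cfsg.IsElementaryAbelian 2 (X'.map r) := elem_of_sq (by
    rintro _ ⟨y, hy, rfl⟩
    rw [← map_mul, show y * y = 1 from Subtype.ext (elem_sq hXe (mem_subgroupOf.1 hy)), map_one])
  have hfx : Nat.card (Cfsg.Lib.FF.fx (Cfsg.Lib.FF.vx V') (X'.map r)) =
      Nat.card ↥(Vm L ⊓ centralizer (X : Set G)) := by
    rw [Cfsg.Lib.FF.card_fx_map, h.fx_eq hX,
      Nat.card_congr (subgroupOfEquivOfLe (inf_le_left.trans h.V_le)).toEquiv]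
  have hv : Nat.card (Cfsg.Lib.FF.vx V') = Nat.card (Vm L) := by
    rw [Cfsg.Lib.FF.vx, ← Nat.card_congr (MonoidHom.ofInjective SemidirectProduct.inl_injective).toEquiv,
      Nat.card_congr (subgroupOfEquivOfLe h.V_le).toEquiv]
  have hker : Nat.card ↥(X' ⊓ r.ker) = Nat.card ↥(X ⊓ centralizer (Vm L : Set G)) := by
    rw [hr, Cfsg.Lib.FF.ker_rho, h.centralizer_V,
      ← Nat.card_congr (subgroupOfEquivOfLe (inf_le_left.trans hX :
        X ⊓ centralizer (Vm L : Set G) ≤ L)).toEquiv]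
    congr 2
    ext y
    simp only [hX', mem_inf, mem_subgroupOf]
    exact and_congr Iff.rfl ⟨fun hy => hy.2, fun hy => ⟨y.2, hy⟩⟩
  have hb := Cfsg.Lib.FF.card_mul_fx_le h.ff_setup hXe' (map_mono le_top)
  rw [hfx, hv] at hb
  have hc := Cfsg.Lib.FF.card_eq_map_mul r X'
  rw [hker, Nat.card_congr (subgroupOfEquivOfLe hX).toEquiv] at hc
  calc Nat.card X * Nat.card ↥(Vm L ⊓ centralizer (X : Set G))
      = Nat.card (X'.map r) * Nat.card ↥(Vm L ⊓ centralizer (X : Set G)) *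
          Nat.card ↥(X ⊓ centralizer (Vm L : Set G)) := by rw [hc, mul_right_comm]
    _ ≤ _ := Nat.mul_le_mul_right _ hb

/-- A faithful elementary subgroup whose nontrivial elements have the same fixed points has order at most 2. -/
theorem shared_fix (h : Setting T L) {X : Subgroup G} (hX : X ≤ L) (hXe : Cfsg.IsElementaryAbelian 2 X)
    (hf : ∀ b ∈ X, b ∈ centralizer (Vm L : Set G) → b = 1)
    (hsh : ∀ b ∈ X, b ≠ 1 → ∀ v ∈ Vm L, b * v = v * b → ∀ b' ∈ X, b' * v = v * b') : Nat.card X ≤ 2 := by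
  classical
  by_contra hlt
  haveI : Fact (Nat.Prime 2) := ⟨Nat.prime_two⟩
  haveI : ((Vm L).subgroupOf L).Normal := normal_subgroupOf_of_le_normalizer h.V_norm
  set V' := (Vm L).subgroupOf L
  set r := Cfsg.Lib.FF.rho V' with hr
  set X' := X.subgroupOf L with hX'
  have hinj : ∀ y ∈ X', r y = 1 → y = 1 := fun y hy hy1 => Subtype.ext (hf _ (mem_subgroupOf.1 hy) (by
    rw [← MonoidHom.mem_ker, hr, Cfsg.Lib.FF.ker_rho, h.centralizer_V, mem_subgroupOf] at hy1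
    exact (mem_inf.1 hy1).2))
  have hcard : Nat.card (X'.map r) = Nat.card X := by
    have hc := Cfsg.Lib.FF.card_eq_map_mul r X'
    rw [show X' ⊓ r.ker = ⊥ from eq_bot_iff.2 fun y hy => mem_bot.2 (hinj y (mem_inf.1 hy).1 (mem_inf.1 hy).2),
      card_bot, mul_one, Nat.card_congr (subgroupOfEquivOfLe hX).toEquiv] at hc
    exact hc.symm
  have hXe' : Cfsg.IsElementaryAbelian 2 (X'.map r) := elem_of_sq (by
    rintro _ ⟨y, hy, rfl⟩
    rw [← map_mul, show y * y = 1 from Subtype.ext (elem_sq hXe (mem_subgroupOf.1 hy)), map_one])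
  obtain ⟨a, ha, ha1⟩ := (bot_or_exists_ne_one (X'.map r)).resolve_left fun e => by
    rw [e, card_bot] at hcard; omega
  have hs := h.ff_setup
  obtain ⟨B, hBA, -, hB2, q, hq, hc, hqa⟩ := Cfsg.Lib.FF.exists_hyperplane hs hXe' (map_mono le_top) ha ha1
  have hfx := Cfsg.Lib.FF.fx_mul_le hs hXe' (map_mono le_top) hBA ha hq hc hqa
  obtain ⟨b, hb, hb1⟩ := (bot_or_exists_ne_one B).resolve_left fun e => by
    rw [e, card_bot, hcard] at hB2; omega
  obtain ⟨y, hy, rfl⟩ := hBA hb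
  have hy1 : (y : G) ≠ 1 := fun e => hb1 (by rw [show y = 1 from Subtype.ext e, map_one])
  have hle : Cfsg.Lib.FF.fx (Cfsg.Lib.FF.vx V') B ≤ Cfsg.Lib.FF.fx (Cfsg.Lib.FF.vx V') (X'.map r) := by
    intro m hm
    obtain ⟨hm1, hm2⟩ := Cfsg.Lib.FF.mem_fx.1 hm
    obtain ⟨v, rfl⟩ := hm1
    refine Cfsg.Lib.FF.mem_fx.2 ⟨⟨v, rfl⟩, ?_⟩
    rintro _ ⟨y', hy', rfl⟩
    refine (Cfsg.Lib.FF.rho_commute_iff V' y' v).2 (Subtype.ext ?_)
    exact hsh _ (mem_subgroupOf.1 hy) hy1 _ (mem_subgroupOf.1 v.2)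
      (congrArg Subtype.val ((Cfsg.Lib.FF.rho_commute_iff V' y v).1 (hm2 _ hb))) _ (mem_subgroupOf.1 hy')
  set F := Nat.card (Cfsg.Lib.FF.fx (Cfsg.Lib.FF.vx V') (X'.map r)) with hF
  have h2 : 2 * F ≤ F := hfx.trans (Cfsg.Lib.ElemToolkit.card_le_card_of_le hle)
  have h0 : 0 < F := Nat.card_pos
  omega

/-- Some `L`-conjugate of an element of `V` is centralized by `J`. -/
theorem exists_conj_fixed (h : Setting T L) {v : G} (hv : v ∈ Vm L) :
    ∃ l ∈ L, ∀ j ∈ Jof T, j * (l * v * l⁻¹) = l * v * l⁻¹ * j := by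
  classical
  set f : G → Set G := fun w => {b | b ∈ Jof T ∧ b * b = 1 ∧ b * w = w * b} with hf
  obtain ⟨v', ⟨l, hl, rfl⟩, hmax⟩ := Set.exists_max_image {w : G | ∃ l ∈ L, l * v * l⁻¹ = w}
    (fun w => (f w).ncard) (Set.toFinite _) ⟨v, 1, one_mem _, by group⟩
  refine ⟨l, hl, ?_⟩
  set v' := l * v * l⁻¹ with hv'def
  have hv' : v' ∈ Vm L := conj_mem (h.V_norm hl) hv
  suffices hle : Jof T ≤ centralizer ({v'} : Set G) from fun j hj => mem_centralizer_singleton_iff.1 (hle hj)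
  refine h.J_le_kill (fun p hp => mem_centralizer_singleton_iff.2 ((mem_omegaCenterOf.1 hv').2.1 p hp))
    fun x a ha => mem_centralizer_singleton_iff.2 ?_
  by_contra hna
  have hM := ha.mover h
  set W := dlR x (Vm L) with hW
  have hJW : Jof T ≤ normalizer (W : Set G) :=
    le_normalizer_of_conj fun g hg w hw => ha.N0_stab h (h.J_le_N0 hg) w hw
  have hW2 : IsPGroup 2 W := (elem_isPGroup hM.elem).to_le hM.dlR_le
  obtain ⟨w0, hw0, hw01⟩ := ha.exists_ne h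
  obtain ⟨z, hzW, hz1, hzJ⟩ := exists_fixed hW2 (h.syl.2.1.to_le (jof_le T)) hJW
    (fun e => hw01 (mem_bot.1 (e ▸ hw0)))
  obtain ⟨c, hc, r, hr, hxc, hcr⟩ := hM.split hv'
  have hxc' : x⁻¹ * c * x = c := by
    calc x⁻¹ * c * x = x⁻¹ * (x * c * x⁻¹) * x := by rw [hxc]
      _ = c := by group
  -- involutions of `J` fix `c` as soon as they move it inside `W`
  have hfix : ∀ b ∈ Jof T, c⁻¹ * (b * c * b⁻¹) ∈ W → b * c * b⁻¹ = c := by
    intro b hb hbc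
    have hx : x * (b * c * b⁻¹) * x⁻¹ = b * c * b⁻¹ := by
      obtain ⟨c0, hc0, e | e⟩ := ha.conj_cases h (inv_mem (h.J_le_N0 hb))
      all_goals
        have e1 : x * (b * c * b⁻¹) * x⁻¹ = b * ((b⁻¹ * x * b⁻¹⁻¹) * c * (b⁻¹ * x * b⁻¹⁻¹)⁻¹) * b⁻¹ := by group
        rw [e1, e]
      · rw [show x * c0 * c * (x * c0)⁻¹ = x * (c0 * c * c0⁻¹) * x⁻¹ by group, Atom.C_V h hc0 hc, hxc]
      · rw [show x⁻¹ * c0 * c * (x⁻¹ * c0)⁻¹ = x⁻¹ * (c0 * c * c0⁻¹) * x by group, Atom.C_V h hc0 hc, hxc']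
    have h3 := hM.fix_eq_one hbc (by
      calc x * (c⁻¹ * (b * c * b⁻¹)) * x⁻¹ = (x * c * x⁻¹)⁻¹ * (x * (b * c * b⁻¹) * x⁻¹) := by group
        _ = _ := by rw [hxc, hx])
    exact (inv_mul_eq_one.1 h3).symm
  have hac : a * c * a⁻¹ = c := hfix a ha.aJ (by
    rw [elem_inv hM.elem hc, ha.a_inv, elem_comm hM.elem hc (by
      have := conj_mem (h.V_norm (h.J_le_L ha.aJ)) hc
      rwa [ha.a_inv] at this)]
    exact ha.brk c hc)
  have hfixv : ∀ b ∈ Jof T, b * v' = v' * b → b * c * b⁻¹ = c := by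
    intro b hb hbv
    refine hfix b hb ?_
    have e : c⁻¹ * (b * c * b⁻¹) = r * (b * r * b⁻¹)⁻¹ := by
      have h1 : b * v' * b⁻¹ = v' := by rw [hbv, mul_inv_cancel_right]
      rw [hcr] at h1
      calc c⁻¹ * (b * c * b⁻¹) = c⁻¹ * (b * (c * r) * b⁻¹) * (b * r * b⁻¹)⁻¹ := by group
        _ = _ := by rw [h1]; group
    rw [e]
    exact mul_mem hr (inv_mem (conj_mem (hJW hb) hr))
  have hcz : ∀ b ∈ Jof T, b * c * b⁻¹ = c → b * (c * z) = c * z * b := fun b hb he =>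
    ((show Commute b c from mul_inv_eq_iff_eq_mul.1 he).mul_right (show Commute b z from hzJ b hb)).eq
  obtain ⟨g, hg, hgv⟩ : ∃ g ∈ L, g * v' * g⁻¹ = c * z := by
    rcases ha.W_cases h hzW hz1 hr with e | e | e | e
    · refine absurd ?_ hna
      rw [hcr, e, mul_one]
      exact mul_inv_eq_iff_eq_mul.1 hac
    · refine absurd ?_ hna
      rw [hcr, e]
      exact hcz a ha.aJ hac
    · refine ⟨x⁻¹, inv_mem ha.xL, ?_⟩
      rw [hcr, e, show x⁻¹ * (c * (x * z * x⁻¹)) * x⁻¹⁻¹ = (x⁻¹ * c * x) * z by group, hxc']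
    · refine ⟨x, ha.xL, ?_⟩
      rw [hcr, e, show x * (c * (x * (x * z * x⁻¹) * x⁻¹)) * x⁻¹ =
        (x * c * x⁻¹) * (x * (x * (x * z * x⁻¹) * x⁻¹) * x⁻¹) by group, hxc, hM.conj3 z]
  have hlt : (f v').ncard < (f (c * z)).ncard := by
    refine Set.ncard_lt_ncard ((Set.ssubset_iff_of_subset ?_).2 ⟨a, ⟨ha.aJ, ha.a2, hcz a ha.aJ hac⟩,
      fun h2 => hna h2.2.2⟩) (Set.toFinite _)
    exact fun b hb => ⟨hb.1, hb.2.1, hcz b hb.1 (hfixv b hb.1 hb.2.2)⟩
  have := hmax (c * z) ⟨g * l, mul_mem hg hl, by rw [← hgv, hv'def]; group⟩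
  omega

variable (h : Setting T L) (hloc : ∀ H : Subgroup G, Cfsg.IsTwoLocal H → Jof T ≤ H → H ≤ L)

include h hloc

theorem cen_le_of_fixed {v : G} (hv : v ∈ Vm L) (hv1 : v ≠ 1) (hJv : ∀ j ∈ Jof T, j * v = v * j) :
    centralizer ({v} : Set G) ≤ L :=
  (centralizer_le_normalizer_zpowers v).trans (hloc _ (local_zpowers (elem_sq (elem_omegaCenterOf _) hv) hv1)
    fun j hj => centralizer_le_normalizer_zpowers v (mem_centralizer_singleton_iff.2 (hJv j hj)))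

theorem cen_le {v : G} (hv : v ∈ Vm L) (hv1 : v ≠ 1) : centralizer ({v} : Set G) ≤ L := by
  obtain ⟨l, hl, hfix⟩ := h.exists_conj_fixed hv
  have hle := h.cen_le_of_fixed hloc (conj_mem (h.V_norm hl) hv) (fun e => hv1 (by
    calc v = l⁻¹ * (l * v * l⁻¹) * l := by group
      _ = 1 := by rw [e]; group)) hfix
  intro c hc
  have h2 : l * c * l⁻¹ ∈ L := hle (mem_centralizer_singleton_iff.2 (by
    calc l * c * l⁻¹ * (l * v * l⁻¹) = l * (c * v) * l⁻¹ := by group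
      _ = l * (v * c) * l⁻¹ := by rw [mem_centralizer_singleton_iff.1 hc]
      _ = _ := by group))
  have := mul_mem (mul_mem (inv_mem hl) h2) hl
  rwa [show l⁻¹ * (l * c * l⁻¹) * l = c by group] at this

theorem nJ_le (hT1 : T ≠ ⊥) : normalizer (Jof T : Set G) ≤ L := by
  haveI : Fact (Nat.Prime 2) := ⟨Nat.prime_two⟩
  exact hloc _ ⟨_, isPGroup_jof h.syl.2.1, Cfsg.Lib.Thompson.thompsonSubgroupOf_ne_bot h.syl.2.1 hT1, rfl⟩
    le_normalizer

/-- `V` is a TI subset with respect to `L`. -/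
theorem ti (hT1 : T ≠ ⊥) {g v : G} (hv : v ∈ Vm L) (hv1 : v ≠ 1) (hgv : g * v * g⁻¹ ∈ Vm L) : g ∈ L := by
  obtain ⟨l, hl, hfix⟩ := h.exists_conj_fixed hv
  have hle : cj (g * l⁻¹) (Jof T) ≤ L := by
    refine le_trans ?_ (h.cen_le hloc hgv (fun e => hv1 (by
      calc v = g⁻¹ * (g * v * g⁻¹) * g := by group
        _ = 1 := by rw [e]; group)))
    rintro _ ⟨j, hj, rfl⟩
    refine mem_centralizer_singleton_iff.2 ?_
    show g * l⁻¹ * j * (g * l⁻¹)⁻¹ * (g * v * g⁻¹) = g * v * g⁻¹ * (g * l⁻¹ * j * (g * l⁻¹)⁻¹)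
    calc g * l⁻¹ * j * (g * l⁻¹)⁻¹ * (g * v * g⁻¹) = g * l⁻¹ * (j * (l * v * l⁻¹)) * (g * l⁻¹)⁻¹ := by group
      _ = g * l⁻¹ * (l * v * l⁻¹ * j) * (g * l⁻¹)⁻¹ := by rw [hfix j hj]
      _ = _ := by group
  obtain ⟨m, hm, hle'⟩ := exists_conj_le h.syl hle ((isPGroup_jof h.syl.2.1).map _)
  have h2 : cj (m⁻¹ * (g * l⁻¹)) (Jof T) ≤ T := by
    have := map_mono (f := (MulAut.conj m⁻¹).toMonoidHom) hle'
    change cj m⁻¹ (cj (g * l⁻¹) (Jof T)) ≤ cj m⁻¹ (cj m T) at this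
    rwa [cj_inv_cj, cj_cj] at this
  have h3 := h.nJ_le hloc hT1 (mem_normalizer_of_cj (jof_conj_eq h2))
  have := mul_mem (mul_mem hm h3) hl
  rwa [show m * (m⁻¹ * (g * l⁻¹)) * l = g by group] at this

/-- Half of the argument for a conjugate of `V` meeting `L`. -/
theorem pair_half (hT1 : T ≠ ⊥) {g : G} (hg : g ∉ L) (hB : cj g (Vm L) ⊓ L ≠ ⊥) :
    (∀ a ∈ Vm L ⊓ cj g L, ∀ b ∈ cj g (Vm L) ⊓ L, a * b = b * a) ∧
      cj g⁻¹ (Vm L) ⊓ L ≠ ⊥ ∧
      (cj g⁻¹ (Vm L) ⊓ L = cj g⁻¹ (Vm L) ∨ (Nat.card ↥(cj g (Vm L) ⊓ L) ≤ 2 ∧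
        Nat.card (Vm L) ≤ Nat.card ↥(cj g⁻¹ (Vm L) ⊓ L) * Nat.card ↥(cj g⁻¹ (Vm L) ⊓ L))) := by
  set V := Vm L with hV
  set B := cj g V ⊓ L with hBdef
  set A := V ⊓ cj g L with hA
  set B' := cj g⁻¹ V ⊓ L with hB'
  have hVe : Cfsg.IsElementaryAbelian 2 V := elem_omegaCenterOf _
  have hBe : Cfsg.IsElementaryAbelian 2 B := Cfsg.Lib.ElemToolkit.elementary_mono inf_le_left (elem_cj hVe g)
  have hcomm : ∀ a ∈ A, ∀ b ∈ B, a * b = b * a := by
    intro a ha b hb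
    obtain ⟨haV, haL⟩ := mem_inf.1 ha
    obtain ⟨hbV, hbL⟩ := mem_inf.1 hb
    obtain ⟨l, hl, rfl⟩ := haL
    obtain ⟨w, hw, rfl⟩ := hbV
    set a := MulAut.conj g l with hadef
    set b := MulAut.conj g w with hbdef
    have h1 : a * b * a⁻¹ * b⁻¹ ∈ V := by
      rw [show a * b * a⁻¹ * b⁻¹ = a * (b * a⁻¹ * b⁻¹) by group]
      exact mul_mem haV (conj_mem (h.V_norm hbL) (inv_mem haV))
    have h2 : l * w * l⁻¹ * w⁻¹ ∈ V := mul_mem (conj_mem (h.V_norm hl) hw) (inv_mem hw)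
    have e : a * b * a⁻¹ * b⁻¹ = g * (l * w * l⁻¹ * w⁻¹) * g⁻¹ := by
      simp only [hadef, hbdef, MulAut.conj_apply]; group
    have h3 : l * w * l⁻¹ * w⁻¹ = 1 := by
      by_contra hne
      exact hg (h.ti hloc hT1 h2 hne (e ▸ h1))
    rw [h3, mul_one, mul_inv_cancel, ← commutatorElement_def] at e
    exact commutatorElement_eq_one_iff_mul_comm.1 e
  have hcen : ∀ b ∈ B, b ≠ 1 → ∀ v ∈ V, b * v = v * b → v ∈ A := by
    intro b hb hb1 v hv hbv
    refine mem_inf.2 ⟨hv, mem_cj.2 ?_⟩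
    obtain ⟨w, hw, rfl⟩ := (mem_inf.1 hb).1
    refine h.cen_le hloc hw (fun e => hb1 (by rw [e, map_one])) (mem_centralizer_singleton_iff.2 ?_)
    have hbv' : g * w * g⁻¹ * v = v * (g * w * g⁻¹) := hbv
    calc g⁻¹ * v * g * w = g⁻¹ * (v * (g * w * g⁻¹)) * g := by group
      _ = g⁻¹ * (g * w * g⁻¹ * v) * g := by rw [hbv']
      _ = _ := by group
  have hmapA : cj g⁻¹ A ≤ B' := by
    rintro _ ⟨a, ha, rfl⟩
    obtain ⟨haV, haL⟩ := mem_inf.1 ha
    refine mem_inf.2 ⟨⟨a, haV, rfl⟩, ?_⟩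
    have := mem_cj.1 haL
    show g⁻¹ * a * g⁻¹⁻¹ ∈ L
    rwa [inv_inv]
  have hAcard : Nat.card A ≤ Nat.card B' := card_cj g⁻¹ A ▸ Cfsg.Lib.ElemToolkit.card_le_card_of_le hmapA
  obtain ⟨b0, hb0, hb01⟩ := (bot_or_exists_ne_one B).resolve_left hB
  have hB'1 : B' ≠ ⊥ := by
    by_cases hV1 : V = ⊥
    · refine absurd ?_ hb01
      obtain ⟨w, hw, rfl⟩ := (mem_inf.1 hb0).1
      change w ∈ V at hw
      rw [hV1, mem_bot] at hw
      rw [hw, map_one]
    obtain ⟨z, hzV, hz1, hzB⟩ := exists_fixed (elem_isPGroup hVe) (elem_isPGroup hBe)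
      ((inf_le_right : B ≤ L).trans h.V_norm) hV1
    intro e
    have := hmapA (conj_mem_cj (g := g⁻¹) (hcen b0 hb0 hb01 z hzV (hzB b0 hb0)))
    rw [e, mem_bot] at this
    refine hz1 ?_
    calc z = g * (g⁻¹ * z * g⁻¹⁻¹) * g⁻¹ := by group
      _ = 1 := by rw [this]; group
  refine ⟨hcomm, hB'1, ?_⟩
  by_cases hk : ∃ b ∈ B, b ≠ 1 ∧ b ∈ centralizer (V : Set G)
  · obtain ⟨b, hb, hb1, hbc⟩ := hk
    refine Or.inl (inf_eq_left.2 ?_)
    rintro _ ⟨v, hv, rfl⟩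
    exact (mem_inf.1 (hmapA (conj_mem_cj (g := g⁻¹)
      (hcen b hb hb1 v hv (mem_centralizer_iff.1 hbc v hv).symm)))).2
  · push Not at hk
    refine Or.inr ⟨h.shared_fix inf_le_right hBe (fun b hb hbc => ?_) fun b hb hb1 v hv hbv b' hb' => ?_, ?_⟩
    · by_contra hb1
      exact hk b hb hb1 hbc
    · exact (hcomm v (hcen b hb hb1 v hv hbv) b' hb').symm
    · exact (sq_bound (A := A) hVe (h.V_norm (mem_inf.1 hb0).2) (elem_sq hBe hb0) fun v hv =>
        hcen b0 hb0 hb01 v (mem_inf.1 hv).1 (mem_centralizer_singleton_iff.1 (mem_inf.1 hv).2).symm).trans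
        (Nat.mul_le_mul hAcard hAcard)

/-- A conjugate of `V` meeting `L` centralizes `V`. -/
theorem pair (hT1 : T ≠ ⊥) (h16 : 16 ≤ Nat.card (Vm L)) {g : G} (hg : g ∉ L)
    (hB : cj g (Vm L) ⊓ L ≠ ⊥) : ∀ v ∈ Vm L, ∀ w ∈ cj g (Vm L), v * w = w * v := by
  obtain ⟨hc, hB', h1⟩ := h.pair_half hloc hT1 hg hB
  obtain ⟨-, -, h2⟩ := h.pair_half hloc hT1 (g := g⁻¹) (fun e => hg (inv_inv g ▸ inv_mem e)) hB'
  rw [inv_inv] at h2
  rcases h1 with e1 | ⟨c1, s1⟩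
  · rcases h2 with e2 | ⟨c2, -⟩
    · intro v hv w hw
      refine hc v (mem_inf.2 ⟨hv, mem_cj.2 ?_⟩) w (e2.symm ▸ hw)
      have : g⁻¹ * v * g⁻¹⁻¹ ∈ cj g⁻¹ (Vm L) ⊓ L := e1.symm ▸ conj_mem_cj hv
      rw [inv_inv] at this
      exact (mem_inf.1 this).2
    · rw [e1, card_cj] at c2; omega
  · rcases h2 with e2 | ⟨c2, -⟩
    · rw [e2, card_cj] at c1; omega
    · have := s1.trans (Nat.mul_le_mul c2 c2)
      omega

end Setting

set_option maxHeartbeats 400000 in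
/-- A largest straddling subgroup cannot move `V` to conjugates commuting with `V`. -/
theorem no_straddle_core {T L T' L' : Subgroup G} (hLmax : Cfsg.IsMaximalTwoLocal L) (h : Setting T L)
    (hti : ∀ g v : G, v ∈ Vm L → v ≠ 1 → g * v * g⁻¹ ∈ Vm L → g ∈ L) (h3 : 3 ≤ Nat.card (Vm L))
    (h' : Setting T' L') (hT'L : T' ≤ L)
    (hstr : ∀ H : Subgroup G, Cfsg.IsTwoLocal H → ¬ H ≤ L → T' ≤ H → Pc H ≤ T')
    {x a : G} (ha : Atom T' L' x a) (hxL : x ∉ L) (hTX : T' ≤ normalizer (Atom.X0 L' x : Set G))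
    (hpair : ∀ k ∈ Atom.X0 L' x, ∀ v ∈ Vm L, ∀ w ∈ Vm L, v * (k * w * k⁻¹) = k * w * k⁻¹ * v)
    {z : G} (hzV : z ∈ Vm L) (hz1 : z ≠ 1) : False := by
  classical
  set V := Vm L with hV
  set X := Atom.X0 L' x with hX
  have hVe : Cfsg.IsElementaryAbelian 2 V := elem_omegaCenterOf _
  have hPL : Pc L' ≤ L := h'.P_le_T.trans hT'L
  have hNVL : normalizer (V : Set G) ≤ L :=
    (hLmax.2 _ ⟨V, elem_isPGroup hVe, fun e => hz1 (mem_bot.1 (e ▸ hzV)), rfl⟩ h.V_norm).le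
  have hxinv : x⁻¹ ∉ L := fun e => hxL (inv_inv x ▸ inv_mem e)
  have hxX : x ∈ X := mem_sup_right (mem_zpowers x)
  set s : Set G := {u | ∃ g ∈ X, ∃ v ∈ V, g * v * g⁻¹ = u} with hs
  set U := closure s with hU
  have hUc : U ≤ centralizer (U : Set G) := by
    rw [hU, centralizer_closure, closure_le]
    rintro _ ⟨g, hg, v, hv, rfl⟩
    refine mem_centralizer_iff.2 ?_
    rintro _ ⟨g', hg', v', hv', rfl⟩
    calc g' * v' * g'⁻¹ * (g * v * g⁻¹) = g * ((g⁻¹ * g') * v' * (g⁻¹ * g')⁻¹ * v) * g⁻¹ := by group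
      _ = g * (v * ((g⁻¹ * g') * v' * (g⁻¹ * g')⁻¹)) * g⁻¹ := by
        rw [hpair _ (mul_mem (inv_mem hg) hg') v hv v' hv']
      _ = _ := by group
  have hUe : Cfsg.IsElementaryAbelian 2 U := elem_of_sq fun u hu => by
    induction hu using closure_induction with
    | mem y hy =>
      obtain ⟨g, -, v, hv, rfl⟩ := hy
      rw [show g * v * g⁻¹ * (g * v * g⁻¹) = g * (v * v) * g⁻¹ by group, elem_sq hVe hv]
      group
    | one => simp
    | mul p q hp hq ihp ihq =>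
      calc p * q * (p * q) = p * (q * p) * q := by group
        _ = p * (p * q) * q := by rw [mem_centralizer_iff.1 (hUc hp) q hq]
        _ = (p * p) * (q * q) := by group
        _ = 1 := by rw [ihp, ihq, one_mul]
    | inv p hp ihp => rw [← mul_inv_rev, ihp, inv_one]
  have hnorm : ∀ t : G, (∀ u ∈ s, t * u * t⁻¹ ∈ U) → t ∈ normalizer (U : Set G) := fun t ht =>
    mem_normalizer_of_cj_le (map_le_iff_le_comap.2 ((closure_le _).2 fun u hu => ht u hu))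
  have hXU : X ≤ normalizer (U : Set G) := fun t ht => hnorm t (by
    rintro _ ⟨g, hg, v, hv, rfl⟩
    exact subset_closure ⟨t * g, mul_mem ht hg, v, hv, by group⟩)
  have hTU : T' ≤ normalizer (U : Set G) := fun t ht => hnorm t (by
    rintro _ ⟨g, hg, v, hv, rfl⟩
    exact subset_closure ⟨t * g * t⁻¹, conj_mem (hTX ht) hg, t * v * t⁻¹,
      conj_mem (h.V_norm (hT'L ht)) hv, by group⟩)
  have hVU : ∀ g ∈ X, cj g V ≤ U := by
    rintro g hg _ ⟨v, hv, rfl⟩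
    exact subset_closure ⟨g, hg, v, hv, rfl⟩
  have hU1 : U ≠ ⊥ := fun e => hz1 (mem_bot.1 (e ▸ (cj_one V ▸ hVU 1 (one_mem _)) hzV))
  have hUT : U ≤ T' := (le_pCoreOf (elem_isPGroup hUe) le_normalizer le_rfl).trans
    (hstr _ ⟨U, elem_isPGroup hUe, hU1, rfl⟩ (fun hle => hxL (hle (hXU hxX))) hTU)
  set V2 := cj x V with hV2
  set V3 := cj x⁻¹ V with hV3
  have hV2U : V2 ≤ U := hVU x hxX
  have hV3U : V3 ≤ U := hVU x⁻¹ (inv_mem hxX)
  have hxx : x * x ∉ L := ha.x_inv ▸ hxinv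
  have h23 : V2 ⊓ V3 = ⊥ := by
    rw [eq_bot_iff]
    rintro u hu
    obtain ⟨⟨v, hv, hvu⟩, ⟨v', hv', hv'u⟩⟩ := mem_inf.1 hu
    have e1 : x * v * x⁻¹ = u := hvu
    have e2 : x⁻¹ * v' * x⁻¹⁻¹ = u := hv'u
    rw [mem_bot, ← e1]
    by_contra hne
    refine hxx (hti _ _ hv (fun e => hne (by rw [e]; group)) ?_)
    rw [show x * x * v * (x * x)⁻¹ = x * (x * v * x⁻¹) * x⁻¹ by group, e1, ← e2,
      show x * (x⁻¹ * v' * x⁻¹⁻¹) * x⁻¹ = v' by group]
    exact hv'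
  have hswap : ∀ t ∈ T', t ∉ normalizer (V2 : Set G) → cj t V2 = V3 := by
    intro t ht hn
    have hzn : zpowers x ≤ normalizer (Pc L' : Set G) := zpowers_le.2 (h'.P_norm ha.xL)
    obtain ⟨y, hy, p, hp, he⟩ :=
      (Cfsg.Lib.Coprime.mem_sup_of_le_normalizer' hzn).1 (conj_mem (hTX ht) hxX)
    obtain ⟨n, rfl⟩ := mem_powers_iff_mem_zpowers.2 hy
    change x ^ n * p = _ at he
    rw [← pow_mod_orderOf, ha.order] at he
    have hn3 : n % 3 < 3 := Nat.mod_lt _ (by omega)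
    have hcj : cj t V2 = cj (x ^ (n % 3)) V := by
      rw [hV2, cj_cj, show t * x = x ^ (n % 3) * (p * t) by
        rw [← mul_assoc, he, inv_mul_cancel_right], ← cj_cj]
      exact congrArg (cj _) (cj_eq_self (h.V_norm (mul_mem (hPL hp) (hT'L ht))))
    interval_cases hnm : n % 3
    · refine absurd ?_ hxL
      have hm : t * x * t⁻¹ ∈ L := he ▸ mul_mem (by rw [pow_zero]; exact one_mem _) (hPL hp)
      have := mul_mem (mul_mem (inv_mem (hT'L ht)) hm) (hT'L ht)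
      rwa [show t⁻¹ * (t * x * t⁻¹) * t = x by group] at this
    · exact absurd (mem_normalizer_of_cj (by rw [hcj, pow_one])) hn
    · rw [hcj, pow_two, ← ha.x_inv]
  obtain ⟨A, hA, a', ha', ha'n⟩ : ∃ A, MaxE T' A ∧ ∃ a' ∈ A, a' ∉ normalizer (V2 : Set G) := by
    by_contra hno
    push Not at hno
    have hn := jof_le_iff.2 hno ha.aJ
    have haL : a ∈ L := hT'L (jof_le T' ha.aJ)
    have e1 := cj_eq_self hn
    rw [hV2, cj_cj, show a * x = x⁻¹ * a by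
      rw [← ha.ax, mul_assoc, ha.a2, mul_one], ← cj_cj, cj_eq_self (h.V_norm haL)] at e1
    refine hxx (hNVL (mem_normalizer_of_cj ?_))
    rw [← cj_cj, ← e1, cj_cj_inv]
  have hAe := hA.2.1
  have haT : ∀ b ∈ A, b ∈ T' := fun b hb => hA.1 hb
  have hswap' : ∀ b ∈ A, b ∉ normalizer (V2 : Set G) → cj b V3 = V2 := by
    intro b hb hn
    rw [← hswap b (haT b hb) hn, cj_cj, elem_sq hAe hb, cj_one]
  set A0 := A ⊓ normalizer (V2 : Set G) with hA0
  have hidx : Nat.card A ≤ 2 * Nat.card A0 := card_le_two_mul ha' (elem_sq hAe ha') fun b hb hbn => by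
    refine mem_normalizer_of_cj ?_
    rw [← cj_cj, hswap a' (haT a' ha') ha'n, hswap' b hb hbn]
  have hA03 : ∀ b ∈ A0, cj b V3 = V3 := fun b hb => by
    rw [← hswap a' (haT a' ha') ha'n, cj_cj, elem_comm hAe (mem_inf.1 hb).1 ha', ← cj_cj,
      cj_eq_self (mem_inf.1 hb).2]
  set B := A0 ⊓ centralizer (V2 : Set G) with hB
  have hBA : B ≤ A := inf_le_left.trans inf_le_left
  have hB3 : ∀ b ∈ B, ∀ u ∈ V3, b * u = u * b := by
    intro b hb u hu
    rw [← hswap a' (haT a' ha') ha'n] at hu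
    obtain ⟨w, hw, rfl⟩ := hu
    have h1 : Commute b w := (mem_centralizer_iff.1 (mem_inf.1 hb).2 w hw).symm
    have h2 : Commute b a' := elem_comm hAe (hBA hb) ha'
    exact ((h2.mul_right h1).mul_right h2.inv_right).eq
  set V23 := V2 ⊔ V3 with hV23
  have hV23U : V23 ≤ U := sup_le hV2U hV3U
  have hV23n : V3 ≤ normalizer (V2 : Set G) := fun u hu => centralizer_le_normalizer _
    (mem_centralizer_iff.2 fun w hw => elem_comm hUe (hV2U hw) (hV3U hu))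
  have hBV : ∀ b ∈ B, ∀ u ∈ V23, b * u = u * b := by
    intro b hb u hu
    obtain ⟨p, hp, q, hq, rfl⟩ := (Cfsg.Lib.Coprime.mem_sup_of_le_normalizer hV23n).1 hu
    exact ((show Commute b p from (mem_centralizer_iff.1 (mem_inf.1 hb).2 p hp).symm).mul_right
      (show Commute b q from hB3 b hb q hq)).eq
  have hVV : Nat.card V * Nat.card V ≤ Nat.card V23 := by
    have h1 := Cfsg.Lib.ElemToolkit.mul_card_le V2 V3
    rw [h23, card_bot, mul_one, hV2, hV3, card_cj, card_cj] at h1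
    exact h1
  have hBV23 : Nat.card B * Nat.card V23 ≤ Nat.card A * Nat.card ↥(B ⊓ V23) :=
    (Cfsg.Lib.ElemToolkit.mul_card_le B V23).trans (Nat.mul_le_mul_right _
      (hA.2.2 _ (sup_le (hBA.trans hA.1) (hV23U.trans hUT))
        (Cfsg.Lib.ElemToolkit.elementary_sup (Cfsg.Lib.ElemToolkit.elementary_mono hBA hAe)
          (Cfsg.Lib.ElemToolkit.elementary_mono hV23U hUe) hBV)))
  set C2 := V2 ⊓ centralizer (A0 : Set G) with hC2
  have hCle : Nat.card ↥(B ⊓ V23) ≤ Nat.card C2 := by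
    have hdec : ∀ c : ↥(B ⊓ V23), ∃ p ∈ C2, (c : G) = p * (a' * p * a'⁻¹) := by
      rintro ⟨c, hc⟩
      obtain ⟨hcB, hcV⟩ := mem_inf.1 hc
      obtain ⟨p, hp, q, hq, rfl⟩ := (Cfsg.Lib.Coprime.mem_sup_of_le_normalizer hV23n).1 hcV
      have hcA : ∀ b ∈ A, b * (p * q) * b⁻¹ = p * q := fun b hb => by
        rw [elem_comm hAe hb (hBA hcB), mul_inv_cancel_right]
      have hunique : ∀ p' ∈ V2, ∀ q' ∈ V3, p' * q' = p * q → p' = p ∧ q' = q := by
        intro p' hp' q' hq' he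
        have e : p⁻¹ * p' = q * q'⁻¹ := by
          calc p⁻¹ * p' = p⁻¹ * (p' * q') * q'⁻¹ := by group
            _ = _ := by rw [he]; group
        have h1 : p⁻¹ * p' = 1 := mem_bot.1 (h23 ▸ mem_inf.2 ⟨mul_mem (inv_mem hp) hp',
          e ▸ mul_mem hq (inv_mem hq')⟩)
        have hpp : p = p' := inv_mul_eq_one.1 h1
        exact ⟨hpp.symm, by rw [hpp] at he; exact mul_left_cancel he⟩
      refine ⟨p, mem_inf.2 ⟨hp, mem_centralizer_iff.2 fun b hb => ?_⟩, ?_⟩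
      · have h1 := hunique (b * p * b⁻¹) (conj_mem (mem_inf.1 hb).2 hp) (b * q * b⁻¹)
          (hA03 b hb ▸ conj_mem_cj hq) (by rw [← hcA b (mem_inf.1 hb).1]; group)
        exact mul_inv_eq_iff_eq_mul.1 h1.1
      · have hq' : a' * q * a'⁻¹ ∈ V2 := hswap' a' ha' ha'n ▸ conj_mem_cj hq
        have hp' : a' * p * a'⁻¹ ∈ V3 := hswap a' (haT a' ha') ha'n ▸ conj_mem_cj hp
        have h1 := hunique _ hq' _ hp' (by
          rw [elem_comm hUe (hV2U hq') (hV3U hp'), ← hcA a' ha']; group)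
        show p * q = p * (a' * p * a'⁻¹)
        rw [h1.2]
    choose f hfC hf using hdec
    refine Nat.card_le_card_of_injective (fun c => (⟨f c, hfC c⟩ : C2)) fun c c' he => Subtype.ext ?_
    rw [hf c, hf c', show f c = f c' from congrArg Subtype.val he]
  have hA0L : cj x⁻¹ A0 ≤ L := le_trans (le_of_le_of_eq (map_mono inf_le_right)
    (show cj x⁻¹ (normalizer (V2 : Set G)) = normalizer (V : Set G) by rw [hV2, normalizer_cj, cj_inv_cj])) hNVL
  have hoff := h.off_bound hA0L (elem_cj (Cfsg.Lib.ElemToolkit.elementary_mono inf_le_left hAe) _)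
  have hC2le : Nat.card C2 ≤ Nat.card ↥(V ⊓ centralizer (cj x⁻¹ A0 : Set G)) := by
    rw [← card_cj x⁻¹ C2]
    refine Cfsg.Lib.ElemToolkit.card_le_card_of_le ?_
    rintro _ ⟨c, hc, rfl⟩
    obtain ⟨hc2, hcA⟩ := mem_inf.1 hc
    refine mem_inf.2 ⟨(cj_inv_cj x V).le (conj_mem_cj hc2), mem_centralizer_iff.2 ?_⟩
    rintro _ ⟨b, hb, rfl⟩
    show MulAut.conj x⁻¹ b * MulAut.conj x⁻¹ c = MulAut.conj x⁻¹ c * MulAut.conj x⁻¹ b
    rw [← map_mul, ← map_mul, mem_centralizer_iff.1 hcA b hb]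
  have hXB : Nat.card ↥(cj x⁻¹ A0 ⊓ centralizer (V : Set G)) ≤ Nat.card B := by
    rw [← card_cj x⁻¹ B]
    refine Cfsg.Lib.ElemToolkit.card_le_card_of_le ?_
    intro y hy
    obtain ⟨⟨b, hb, rfl⟩, hyc⟩ := mem_inf.1 hy
    refine ⟨b, mem_inf.2 ⟨hb, mem_centralizer_iff.2 ?_⟩, rfl⟩
    rintro _ ⟨v, hv, rfl⟩
    have h1 : v * (x⁻¹ * b * x⁻¹⁻¹) = x⁻¹ * b * x⁻¹⁻¹ * v := mem_centralizer_iff.1 hyc v hv
    show x * v * x⁻¹ * b = b * (x * v * x⁻¹)
    calc x * v * x⁻¹ * b = x * (v * (x⁻¹ * b * x⁻¹⁻¹)) * x⁻¹ := by group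
      _ = x * (x⁻¹ * b * x⁻¹⁻¹ * v) * x⁻¹ := by rw [h1]
      _ = _ := by group
  rw [card_cj] at hoff
  have hfin : Nat.card B * (Nat.card V * Nat.card V) ≤ Nat.card B * (2 * Nat.card V) := by
    calc Nat.card B * (Nat.card V * Nat.card V) ≤ Nat.card B * Nat.card V23 := Nat.mul_le_mul_left _ hVV
      _ ≤ Nat.card A * Nat.card ↥(B ⊓ V23) := hBV23
      _ ≤ (2 * Nat.card A0) * Nat.card C2 := Nat.mul_le_mul hidx hCle
      _ ≤ 2 * (Nat.card A0 * Nat.card ↥(V ⊓ centralizer (cj x⁻¹ A0 : Set G))) := by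
        rw [mul_assoc]; exact Nat.mul_le_mul_left _ (Nat.mul_le_mul_left _ hC2le)
      _ ≤ 2 * (Nat.card V * Nat.card ↥(cj x⁻¹ A0 ⊓ centralizer (V : Set G))) := Nat.mul_le_mul_left _ hoff
      _ ≤ 2 * (Nat.card V * Nat.card B) := Nat.mul_le_mul_left _ (Nat.mul_le_mul_left _ hXB)
      _ = _ := by ring
  have h9 := Nat.le_of_mul_le_mul_left hfin Nat.card_pos
  have h10 : 3 * Nat.card V ≤ Nat.card V * Nat.card V := Nat.mul_le_mul_right _ h3
  omega

/-- A largest straddling subgroup cannot sit next to a large `V`. -/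
theorem no_straddle {T L T' L' : Subgroup G} (hLmax : Cfsg.IsMaximalTwoLocal L) (h : Setting T L) (hT1 : T ≠ ⊥)
    (hloc : ∀ H : Subgroup G, Cfsg.IsTwoLocal H → Jof T ≤ H → H ≤ L) (h16 : 16 ≤ Nat.card (Vm L))
    (h' : Setting T' L') (hT'L : T' ≤ L)
    (hstr : ∀ H : Subgroup G, Cfsg.IsTwoLocal H → ¬ H ≤ L → T' ≤ H → Pc H ≤ T')
    {x a : G} (ha : Atom T' L' x a) (hxL : x ∉ L) (hTX : T' ≤ normalizer (Atom.X0 L' x : Set G))
    {z : G} (hzV : z ∈ Vm L) (hz1 : z ≠ 1) (hzP : z ∈ Pc L') : False := by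
  set V := Vm L with hV
  set X := Atom.X0 L' x with hX
  have hVe : Cfsg.IsElementaryAbelian 2 V := elem_omegaCenterOf _
  have hPL : Pc L' ≤ L := h'.P_le_T.trans hT'L
  -- conjugates of `V` under `X` commute with `V`
  have hpair : ∀ k ∈ X, ∀ v ∈ V, ∀ w ∈ V, v * (k * w * k⁻¹) = k * w * k⁻¹ * v := by
    intro k hk v hv w hw
    by_cases hkL : k ∈ L
    · exact elem_comm hVe hv (conj_mem (h.V_norm hkL) hw)
    refine h.pair hloc hT1 h16 hkL (fun e => ?_) v hv _ (conj_mem_cj hw)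
    have hm : k * z * k⁻¹ ∈ cj k V ⊓ L :=
      mem_inf.2 ⟨conj_mem_cj hzV, hPL (conj_mem (h'.P_norm (ha.X0_le hk)) hzP)⟩
    rw [e, mem_bot] at hm
    exact hz1 (by
      calc z = k⁻¹ * (k * z * k⁻¹) * k := by group
        _ = 1 := by rw [hm]; group)
  exact no_straddle_core hLmax h (fun g v hv hv1 hgv => h.ti hloc hT1 hv hv1 hgv) (le_trans (by norm_num) h16) h' hT'L hstr ha hxL
    hTX hpair hzV hz1

end Cfsg.Lib.JComp
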