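import Cfsg.Agent.JComp.Local
import Cfsg.Agent.TwoFusion.TransferApps

/-!
Two maximal 2-local subgroups of shape `S₄` or `S₄ × 2` with a common Sylow 2-subgroup `T`, seen inside the
subgroup generated by the elements of odd order.
-/

set_option autoImplicit false
set_option linter.unusedSectionVars false
set_option linter.style.haveILetI false

namespace Cfsg.Lib.JComp

open Subgroup
open scoped commutatorElement Pointwise

universe u

variable {G : Type u} [Group G] [Finite G]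

/-- The subgroup generated by the elements of odd order. -/
abbrev oddClosure (G : Type u) [Group G] : Subgroup G := closure {g : G | Odd (orderOf g)}

/-- A transfer to an abelian section of a Sylow 2-subgroup. -/
theorem notMem_oddClosure (S : Sylow 2 G) (K : Subgroup G) (hKn : (K.subgroupOf (S : Subgroup G)).Normal)
    (hab : ∀ a ∈ (S : Subgroup G), ∀ b ∈ (S : Subgroup G), a * b * a⁻¹ * b⁻¹ ∈ K) {g : G}
    (hg : g ∈ (S : Subgroup G)) (hgK : g ∉ K) (hg2 : g * g = 1)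
    (hctrl : ∀ a : G, a * g * a⁻¹ ∈ (S : Subgroup G) → a * g * a⁻¹ * g⁻¹ ∈ K) : g ∉ oddClosure G := by
  haveI : Fact (Nat.Prime 2) := ⟨Nat.prime_two⟩
  haveI := hKn
  set H := (S : Subgroup G)
  set π := QuotientGroup.mk' (K.subgroupOf H)
  letI : CommGroup (H ⧸ K.subgroupOf H) :=
    { (inferInstance : Group (H ⧸ K.subgroupOf H)) with
      mul_comm := fun a b => by
        obtain ⟨x, rfl⟩ := QuotientGroup.mk'_surjective _ a
        obtain ⟨y, rfl⟩ := QuotientGroup.mk'_surjective _ b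
        have h : x * y * x⁻¹ * y⁻¹ ∈ K.subgroupOf H := hab x x.2 y y.2
        rw [← QuotientGroup.ker_mk' (K.subgroupOf H), MonoidHom.mem_ker, map_mul, map_mul, map_mul,
          map_inv, map_inv, mul_inv_eq_one, mul_inv_eq_iff_eq_mul] at h
        exact h }
  have hτ := Cfsg.Lib.TwoFusion.transfer_eq_pow_of_image π ⟨g, hg⟩ fun k a h => by
    rw [← mul_inv_eq_one, ← map_inv, ← map_mul, ← MonoidHom.mem_ker, QuotientGroup.ker_mk', mem_subgroupOf]
    change a⁻¹ * g ^ k * a * (g ^ k)⁻¹ ∈ K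
    rcases Nat.even_or_odd k with ⟨j, hj⟩ | ⟨j, hj⟩
    · have e : g ^ k = 1 := by rw [hj, pow_add, ← (Commute.refl g).mul_pow, hg2, one_pow]
      simp [e]
    · have e : g ^ k = g := by rw [hj, pow_succ, two_mul, pow_add, ← (Commute.refl g).mul_pow, hg2, one_pow, one_mul]
      change a⁻¹ * g ^ k * a ∈ H at h
      rw [e] at h ⊢
      have := hctrl a⁻¹ (by rwa [inv_inv])
      rwa [inv_inv] at this
  intro hgO
  have hker : oddClosure G ≤ (MonoidHom.transfer π).ker := by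
    refine (closure_le _).2 fun y hy => MonoidHom.mem_ker.2 ?_
    obtain ⟨j, hj⟩ := (S.isPGroup'.to_quotient (K.subgroupOf H)) (MonoidHom.transfer π y)
    exact orderOf_eq_one_iff.1 (Nat.eq_one_of_dvd_coprimes (hy.coprime_two_right.pow_right j)
      (orderOf_map_dvd _ y) (orderOf_dvd_of_pow_eq_one hj))
  rw [show MonoidHom.transfer π g = 1 from MonoidHom.mem_ker.1 (hker hgO)] at hτ
  have hne : π ⟨g, hg⟩ ≠ 1 := fun e => hgK (mem_subgroupOf.1 ((QuotientGroup.eq_one_iff _).1 e))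
  have h2 : orderOf (π ⟨g, hg⟩) = 2 := orderOf_eq_prime (by
    rw [← map_pow, show (⟨g, hg⟩ : H) ^ 2 = 1 from Subtype.ext (by simpa [pow_two] using hg2), map_one]) hne
  exact S.not_dvd_index (h2.symm.dvd.trans (orderOf_dvd_of_pow_eq_one hτ.symm))

theorem two_elements {A : Subgroup G} (h : Nat.card A = 2) {a b : G} (ha : a ∈ A) (hb : b ∈ A) (ha1 : a ≠ 1)
    (hb1 : b ≠ 1) : a = b := by
  by_contra hne
  classical
  letI := Fintype.ofFinite A
  have hs : ({⟨1, one_mem A⟩, ⟨a, ha⟩, ⟨b, hb⟩} : Finset A).card = 3 := by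
    simp [Subtype.ext_iff, Ne.symm ha1, Ne.symm hb1, hne]
  have := Finset.card_le_univ ({⟨1, one_mem A⟩, ⟨a, ha⟩, ⟨b, hb⟩} : Finset A)
  rw [hs, ← Nat.card_eq_fintype_card, h] at this
  omega

theorem normalizer_subgroupOf_map {H : Subgroup G} (U : Subgroup H) :
    normalizer (U : Set H) = (normalizer ((U.map H.subtype : Subgroup G) : Set G)).subgroupOf H := by
  ext h
  rw [mem_subgroupOf]
  refine ⟨fun hh => mem_normalizer_of_cj_le ?_, fun hh => mem_normalizer_of_cj_le ?_⟩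
  · rintro _ ⟨_, ⟨v, hv, rfl⟩, rfl⟩
    exact ⟨h * v * h⁻¹, conj_mem hh hv, rfl⟩
  · rintro _ ⟨v, hv, rfl⟩
    obtain ⟨w, hw, he⟩ := conj_mem hh (show (v : G) ∈ U.map H.subtype from ⟨v, hv, rfl⟩)
    have he' : w = h * v * h⁻¹ := Subtype.ext he
    show h * v * h⁻¹ ∈ U
    rw [← he']
    exact hw

namespace Frame

variable {T L : Subgroup G} {x : G} {W : Subgroup G}

theorem QT (f : Frame T L x W) : Pc L ≤ T :=
  sylowIn_normal_le f.syl (isPGroup_pCoreOf L) (pCoreOf_le L) (le_normalizer_pCoreOf L)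

theorem We (f : Frame T L x W) : Cfsg.IsElementaryAbelian 2 W := elem_of_sq fun _ hw => elem_sq f.elem (f.WQ hw)

theorem W_ne (f : Frame T L x W) : W ≠ ⊥ := fun e => by
  have := f.W4
  rw [e, card_bot] at this
  omega

theorem Q_ne (f : Frame T L x W) : Pc L ≠ ⊥ := fun e => f.W_ne (eq_bot_iff.2 (f.WQ.trans e.le))

theorem x_odd (f : Frame T L x W) : Odd (orderOf x) :=
  Odd.of_dvd_nat (by decide : Odd 3) (orderOf_dvd_of_pow_eq_one f.x3)

theorem x_notT (f : Frame T L x W) : x ∉ T := fun h => by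
  have hx := eq_one_of_odd f.syl.2.1 h f.x_odd
  refine f.W_ne (eq_bot_iff.2 fun w hw => mem_bot.2 (f.fix_one w hw ?_))
  rw [hx]; group

theorem gen (f : Frame T L x W) {M : Subgroup G} (hT : T ≤ M) (hx : x ∈ M) : L ≤ M := by
  have h := relIndex_mul_relIndex T (L ⊓ M) L (le_inf f.syl.1 hT) inf_le_left
  rw [f.idx] at h
  rcases (Nat.dvd_prime Nat.prime_three).1 (Dvd.intro _ h) with e | e
  · exact absurd (relIndex_eq_one.1 e (mem_inf.2 ⟨f.xL, hx⟩)) f.x_notT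
  · rw [e] at h
    exact (relIndex_eq_one.1 (by omega : (L ⊓ M).relIndex L = 1)).trans inf_le_right

theorem mul_core (f : Frame T L x W) {a b : G} (ha : a ∈ T) (hb : b ∈ T) (ha' : a ∉ Pc L) (hb' : b ∉ Pc L) :
    a * b ∈ Pc L := by
  have h := Subgroup.mul_mem_iff_of_index_two (H := (Pc L).subgroupOf T) f.two (a := ⟨a, ha⟩) (b := ⟨b, hb⟩)
  simp only [mem_subgroupOf] at h
  exact h.2 (iff_of_false ha' hb')

theorem orbit (f : Frame T L x W) {u v : G} (hu : u ∈ W) (hu1 : u ≠ 1) (hv : v ∈ W) (hv1 : v ≠ 1) :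
    v = u ∨ v = x * u * x⁻¹ ∨ v = x * (x * u * x⁻¹) * x⁻¹ := by
  have hxn := f.Wn f.xL
  have hu2 := conj_mem hxn hu
  have hu3 := conj_mem hxn hu2
  have hne : u ≠ x * u * x⁻¹ := fun e => hu1 (f.fix_one u hu e.symm)
  have hx2 : x * u * x⁻¹ ≠ 1 := fun e => hu1 (by
    calc u = x⁻¹ * (x * u * x⁻¹) * x := by group
      _ = 1 := by rw [e]; group)
  have hne3 : x * (x * u * x⁻¹) * x⁻¹ ≠ x * u * x⁻¹ := fun e => hne (by
    calc u = x⁻¹ * (x * u * x⁻¹) * x := by group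
      _ = x⁻¹ * (x * (x * u * x⁻¹) * x⁻¹) * x := by rw [e]
      _ = _ := by group)
  have hne4 : x * (x * u * x⁻¹) * x⁻¹ ≠ u := fun e => hne (by
    calc u = x ^ 3 * u * (x ^ 3)⁻¹ := by rw [f.x3]; group
      _ = x * (x * (x * u * x⁻¹) * x⁻¹) * x⁻¹ := by simp only [pow_succ, pow_zero, one_mul]; group
      _ = _ := by rw [e])
  have hx31 : x * (x * u * x⁻¹) * x⁻¹ ≠ 1 := fun e => hx2 (by
    calc x * u * x⁻¹ = x⁻¹ * (x * (x * u * x⁻¹) * x⁻¹) * x := by group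
      _ = 1 := by rw [e]; group)
  rcases four_cases f.We f.W4 hu hu2 hu1 hx2 hne hv with e | e | e | e
  · exact absurd e hv1
  · exact Or.inl e
  · exact Or.inr (Or.inl e)
  · refine Or.inr (Or.inr ?_)
    rcases four_cases f.We f.W4 hu hu2 hu1 hx2 hne hu3 with e' | e' | e' | e'
    · exact absurd e' hx31
    · exact absurd e' hne4
    · exact absurd e' hne3
    · rw [e, e']

theorem conj_in_W (f : Frame T L x W) {u v : G} (hu : u ∈ W) (hu1 : u ≠ 1) (hv : v ∈ W) (hv1 : v ≠ 1) :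
    ∃ k : G, k * u * k⁻¹ = v := by
  rcases f.orbit hu hu1 hv hv1 with e | e | e
  · exact ⟨1, by rw [e]; group⟩
  · exact ⟨x, e.symm⟩
  · exact ⟨x * x, by rw [e]; group⟩

theorem x_oddClosure (f : Frame T L x W) : x ∈ oddClosure G := subset_closure f.x_odd

theorem W_oddClosure (f : Frame T L x W) : W ≤ oddClosure G := fun w hw => by
  obtain ⟨v, hv, rfl⟩ := f.is_comm w hw
  have hvi : v⁻¹ = v := elem_inv f.elem hv
  rw [show x * v * x⁻¹ * v = x * (v * x⁻¹ * v⁻¹) by rw [hvi]; group]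
  refine mul_mem f.x_oddClosure (subset_closure (Odd.of_dvd_nat (by decide : Odd 3) (orderOf_dvd_of_pow_eq_one ?_)))
  rw [conj_pow, inv_pow, f.x3]; group

theorem local_eq (f : Frame T L x W) {H : Subgroup G} (hH : Cfsg.IsTwoLocal H) (hle : L ≤ H) : H = L :=
  f.max.2 H hH hle

theorem normalizer_W (f : Frame T L x W) : normalizer (W : Set G) = L :=
  f.local_eq ⟨W, elem_isPGroup f.We, f.W_ne, rfl⟩ f.Wn

theorem normalizer_Q (f : Frame T L x W) : normalizer (Pc L : Set G) = L :=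
  f.local_eq ⟨_, isPGroup_pCoreOf L, f.Q_ne, rfl⟩ (le_normalizer_pCoreOf L)

theorem cen_fixed (f : Frame T L x W) {c : G} (hc : c ∈ Pc L) (hxc : x * c * x⁻¹ = c) (hc1 : c ≠ 1) :
    centralizer ({c} : Set G) = L := by
  have hle : L ≤ centralizer ({c} : Set G) := fun l hl =>
    mem_centralizer_singleton_iff.2 (mul_inv_eq_iff_eq_mul.1 (f.fixed l hl c hc hxc))
  refine le_antisymm ?_ hle
  exact (centralizer_le_normalizer_zpowers c).trans
    (f.local_eq (local_zpowers (elem_sq f.elem hc) hc1) (hle.trans (centralizer_le_normalizer_zpowers c))).le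

theorem W_eq (f : Frame T L x W) : W = ⁅Pc L, L⁆ := by
  refine le_antisymm (fun w hw => ?_) (commutator_le.2 fun v hv l hl => ?_)
  · obtain ⟨v, hv, rfl⟩ := f.is_comm w hw
    have h := commutator_mem_commutator (H₁ := L) (H₂ := Pc L) f.xL hv
    rw [commutatorElement_def, elem_inv f.elem hv, Subgroup.commutator_comm] at h
    exact h
  · obtain ⟨c, hc, r, hr, hxc, rfl⟩ := f.split v hv
    rw [commutatorElement_def]
    have hlr : l * r⁻¹ * l⁻¹ ∈ W := conj_mem (f.Wn hl) (inv_mem hr)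
    have hlc : l * c⁻¹ * l⁻¹ = c⁻¹ := by rw [← conj_inv, f.fixed l hl c hc hxc]
    have e : c * r * l * (c * r)⁻¹ * l⁻¹ = c * (r * (l * r⁻¹ * l⁻¹)) * (l * c⁻¹ * l⁻¹) := by group
    rw [e, hlc, elem_comm f.elem hc (f.WQ (W.mul_mem hr hlr)), mul_inv_cancel_right]
    exact W.mul_mem hr hlr

/-- `W` is not central in `T`. -/
theorem exists_moved (f : Frame T L x W) : ∃ w ∈ W, w ∉ Cfsg.omegaCenterOf T := by
  by_contra hno
  push Not at hno
  have := f.center_two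
  rw [inf_eq_right.2 hno, f.W4] at this
  omega

/-- The unique maximal 2-local subgroup of the odd closure above the trace of `L`. -/
theorem maximal_trace (f : Frame T L x W) {H T' : Subgroup G} (hWH : W ≤ H) (hxH : x ∈ H) (hT'T : T' ≤ T)
    (hs : Cfsg.IsSylowTwoIn T' (L ⊓ H)) (hQT' : Pc L ⊓ T' ≤ W) :
    Cfsg.IsMaximalTwoLocal ((L ⊓ H).subgroupOf H) := by
  have hA : ∀ A : Subgroup G, IsPGroup 2 A → A ≤ L ⊓ H → L ⊓ H ≤ normalizer (A : Set G) → A ≤ W := by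
    intro A hA hAle hn a ha
    have hAT := sylowIn_normal_le hs hA hAle hn
    by_cases haQ : a ∈ Pc L
    · exact hQT' (mem_inf.2 ⟨haQ, hAT ha⟩)
    exfalso
    have hxa : x * a * x⁻¹ ∈ T := hT'T (hAT (conj_mem (hn (mem_inf.2 ⟨f.xL, hxH⟩)) ha))
    have hxn : x ∈ normalizer (T : Set G) := mem_normalizer_of_cj_le (by
      rintro _ ⟨t, ht, rfl⟩
      show x * t * x⁻¹ ∈ T
      by_cases htQ : t ∈ Pc L
      · exact f.QT (conj_mem (le_normalizer_pCoreOf L f.xL) htQ)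
      · have h1 := f.QT (conj_mem (le_normalizer_pCoreOf L f.xL) (f.mul_core ht (hT'T (hAT ha)) htQ haQ))
        have h2 := T.mul_mem h1 (T.inv_mem hxa)
        rwa [show x * (t * a) * x⁻¹ * (x * a * x⁻¹)⁻¹ = x * t * x⁻¹ by group] at h2)
    exact haQ (le_pCoreOf f.syl.2.1 f.syl.1 (f.gen le_normalizer hxn) (hT'T (hAT ha)))
  have hWinf : W ≤ L ⊓ H := le_inf (f.WQ.trans (pCoreOf_le L)) hWH
  have hWmap : (W.subgroupOf H).map H.subtype = W := map_subgroupOf_eq_of_le hWH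
  have heq : (L ⊓ H).subgroupOf H = normalizer ((W.subgroupOf H : Subgroup H) : Set H) := by
    rw [normalizer_subgroupOf_map, hWmap, f.normalizer_W, inf_subgroupOf_right]
  refine ⟨⟨W.subgroupOf H, (elem_isPGroup f.We).of_equiv (subgroupOfEquivOfLe hWH).symm, fun e => f.W_ne ?_, heq⟩,
    fun N hN hle => le_antisymm ?_ hle⟩
  · rw [← hWmap, e, Subgroup.map_bot]
  obtain ⟨U', hU', hU1', rfl⟩ := hN
  set U := U'.map H.subtype with hU
  have hUH : U ≤ H := map_subtype_le _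
  have hU2 : IsPGroup 2 U := hU'.map _
  have hnU : L ⊓ H ≤ normalizer (U : Set G) := fun g hg => by
    have h1 := hle (mem_subgroupOf.2 hg : (⟨g, (mem_inf.1 hg).2⟩ : H) ∈ (L ⊓ H).subgroupOf H)
    rw [normalizer_subgroupOf_map, mem_subgroupOf] at h1
    exact h1
  have hUL : U ⊓ L ≤ W := hA _ (hU2.to_le inf_le_left) (le_inf inf_le_right (inf_le_left.trans hUH))
    (Cfsg.Lib.Coprime.le_normalizer_inf hnU (inf_le_left.trans le_normalizer))
  have hWU : W ≤ normalizer (U : Set G) := hWinf.trans hnU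
  have hUW : U ≤ W := by
    by_contra hnot
    obtain ⟨k, hk, hkn, hkW⟩ := exists_normalizing (hU2.to_sup_of_normal_left' (elem_isPGroup f.We) hWU)
      (le_sup_right : W ≤ U ⊔ W) fun e => hnot (le_sup_left.trans e.ge)
    have hkL : k ∈ L := f.normalizer_W ▸ hkn
    obtain ⟨u, hu, w, hw, rfl⟩ := (Cfsg.Lib.Coprime.mem_sup_of_le_normalizer hWU).1 hk
    have hu' : u ∈ L := by
      have := L.mul_mem hkL (L.inv_mem ((mem_inf.1 (hWinf hw)).1))
      rwa [mul_inv_cancel_right] at this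
    exact hkW (W.mul_mem (hUL (mem_inf.2 ⟨hu, hu'⟩)) hw)
  have hWeq : U = W := by
    refine le_antisymm hUW fun v hv => ?_
    by_cases hv1 : v = 1
    · rw [hv1]; exact U.one_mem
    have hU1 : U ≠ ⊥ := fun e => hU1' ((map_eq_bot_iff_of_injective _ H.subtype_injective).1 e)
    obtain ⟨u, hu, hu1⟩ := (bot_or_exists_ne_one U).resolve_left hU1
    have hxn := hnU (mem_inf.2 ⟨f.xL, hxH⟩)
    rcases f.orbit (hUW hu) hu1 hv hv1 with e | e | e <;> rw [e]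
    · exact hu
    · exact conj_mem hxn hu
    · exact conj_mem hxn (conj_mem hxn hu)
  rw [normalizer_subgroupOf_map, ← hU, hWeq, f.normalizer_W, inf_subgroupOf_right]

/-- A subgroup missing the central involution of `L` cuts out an `S₄`. -/
theorem trace_iso (f : Frame T L x W) (e : L ≃* Multiplicative (ZMod 2) × Equiv.Perm (Fin 4)) {H T' : Subgroup G}
    {c : G} (hc : ∀ m ∈ Pc L, x * m * x⁻¹ = m → m = 1 ∨ m = c) (hcH : c ∉ H) (hxH : x ∈ H) (hT'H : T' ≤ H)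
    (hT'T : T' ≤ T) (h8 : Nat.card T' = 8) :
    Nonempty (↥(L ⊓ H : Subgroup G) ≃* Equiv.Perm (Fin 4)) ∧ Cfsg.IsSylowTwoIn T' (L ⊓ H) := by
  set M := L ⊓ H
  have hxM : x ∈ M := mem_inf.2 ⟨f.xL, hxH⟩
  have hT'M : T' ≤ M := le_inf (hT'T.trans f.syl.1) hT'H
  let φ : M →* Equiv.Perm (Fin 4) :=
    ((MonoidHom.snd _ _).comp e.toMonoidHom).comp (Subgroup.inclusion inf_le_left)
  have hinj : Function.Injective φ := by
    refine (injective_iff_map_eq_one φ).2 fun m hm => Subtype.ext ?_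
    obtain ⟨hmL, hmH⟩ := mem_inf.1 m.2
    set p : L := ⟨m, hmL⟩
    have hp : (e p).2 = 1 := hm
    have hcen : ∀ q : L, p * q = q * p := fun q => e.injective (by
      rw [map_mul, map_mul]
      refine Prod.ext (mul_comm _ _) ?_
      rw [Prod.snd_mul, Prod.snd_mul, hp, one_mul, mul_one])
    have hmQ : (m : G) ∈ Pc L := f.cen (mem_centralizer_iff.2 fun q hq =>
      (congrArg Subtype.val (hcen ⟨q, pCoreOf_le L hq⟩)).symm)
    have hxm : x * m * x⁻¹ = m := mul_inv_eq_iff_eq_mul.2 (congrArg Subtype.val (hcen ⟨x, f.xL⟩)).symm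
    exact (hc _ hmQ hxm).resolve_right fun h => hcH (h ▸ hmH)
  have hle : Nat.card M ≤ 24 := (Nat.card_le_card_of_injective φ hinj).trans
    (by rw [Nat.card_perm, Nat.card_fin]; rfl)
  have hd8 : 8 ∣ Nat.card M := h8 ▸ card_dvd_of_le hT'M
  have hx1 : x ≠ 1 := fun h => f.x_notT (h ▸ T.one_mem)
  haveI : Fact (Nat.Prime 3) := ⟨Nat.prime_three⟩
  have hd3 : 3 ∣ Nat.card M := by
    rw [← orderOf_eq_prime f.x3 hx1]
    exact Subgroup.orderOf_dvd_natCard _ hxM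
  have h24 : Nat.card M = 24 := le_antisymm hle
    (Nat.le_of_dvd Nat.card_pos (Nat.Coprime.mul_dvd_of_dvd_of_dvd (by decide : Nat.Coprime 8 3) hd8 hd3))
  refine ⟨⟨MulEquiv.ofBijective φ ((Nat.bijective_iff_injective_and_card φ).2
    ⟨hinj, by rw [h24, Nat.card_perm, Nat.card_fin]; rfl⟩)⟩, hT'M, f.syl.2.1.to_le hT'T, ?_⟩
  have h := relIndex_mul_relIndex (⊥ : Subgroup G) T' M bot_le hT'M
  rw [relIndex_bot_left, relIndex_bot_left, h8, h24] at h
  rw [show T'.relIndex M = 3 by omega]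
  decide

end Frame

section Two

variable {T L₁ L₂ : Subgroup G} {x₁ x₂ : G} {W₁ W₂ : Subgroup G}

theorem frames_inf (f₁ : Frame T L₁ x₁ W₁) (f₂ : Frame T L₂ x₂ W₂) (hne : L₁ ≠ L₂) : L₁ ⊓ L₂ = T := by
  refine le_antisymm ?_ (le_inf f₁.syl.1 f₂.syl.1)
  have h := relIndex_mul_relIndex T (L₁ ⊓ L₂) L₁ (le_inf f₁.syl.1 f₂.syl.1) inf_le_left
  rw [f₁.idx] at h
  rcases (Nat.dvd_prime Nat.prime_three).1 (Dvd.intro _ h) with e | e
  · exact relIndex_eq_one.1 e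
  · exfalso
    rw [e] at h
    exact hne (f₁.local_eq f₂.max.1 ((relIndex_eq_one.1 (by omega : (L₁ ⊓ L₂).relIndex L₁ = 1)).trans
      inf_le_right)).symm

/-- The elements `e`, `u₁`, `u₂` describing `T`. -/
theorem pair_basic (f₁ : Frame T L₁ x₁ W₁) (f₂ : Frame T L₂ x₂ W₂) (hne : L₁ ≠ L₂) :
    ∃ e u₁ u₂ : G, e ≠ 1 ∧ (e ∈ W₁ ∧ e ∈ W₂) ∧ (u₁ ∈ W₁ ∧ u₁ ∉ Pc L₂) ∧ (u₂ ∈ W₂ ∧ u₂ ∉ Pc L₁) ∧
      Cfsg.omegaCenterOf T = Pc L₁ ⊓ Pc L₂ ∧
      u₁ * u₂ * (u₁ * u₂) = e ∧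
      (∀ t ∈ T, t * t = 1 ∨ t * t = e) ∧
      (∀ a ∈ T, ∀ b ∈ T, a * b * a⁻¹ * b⁻¹ = 1 ∨ a * b * a⁻¹ * b⁻¹ = e) ∧
      (∀ t ∈ T, t * t = 1 → t ∈ Pc L₁ ∨ t ∈ Pc L₂) ∧
      (∀ q ∈ Pc L₁, q ∈ Pc L₂ ∨ q * u₁ ∈ Pc L₂) ∧
      ∀ n ∈ normalizer (T : Set G), n * e * n⁻¹ = e := by
  have hQne : Pc L₁ ≠ Pc L₂ := fun e => hne (by rw [← f₁.normalizer_Q, e, f₂.normalizer_Q])
  have hQ12 : ¬ Pc L₁ ≤ Pc L₂ ∧ ¬ Pc L₂ ≤ Pc L₁ := by
    have hc : Nat.card (Pc L₁) = Nat.card (Pc L₂) := by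
      have h1 := relIndex_mul_relIndex (⊥ : Subgroup G) (Pc L₁) T bot_le f₁.QT
      have h2 := relIndex_mul_relIndex (⊥ : Subgroup G) (Pc L₂) T bot_le f₂.QT
      rw [relIndex_bot_left, relIndex_bot_left, f₁.two] at h1
      rw [relIndex_bot_left, relIndex_bot_left, f₂.two] at h2
      omega
    exact ⟨fun h => hQne (eq_of_le_of_card_ge h hc.ge), fun h => hQne (eq_of_le_of_card_ge h hc.le).symm⟩
  obtain ⟨b, hb, hb'⟩ := SetLike.not_le_iff_exists.1 hQ12.2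
  have hcentral : ∀ z ∈ Pc L₁, z ∈ Pc L₂ → ∀ t ∈ T, t * z = z * t := by
    intro z hz1 hz2 t ht
    by_cases htQ : t ∈ Pc L₁
    · exact elem_comm f₁.elem htQ hz1
    · have h1 : Commute (t * b) z := elem_comm f₁.elem (f₁.mul_core ht (f₂.QT hb) htQ hb') hz1
      have h2 : Commute b z := elem_comm f₂.elem hb hz2
      have := h1.mul_left h2.inv_left
      rwa [mul_inv_cancel_right] at this
  have hom : Cfsg.omegaCenterOf T = Pc L₁ ⊓ Pc L₂ := by
    refine le_antisymm (fun z hz => ?_) fun z hz => ?_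
    · obtain ⟨-, h2, -⟩ := mem_omegaCenterOf.1 hz
      exact mem_inf.2 ⟨f₁.cen (mem_centralizer_iff.2 fun q hq => h2 q (f₁.QT hq)),
        f₂.cen (mem_centralizer_iff.2 fun q hq => h2 q (f₂.QT hq))⟩
    · obtain ⟨h1, h2⟩ := mem_inf.1 hz
      exact mem_omegaCenterOf.2 ⟨f₁.QT h1, hcentral z h1 h2, elem_sq f₁.elem h1⟩
  obtain ⟨u₁, hu₁, hu₁'⟩ := f₁.exists_moved
  obtain ⟨u₂, hu₂, hu₂'⟩ := f₂.exists_moved
  have hu₁Q : u₁ ∉ Pc L₂ := fun h => hu₁' (hom ▸ mem_inf.2 ⟨f₁.WQ hu₁, h⟩)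
  have hu₂Q : u₂ ∉ Pc L₁ := fun h => hu₂' (hom ▸ mem_inf.2 ⟨h, f₂.WQ hu₂⟩)
  have hT1 := f₁.QT (f₁.WQ hu₁)
  have hT2 := f₂.QT (f₂.WQ hu₂)
  have hsq1 := elem_sq f₁.elem (f₁.WQ hu₁)
  have hsq2 := elem_sq f₂.elem (f₂.WQ hu₂)
  have hi1 := elem_inv f₁.elem (f₁.WQ hu₁)
  have hi2 := elem_inv f₂.elem (f₂.WQ hu₂)
  set e := u₁ * u₂ * (u₁ * u₂) with he
  have heW1 : e ∈ W₁ := by
    have := W₁.mul_mem hu₁ (conj_mem (f₁.Wn (f₁.syl.1 hT2)) hu₁)
    rw [hi2] at this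
    simpa [e, mul_assoc] using this
  have heW2 : e ∈ W₂ := by
    have := W₂.mul_mem (conj_mem (f₂.Wn (f₂.syl.1 hT1)) hu₂) hu₂
    rw [hi1] at this
    simpa [e, mul_assoc] using this
  have hezo : e ∈ Pc L₁ ⊓ Pc L₂ := mem_inf.2 ⟨f₁.WQ heW1, f₂.WQ heW2⟩
  have hu12 : ¬ u₁ * u₂ = u₂ * u₁ := by
    intro hc
    refine hu₁' (mem_omegaCenterOf.2 ⟨hT1, fun t ht => ?_, hsq1⟩)
    by_cases htQ : t ∈ Pc L₁
    · exact elem_comm f₁.elem htQ (f₁.WQ hu₁)
    · have h1 : Commute (t * u₂) u₁ := elem_comm f₁.elem (f₁.mul_core ht hT2 htQ hu₂Q) (f₁.WQ hu₁)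
      have := h1.mul_left (show Commute u₂ u₁ from hc.symm).inv_left
      rwa [mul_inv_cancel_right] at this
  have he1 : e ≠ 1 := fun h => hu12 (by
    calc u₁ * u₂ = (u₁ * u₂)⁻¹ := (inv_eq_of_mul_eq_one_right h).symm
      _ = u₂ * u₁ := by rw [mul_inv_rev, hi1, hi2])
  have hsplit1 : ∀ q ∈ Pc L₁, q ∈ Pc L₂ ∨ q * u₁ ∈ Pc L₂ := fun q hq =>
    (em (q ∈ Pc L₂)).imp id fun h => f₂.mul_core (f₁.QT hq) hT1 h hu₁Q
  have hdec : ∀ t ∈ T, t * t = 1 ∧ t ∈ Pc L₁ ∨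
      ∃ z ∈ Pc L₁ ⊓ Pc L₂, t = z * u₂ ∨ t = z * (u₁ * u₂) := by
    intro t ht
    by_cases htQ : t ∈ Pc L₁
    · exact Or.inl ⟨elem_sq f₁.elem htQ, htQ⟩
    refine Or.inr ?_
    have hq := f₁.mul_core ht hT2 htQ hu₂Q
    rcases hsplit1 _ hq with h | h
    · exact ⟨_, mem_inf.2 ⟨hq, h⟩, Or.inl (by rw [mul_assoc, hsq2, mul_one])⟩
    · refine ⟨_, mem_inf.2 ⟨(Pc L₁).mul_mem hq (f₁.WQ hu₁), h⟩, Or.inr ?_⟩
      calc t = t * (u₂ * ((u₁ * u₁) * u₂)) := by rw [hsq1, one_mul, hsq2, mul_one]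
        _ = _ := by group
  have hzsq : ∀ z ∈ Pc L₁ ⊓ Pc L₂, ∀ t ∈ T, z * t * (z * t) = t * t := by
    intro z hz t ht
    calc z * t * (z * t) = z * (t * z) * t := by group
      _ = z * (z * t) * t := by rw [hcentral z (mem_inf.1 hz).1 (mem_inf.1 hz).2 t ht]
      _ = (z * z) * (t * t) := by group
      _ = t * t := by rw [elem_sq f₁.elem (mem_inf.1 hz).1, one_mul]
  have hsqT : ∀ t ∈ T, t * t = 1 ∨ t * t = e := by
    intro t ht
    rcases hdec t ht with ⟨h, -⟩ | ⟨z, hz, rfl | rfl⟩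
    · exact Or.inl h
    · exact Or.inl (by rw [hzsq z hz u₂ hT2, hsq2])
    · exact Or.inr (by rw [hzsq z hz _ (T.mul_mem hT1 hT2)])
  have hcomm : ∀ a ∈ T, ∀ b ∈ T, a * b * a⁻¹ * b⁻¹ = 1 ∨ a * b * a⁻¹ * b⁻¹ = e := by
    intro a ha b hb
    set E : Subgroup G := zpowers e
    have hee : e * e = 1 := elem_sq f₁.elem (f₁.WQ heW1)
    have hsE : ∀ t ∈ T, t * t ∈ E := fun t ht => (hsqT t ht).elim (fun h => h ▸ E.one_mem) fun h => h ▸ mem_zpowers e
    have hcE : ∀ t ∈ T, ∀ w ∈ E, t * w * t⁻¹ = w := fun t ht w hw => by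
      obtain ⟨n, rfl⟩ := mem_zpowers_iff.1 hw
      rw [((show Commute t e from hcentral e (mem_inf.1 hezo).1 (mem_inf.1 hezo).2 t ht).zpow_right n).eq,
        mul_inv_cancel_right]
    have hm : a * b * a⁻¹ * b⁻¹ ∈ E := by
      have h1 := hsE (a * b) (T.mul_mem ha hb)
      have h2 := hcE b⁻¹ (T.inv_mem hb) _ (hsE a⁻¹ (T.inv_mem ha))
      have h3 := hsE b⁻¹ (T.inv_mem hb)
      have := E.mul_mem (E.mul_mem h1 (hsE a⁻¹ (T.inv_mem ha))) h3
      rw [← h2] at this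
      convert this using 1
      group
    obtain ⟨n, hn⟩ := mem_zpowers_iff.1 hm
    rw [← hn]
    rcases Int.even_or_odd n with ⟨j, hj⟩ | ⟨j, hj⟩
    · exact Or.inl (by rw [hj, zpow_add, ← (Commute.refl e).mul_zpow, hee, one_zpow])
    · exact Or.inr (by rw [hj, zpow_add, zpow_one, two_mul, zpow_add, ← (Commute.refl e).mul_zpow, hee, one_zpow,
        one_mul])
  have hec : u₁ * u₂ * u₁⁻¹ * u₂⁻¹ = e := by rw [hi1, hi2, he]; group
  refine ⟨e, u₁, u₂, he1, ⟨heW1, heW2⟩, ⟨hu₁, hu₁Q⟩, ⟨hu₂, hu₂Q⟩, hom, rfl, hsqT, hcomm, fun t ht ht2 => ?_,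
    hsplit1, fun n hn => ?_⟩
  · rcases hdec t ht with ⟨-, h⟩ | ⟨z, hz, rfl | rfl⟩
    · exact Or.inl h
    · exact Or.inr ((Pc L₂).mul_mem (mem_inf.1 hz).2 (f₂.WQ hu₂))
    · rw [hzsq z hz _ (T.mul_mem hT1 hT2)] at ht2
      exact absurd ht2 he1
  · have h1 : n * e * n⁻¹ = n * u₁ * n⁻¹ * (n * u₂ * n⁻¹) * (n * u₁ * n⁻¹)⁻¹ * (n * u₂ * n⁻¹)⁻¹ := by
      rw [← hec]; group
    rcases hcomm _ (conj_mem hn hT1) _ (conj_mem hn hT2) with h | h
    · refine absurd ?_ he1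
      calc e = n⁻¹ * (n * e * n⁻¹) * n := by group
        _ = 1 := by rw [h1, h]; group
    · rw [h1, h]

end Two

end Cfsg.Lib.JComp
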