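import Cfsg.Agent.JComp.NoSecond

/-!
Two components outside with different maximal 2-local overgroups.
-/

set_option autoImplicit false
set_option linter.unusedSectionVars false
set_option linter.style.haveILetI false

namespace Cfsg.Lib.JComp

open Subgroup
open scoped commutatorElement Pointwise

universe u

variable {G : Type u} [Group G] [Finite G]

/-- A 2-subgroup containing a Sylow 2-subgroup up to normalization lies in it. -/
theorem le_sylow_of_norm (S : Sylow 2 G) {R : Subgroup G} (hR : IsPGroup 2 R)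
    (hn : R ≤ normalizer ((S : Subgroup G) : Set G)) : R ≤ (S : Subgroup G) := by
  have h := S.is_maximal' (hR.to_sup_of_normal_right' S.isPGroup' hn) le_sup_right
  exact h ▸ le_sup_left

/-- A straddling Sylow 2-subgroup is maximal straddling. -/
theorem sylow_max_straddle {S : Sylow 2 G} {M : Subgroup G}
    (h : (S : Subgroup G) ∈ Cfsg.straddlingTwoSubgroups M) :
    (S : Subgroup G) ∈ Cfsg.maxStraddlingTwoSubgroups M := by
  haveI : Fact (Nat.Prime 2) := ⟨Nat.prime_two⟩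
  refine ⟨h, fun R hR => ?_⟩
  obtain ⟨Q, hQ⟩ := hR.1.exists_le_sylow
  obtain ⟨g, hg⟩ := MulAction.exists_smul_eq G S Q
  have hRS : R ≤ cj g (S : Subgroup G) := by rw [← sylow_smul_coe, hg]; exact hQ
  obtain ⟨A, hA⟩ := Cfsg.Lib.Thompson.exists_isMaxElem (p := 2) (S : Subgroup G)
  obtain ⟨A', hA'⟩ := Cfsg.Lib.Thompson.exists_isMaxElem (p := 2) R
  rw [meao_eq hA, meao_eq hA']
  have hbd : ∀ B, B ≤ cj g (S : Subgroup G) → Cfsg.IsElementaryAbelian 2 B → Nat.card B ≤ Nat.card A := by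
    intro B hB hBe
    have h1 : cj g⁻¹ B ≤ (S : Subgroup G) := by
      rw [← cj_inv_cj g (S : Subgroup G)]; exact map_mono hB
    have := hA.2.2 _ h1 (elem_cj hBe _)
    rwa [card_cj] at this
  refine ⟨hbd A' (hA'.1.trans hRS) hA'.2.1, fun he => ⟨?_, fun _ => ?_⟩⟩
  · refine le_of_le_of_eq (Cfsg.Lib.ElemToolkit.card_le_card_of_le
      (jof_le_jof hA' ((jof_le R).trans hRS) fun B hB hBe => he ▸ hbd B hB hBe)) ?_
    rw [jof_cj, card_cj]
  · exact le_of_le_of_eq (Cfsg.Lib.ElemToolkit.card_le_card_of_le hRS) (card_cj _ _)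

variable (hL : Cfsg.IsCharacteristicTwoType G) (hN : ∀ N : Subgroup G, Cfsg.IsTwoLocal N → Group.IsSolvable ↥N)
  (hZ : ∀ S : Sylow 2 G, centralizer (Cfsg.omegaCenterOf (S : Subgroup G) : Set G) ≤
    normalizer ((S : Subgroup G) : Set G))

include hL hN hZ

theorem outside_of_comp {S : Sylow 2 G} {M : Subgroup G} (hMJ : normalizer (Jof (S : Subgroup G) : Set G) ≤ M)
    {T : Subgroup G} (hT : T ∈ Cfsg.maxStraddlingTwoSubgroups M) {K : Subgroup G} (hK : Cfsg.IsJComponent T K)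
    (hKM : ¬ K ≤ M) (hKT : Cfsg.pCoreOf 2 (K ⊔ T) ≠ ⊥) : K ∈ Cfsg.jComponentsOutside M T := by
  refine ⟨⟨hK, fun R hJR hR => ?_⟩, hKM, hKT⟩
  have hWe : Cfsg.IsElementaryAbelian 2 (Cfsg.wOf K) := elem_of_sq hK.2.2.2.2.2
  have hW1 : Cfsg.wOf K ≠ ⊥ := fun e => by
    have := hK.2.2.2.2.1
    rw [e, card_bot] at this
    omega
  exact (straddle_sylow hL hMJ hT ⟨_, elem_isPGroup hWe, hW1, rfl⟩
    (fun hle => hKM ((le_normalizer.trans (normalizer_le_wOf K)).trans hle)) hR hJR).1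

theorem outside_cj {S : Sylow 2 G} {M : Subgroup G} (hMJ : normalizer (Jof (S : Subgroup G) : Set G) ≤ M)
    {T : Subgroup G} (hT : T ∈ Cfsg.maxStraddlingTwoSubgroups M) {K : Subgroup G}
    (hK : K ∈ Cfsg.jComponentsOutside M T) {n : G} (hn : n ∈ normalizer (T : Set G)) :
    cj n K ∈ Cfsg.jComponentsOutside M T := by
  have hnM : n ∈ M :=
    normalizer_jof_le hMJ hT (Cfsg.Lib.Thompson.normalizer_le_normalizer_thompson T hn)
  have hcomp := comp_cj hK.1.1 n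
  rw [cj_eq_self hn] at hcomp
  refine outside_of_comp hL hN hZ hMJ hT hcomp (fun hle => hK.2.1 ?_) fun e => hK.2.2 ?_
  · have h1 : cj n⁻¹ (cj n K) ≤ cj n⁻¹ M := map_mono hle
    rwa [cj_inv_cj, cj_eq_self (inv_mem (le_normalizer hnM))] at h1
  · rw [show cj n K ⊔ T = cj n (K ⊔ T) by
      conv_lhs => rw [← cj_eq_self hn]
      exact (Subgroup.map_sup _ _ _).symm, pCoreOf_cj] at e
    exact (map_eq_bot_iff_of_injective _ (MulAut.conj n).injective).1 e

/-- There are two components with different maximal 2-local subgroups. -/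
theorem exists_second (hO : Cfsg.pCore 2 G = ⊥) {S : Sylow 2 G} {M : Subgroup G} (hM : Cfsg.IsTwoLocal M)
    (hMJ : normalizer (Jof (S : Subgroup G) : Set G) ≤ M) {T : Subgroup G}
    (hT : T ∈ Cfsg.maxStraddlingTwoSubgroups M) :
    ∃ K₁ L₁ K₂ L₂, Good T K₁ L₁ ∧ Good T K₂ L₂ ∧ ¬ K₂ ≤ L₁ := by
  classical
  haveI : Fact (Nat.Prime 2) := ⟨Nat.prime_two⟩
  obtain ⟨K, hK⟩ := outside_nonempty hL hN hZ hMJ hT
  obtain ⟨L, g⟩ := good_of_outside hL hN hZ hO hM hMJ hT hK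
  have hset := g.sett
  have hfin : ∀ n, n ∈ normalizer (T : Set G) → n ∉ L →
      ∃ K₁ L₁ K₂ L₂, Good T K₁ L₁ ∧ Good T K₂ L₂ ∧ ¬ K₂ ≤ L₁ := by
    intro n hn hnL
    obtain ⟨L₂, g₂⟩ := good_of_outside hL hN hZ hO hM hMJ hT (outside_cj hL hN hZ hMJ hT hK hn)
    exact ⟨K, L, _, L₂, g, g₂, fun hle => hnL (moved g.max g.uniq hset.J_le_L
      (Cfsg.Lib.Thompson.normalizer_le_normalizer_thompson T hn) hle)⟩
  have hSM : (S : Subgroup G) ≤ M :=
    (le_normalizer.trans (Cfsg.Lib.Thompson.normalizer_le_normalizer_thompson _)).trans hMJ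
  obtain ⟨m, hm, hle⟩ := exists_conj_le (sylowIn_of_sylow S hSM) hT.1.2.2.1 hT.1.1
  set S' : Sylow 2 G := m • S
  have hS' : (S' : Subgroup G) = cj m (S : Subgroup G) := sylow_smul_coe S m
  have hTS : T ≤ (S' : Subgroup G) := hS' ▸ hle
  by_cases hne : T = (S' : Subgroup G)
  swap
  · obtain ⟨r, hrS, hrn, hrT⟩ := exists_normalizing S'.isPGroup' hTS hne
    refine hfin r hrn fun hrL => hrT ?_
    exact (sylowIn_eq_of_le hset.syl (le_inf hTS hset.syl.1 : T ≤ (S' : Subgroup G) ⊓ L) inf_le_right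
      (S'.isPGroup'.to_le inf_le_left)).le (mem_inf.2 ⟨hrS, hrL⟩)
  by_cases hNT : normalizer (T : Set G) ≤ L
  swap
  · obtain ⟨n, hn, hnL⟩ := SetLike.not_le_iff_exists.1 hNT
    exact hfin n hn hnL
  subst hne
  set T := (S' : Subgroup G) with hTdef
  have hT1 : T ≠ ⊥ := hT.1.2.1
  -- `N(J(T))` lies in `L`
  have hNJ : normalizer (Jof T : Set G) ≤ L := by
    intro n hn
    refine hNT (mem_normalizer_of_cj_le (le_sylow_of_norm S' (S'.isPGroup'.map _) ?_))
    rintro _ ⟨t, ht, rfl⟩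
    refine hZ S' (mem_centralizer_iff.2 fun w hw => ?_)
    have hw' : w ∈ Cfsg.omegaCenterOf (Jof T) := g.omega_eq ▸ hw
    have hw'' := conj_mem (inv_mem (normalizer_le_omegaCenterOf _ hn)) hw'
    have h1 := g.cen t ht _ hw''
    show w * (n * t * n⁻¹) = n * t * n⁻¹ * w
    calc w * (n * t * n⁻¹) = n * ((n⁻¹ * w * n⁻¹⁻¹) * t) * n⁻¹ := by group
      _ = n * (t * (n⁻¹ * w * n⁻¹⁻¹)) * n⁻¹ := by rw [h1]
      _ = _ := by group
  by_cases hloc : ∀ H : Subgroup G, Cfsg.IsTwoLocal H → T ≤ H → H ≤ L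
  · exact (no_second hL hN hZ hO S' g hloc).elim
  push Not at hloc
  obtain ⟨H, hH, hTH, hHL⟩ := hloc
  set M' := normalizer (Jof T : Set G) with hM'def
  have hJ1 : Jof T ≠ ⊥ := Cfsg.Lib.Thompson.thompsonSubgroupOf_ne_bot S'.isPGroup' hT1
  have hM'2 : Cfsg.IsTwoLocal M' := ⟨_, isPGroup_jof S'.isPGroup', hJ1, rfl⟩
  have hHM' : ¬ H ≤ M' := fun h => hHL (h.trans hNJ)
  have hT' : T ∈ Cfsg.maxStraddlingTwoSubgroups M' := sylow_max_straddle ⟨S'.isPGroup', hT1,
    le_normalizer.trans (Cfsg.Lib.Thompson.normalizer_le_normalizer_thompson _), H, hH, hTH, hHM'⟩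
  obtain ⟨hsetH, -⟩ := straddle_main hL hN hZ le_rfl hT' hH hHM' hTH
  obtain ⟨x, a, ha, hxL⟩ : ∃ x a, Atom T H x a ∧ ¬ Atom.Kx H x ≤ L := by
    by_contra hno
    push Not at hno
    exact hHL (hsetH.le_of_comps (inf_le_right.trans hNJ) hno)
  set K' := Atom.Kx H x
  have hK' := ha.isComp hsetH
  have hK'H : K' ≤ H := (oddGen_le _).trans ha.X0_le
  have hout : K' ∈ Cfsg.jComponentsOutside M' T := by
    refine outside_of_comp hL hN hZ le_rfl hT' hK' (fun h => hxL (h.trans hNJ)) fun e => ?_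
    have h1 : Pc H ≤ ⊥ := e ▸ le_pCoreOf (isPGroup_pCoreOf H) (hsetH.P_le_T.trans le_sup_right)
      ((sup_le hK'H hTH).trans hsetH.P_norm)
    refine hT1 (eq_bot_iff.2 fun t _ => ?_)
    have : t ∈ centralizer (Pc H : Set G) := mem_centralizer_iff.2 fun p hp => by
      have := mem_bot.1 (h1 hp)
      simp [this]
    exact h1 (hsetH.cen this)
  obtain ⟨L', g'⟩ := good_of_outside hL hN hZ hO hM'2 le_rfl hT' hout
  exact ⟨K, L, K', L', g, g', hxL⟩

end Cfsg.Lib.JComp
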