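import Cfsg.Agent.JComp.Atoms

/-!
`J`-components inside a member of `jOvergroups T`.
-/

set_option autoImplicit false
set_option linter.unusedSectionVars false
set_option linter.style.haveILetI false

namespace Cfsg.Lib.JComp

open Subgroup
open scoped commutatorElement

universe u

variable {G : Type u} [Group G] [Finite G]

theorem mem_of_coprime_pows {N : Subgroup G} {y : G} {m n : ℕ} (hc : Nat.Coprime m n) (hm : y ^ m ∈ N)
    (hn : y ^ n ∈ N) : y ∈ N := by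
  have h : (1 : ℤ) = m * Nat.gcdA m n + n * Nat.gcdB m n := by
    rw [← Nat.gcd_eq_gcd_ab, hc, Nat.cast_one]
  rw [← zpow_one y, h, zpow_add, zpow_mul, zpow_mul, zpow_natCast, zpow_natCast]
  exact mul_mem (zpow_mem hm _) (zpow_mem hn _)

theorem comp_cj {T K : Subgroup G} (h : Cfsg.IsJComponent T K) (g : G) :
    Cfsg.IsJComponent (cj g T) (cj g K) := by
  obtain ⟨h1, h2, h3, h4, h5, h6⟩ := h
  refine ⟨?_, ?_, ?_, fun S hS hJS => ?_, ?_, ?_⟩
  · show oddGen (cj g K) = cj g K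
    rw [← cj_oddGen]
    exact congrArg (cj g) h1
  · show ⁅cj g K, Jof (cj g T)⁆ = cj g K
    rw [jof_cj, cj, cj, ← map_commutator]
    exact congrArg (cj g) h2
  · rw [pCoreOf_cj, cj, cj, relIndex_map_map_of_injective _ _ (MulAut.conj g).injective, h3]
  · have hS' : Cfsg.IsSylowTwoIn S (cj g K ⊔ Jof (cj g T)) := hS
    rw [jof_cj, show cj g K ⊔ cj g (Jof T) = cj g (K ⊔ Jof T) from (Subgroup.map_sup _ _ _).symm] at hS'
    have hS'' := sylowIn_cj hS' g⁻¹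
    rw [cj_inv_cj] at hS''
    have hJ' : Jof T ≤ cj g⁻¹ S := by
      have := Subgroup.map_mono (f := (MulAut.conj g⁻¹).toMonoidHom) (show Jof (cj g T) ≤ S from hJS)
      rw [jof_cj] at this
      change cj g⁻¹ (cj g (Jof T)) ≤ _ at this
      rwa [cj_inv_cj] at this
    have h9 : Jof (cj g⁻¹ S) = Jof T := h4 _ hS'' hJ'
    show Jof S = Jof (cj g T)
    rw [jof_cj, ← h9, jof_cj, cj_cj_inv]
  · rw [wOf_cj, card_cj, h5]
  · rw [wOf_cj]
    rintro _ ⟨w, hw, rfl⟩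
    rw [← map_mul, h6 w hw, map_one]

theorem comp_congr {T T' K : Subgroup G} (hJ : Jof T' = Jof T) (h : Cfsg.IsJComponent T K) :
    Cfsg.IsJComponent T' K := by
  unfold Cfsg.IsJComponent at h ⊢
  rw [show Cfsg.thompsonSubgroupOf 2 T' = Cfsg.thompsonSubgroupOf 2 T from hJ]
  exact h

variable {T L : Subgroup G}

namespace Setting

theorem two_comp (h : Setting T L) {A : Subgroup G} (hA : MaxE T A) {B : Subgroup G} (hB : B ≤ L)
    (hBe : Cfsg.IsElementaryAbelian 2 B) : Nat.card B ≤ Nat.card A := by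
  obtain ⟨l, hl, hle⟩ := exists_conj_le h.syl hB (elem_isPGroup hBe)
  have h2 : cj l⁻¹ B ≤ T := by
    have := Subgroup.map_mono (f := (MulAut.conj l⁻¹).toMonoidHom) hle
    rw [show (cj l T).map (MulAut.conj l⁻¹).toMonoidHom = T from cj_inv_cj l T] at this
    exact this
  have := hA.2.2 _ h2 (elem_cj hBe _)
  rwa [card_cj] at this

/-- A 2-subgroup of `L` containing `J` has the same Thompson subgroup. -/
theorem jof_two (h : Setting T L) {S : Subgroup G} (hS : IsPGroup 2 S) (hSL : S ≤ L) (hJS : Jof T ≤ S) :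
    Jof S = Jof T := by
  obtain ⟨A, hA⟩ := Cfsg.Lib.Thompson.exists_isMaxElem (p := 2) T
  obtain ⟨l, hl, hle⟩ := exists_conj_le h.syl hSL hS
  have hlTL : cj l T ≤ L := by
    rintro _ ⟨t, ht, rfl⟩
    exact mul_mem (mul_mem hl (h.syl.1 ht)) (inv_mem hl)
  have h1 : Jof T ≤ Jof (cj l T) :=
    jof_le_jof hA (hJS.trans hle) fun B hB hBe => h.two_comp hA (hB.trans hlTL) hBe
  have h2 : Jof T = Jof (cj l T) := eq_of_le_of_card_ge h1 (by rw [jof_cj, card_cj])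
  rw [h2]
  exact jof_eq_of_between (h2 ▸ hJS) hle

theorem J_le_kill {M : Subgroup G} (h : Setting T L) (hP : Pc L ≤ M)
    (hM : ∀ x a, Atom T L x a → a ∈ M) : Jof T ≤ M :=
  jof_le_iff.2 fun A hA => (h.exists_atoms hA).trans (sup_le
    ((closure_le M).2 fun a ha => by obtain ⟨x, hx⟩ := ha.2; exact hM x a hx)
    ((h.two_le_P ((elem_isPGroup hA.2.1).to_le inf_le_left) inf_le_right).trans hP))

theorem exists_atom (h : Setting T L) : ∃ x a, Atom T L x a := by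
  by_contra hno
  push Not at hno
  exact h.nle (h.J_le_kill le_rfl fun x a ha => absurd ha (hno x a))

end Setting

namespace Atom

variable {x a : G}

theorem order (ha : Atom T L x a) : orderOf x = 3 := by
  haveI : Fact (Nat.Prime 3) := ⟨Nat.prime_three⟩
  exact orderOf_eq_prime ha.x3 fun e => ha.xC (e ▸ one_mem _)

theorem x_inv (ha : Atom T L x a) : x⁻¹ = x * x :=
  inv_eq_of_mul_eq_one_right (by rw [← mul_assoc, ← pow_two, ← pow_succ]; exact ha.x3)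

theorem a_inv (ha : Atom T L x a) : a⁻¹ = a := inv_eq_of_mul_eq_one_right ha.a2

theorem a_N0 (ha : Atom T L x a) (h : Setting T L) : a ∈ N0 T L := h.J_le_N0 ha.aJ

theorem x_N0 (ha : Atom T L x a) (h : Setting T L) : x ∈ N0 T L := by
  have h2 : x * a * x⁻¹ * a ∈ N0 T L := mul_mem (subset_closure ⟨x, ha.xL, a, ha.aJ, rfl⟩) (ha.a_N0 h)
  have e : x * a * x⁻¹ * a = x * x := by
    have : a * x⁻¹ * a = x := by
      calc a * x⁻¹ * a = (a⁻¹ * x * a⁻¹)⁻¹ := by group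
        _ = x := by rw [ha.a_inv, ha.ax, inv_inv]
    calc x * a * x⁻¹ * a = x * (a * x⁻¹ * a) := by group
      _ = _ := by rw [this]
  rw [e] at h2
  have h4 : (x * x) * (x * x) = x ^ 3 * x := by simp only [pow_succ, pow_zero, one_mul, mul_assoc]
  have := mul_mem h2 h2
  rwa [h4, ha.x3, one_mul] at this

theorem mover (ha : Atom T L x a) (h : Setting T L) : Mover (Vm L) x := h.mover ha.xL ha.x3

theorem exists_ne (ha : Atom T L x a) (h : Setting T L) : ∃ w ∈ dlR x (Vm L), w ≠ 1 := by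
  by_contra hno
  push Not at hno
  refine ha.xC ((Setting.mem_Cv_iff ha.xL).2 fun v hv => ?_)
  have := hno _ ((ha.mover h).mem_dlR.2 ⟨v, hv, rfl⟩)
  rw [dl] at this
  rw [mul_eq_one_iff_eq_inv.1 this, elem_inv (elem_omegaCenterOf _) hv]

theorem card_eq (ha : Atom T L x a) (h : Setting T L) : Nat.card (dlR x (Vm L)) = 4 := by
  obtain ⟨w, hw, hw1⟩ := ha.exists_ne h
  exact le_antisymm ha.card ((ha.mover h).four_le le_rfl (fun u hu => (ha.mover h).conj_mem_dlR hu) hw hw1)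

theorem conj_cases (ha : Atom T L x a) (h : Setting T L) {g : G} (hg : g ∈ N0 T L) :
    ∃ c ∈ Cv L, g * x * g⁻¹ = x * c ∨ g * x * g⁻¹ = x⁻¹ * c := by
  have hm := conj_mem (ha.norm hg) (mem_sup_left (mem_zpowers x))
  have hzn : zpowers x ≤ normalizer (Cv L : Set G) := zpowers_le.2 (h.C_norm ha.xL)
  rw [sup_comm] at hm
  obtain ⟨y, hy, c, hc, he⟩ := (Cfsg.Lib.Coprime.mem_sup_of_le_normalizer' hzn).1 hm
  obtain ⟨n, rfl⟩ := mem_powers_iff_mem_zpowers.2 hy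
  change x ^ n * c = _ at he
  rw [← pow_mod_orderOf, ha.order] at he
  have hn3 : n % 3 < 3 := Nat.mod_lt _ (by omega)
  interval_cases hnm : n % 3
  · refine absurd ?_ ha.xC
    rw [pow_zero, one_mul] at he
    have hxe : x = g⁻¹ * c * g⁻¹⁻¹ := by rw [he]; group
    rw [hxe]
    exact conj_mem (inv_mem (h.C_norm (h.N0_le hg))) hc
  · exact ⟨c, hc, Or.inl (by rw [← he, pow_one])⟩
  · exact ⟨c, hc, Or.inr (by rw [← he, pow_two, ha.x_inv])⟩

theorem C_V (_ : Setting T L) {c v : G} (hc : c ∈ Cv L) (hv : v ∈ Vm L) : c * v * c⁻¹ = v := by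
  rw [← mem_centralizer_iff.1 (mem_inf.1 hc).2 v hv, mul_inv_cancel_right]

/-- An element of order 3 of `N0` commutes with `x` on `V`. -/
theorem comm_V (ha : Atom T L x a) (h : Setting T L) {y : G} (hy : y ∈ N0 T L) (hy3 : y ^ 3 = 1) {v : G}
    (hv : v ∈ Vm L) : y * (x * v * x⁻¹) * y⁻¹ = x * (y * v * y⁻¹) * x⁻¹ := by
  have hyV := h.V_norm (h.N0_le hy)
  have hxV := h.V_norm ha.xL
  obtain ⟨c, hc, h1 | h1⟩ := ha.conj_cases h hy
  · have e : y * x = x * (c * y) := by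
      rw [← mul_assoc, ← h1, inv_mul_cancel_right]
    calc y * (x * v * x⁻¹) * y⁻¹ = (y * x) * v * (y * x)⁻¹ := by group
      _ = x * (c * (y * v * y⁻¹) * c⁻¹) * x⁻¹ := by rw [e]; group
      _ = _ := by rw [C_V h hc (conj_mem hyV hv)]
  · -- inversion cannot have order dividing three
    have key : ∀ w ∈ Vm L, y * (x * w * x⁻¹) * y⁻¹ = x⁻¹ * (y * w * y⁻¹) * x := by
      intro w hw
      have e : y * x = x⁻¹ * (c * y) := by rw [← mul_assoc, ← h1, inv_mul_cancel_right]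
      calc y * (x * w * x⁻¹) * y⁻¹ = (y * x) * w * (y * x)⁻¹ := by group
        _ = x⁻¹ * (c * (y * w * y⁻¹) * c⁻¹) * x := by rw [e]; group
        _ = _ := by rw [C_V h hc (conj_mem hyV hw)]
    have key' : ∀ w ∈ Vm L, y * (x⁻¹ * w * x) * y⁻¹ = x * (y * w * y⁻¹) * x⁻¹ := by
      intro w hw
      have hw' := conj_mem (inv_mem hxV) hw
      have e : x * (x⁻¹ * w * x⁻¹⁻¹) * x⁻¹ = w := by group
      have h5 := key _ hw'
      rw [e] at h5
      rw [h5]; group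
    refine absurd ((Setting.mem_Cv_iff (mul_mem ha.xL ha.xL)).2 fun w hw => ?_) fun hc' => ha.xC ?_
    · -- `x² ` centralizes `V`
      have hu : ∀ u ∈ Vm L, y * (y * (y * u * y⁻¹) * y⁻¹) * y⁻¹ = u := fun u _ => by
        calc y * (y * (y * u * y⁻¹) * y⁻¹) * y⁻¹ = y ^ 3 * u * (y ^ 3)⁻¹ := by
              simp only [pow_succ, pow_zero]; group
          _ = u := by rw [hy3]; group
      have hyw := conj_mem hyV hw
      have hyyw := conj_mem hyV hyw
      have h6 := hu _ (conj_mem hxV hw)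
      rw [key w hw, key' _ hyw, key _ hyyw, hu w hw] at h6
      calc x * x * w * (x * x)⁻¹ = x * (x * w * x⁻¹) * x⁻¹ := by group
        _ = x * (x⁻¹ * w * x) * x⁻¹ := by rw [← h6]
        _ = w := by group
    · have := mul_mem hc' hc'
      rwa [show x * x * (x * x) = x ^ 3 * x by simp only [pow_succ, pow_zero, one_mul, mul_assoc], ha.x3,
        one_mul] at this

theorem stab_conj (ha : Atom T L x a) (h : Setting T L) {n : G} (hn : n ∈ L)
    (hW : ∀ w ∈ dlR x (Vm L), n * w * n⁻¹ ∈ dlR x (Vm L)) :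
    (∀ v ∈ Vm L, dl (n * x * n⁻¹) v ∈ dlR x (Vm L)) ∧
      ∀ v ∈ Vm L, (n * a * n⁻¹) * v * (n * a * n⁻¹) * v ∈ dlR x (Vm L) := by
  have key : ∀ v ∈ Vm L, v = n * (n⁻¹ * v * n⁻¹⁻¹) * n⁻¹ := fun v _ => by group
  refine ⟨fun v hv => ?_, fun v hv => ?_⟩
  · have hv' := conj_mem (inv_mem (h.V_norm hn)) hv
    have := hW _ ((ha.mover h).mem_dlR.2 ⟨_, hv', rfl⟩)
    rw [dl] at this ⊢
    have e : n * x * n⁻¹ * v * (n * x * n⁻¹)⁻¹ * v =
        n * (x * (n⁻¹ * v * n⁻¹⁻¹) * x⁻¹ * (n⁻¹ * v * n⁻¹⁻¹)) * n⁻¹ := by group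
    rw [e]; exact this
  · have hv' := conj_mem (inv_mem (h.V_norm hn)) hv
    have := hW _ (ha.brk _ hv')
    have e : n * a * n⁻¹ * v * (n * a * n⁻¹) * v =
        n * (a * (n⁻¹ * v * n⁻¹⁻¹) * a * (n⁻¹ * v * n⁻¹⁻¹)) * n⁻¹ := by group
    rw [e]; exact this

theorem W_cases (ha : Atom T L x a) (h : Setting T L) {w : G} (hw : w ∈ dlR x (Vm L)) (hw1 : w ≠ 1) {u : G}
    (hu : u ∈ dlR x (Vm L)) : u = 1 ∨ u = w ∨ u = x * w * x⁻¹ ∨ u = x * (x * w * x⁻¹) * x⁻¹ := by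
  classical
  have hM := ha.mover h
  set W := dlR x (Vm L)
  set p := x * w * x⁻¹ with hp
  set q := x * p * x⁻¹ with hq
  by_contra hne
  push Not at hne
  obtain ⟨hu1, huw, hup, huq⟩ := hne
  have hpW : p ∈ W := hM.conj_mem_dlR hw
  have hqW : q ∈ W := hM.conj_mem_dlR hpW
  have hc : x * q * x⁻¹ = w := hM.conj3 w
  have hwp : w ≠ p := fun e => hw1 (hM.fix_eq_one hw (hp.symm.trans e.symm))
  have hpq : p ≠ q := fun e => hwp (by
    calc w = x⁻¹ * p * x := by rw [hp]; group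
      _ = x⁻¹ * q * x := by rw [e]
      _ = p := by rw [hq]; group)
  have hwq : w ≠ q := fun e => hwp (by
    calc w = x * q * x⁻¹ := hc.symm
      _ = x * w * x⁻¹ := by rw [← e]
      _ = p := hp.symm)
  have hp1 : p ≠ 1 := fun e => hw1 (by
    calc w = x⁻¹ * p * x := by rw [hp]; group
      _ = 1 := by rw [e]; group)
  have hq1 : q ≠ 1 := fun e => hp1 (by
    calc p = x⁻¹ * q * x := by rw [hq]; group
      _ = 1 := by rw [e]; group)
  have hs : ({⟨1, one_mem W⟩, ⟨u, hu⟩, ⟨w, hw⟩, ⟨p, hpW⟩, ⟨q, hqW⟩} : Finset W).card = 5 := by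
    simp [Subtype.ext_iff, hu1.symm, huw, hup, huq, hw1.symm, hp1.symm, hq1.symm, hwp, hpq, hwq]
  letI := Fintype.ofFinite W
  have := Finset.card_le_univ ({⟨1, one_mem W⟩, ⟨u, hu⟩, ⟨w, hw⟩, ⟨p, hpW⟩, ⟨q, hqW⟩} : Finset W)
  rw [hs, ← Nat.card_eq_fintype_card, ha.card_eq h] at this
  omega

/-- The stabilizer of the four-group sends `x` into `x^{±1} C`. -/
theorem conj_x (ha : Atom T L x a) (h : Setting T L) {n : G} (hn : n ∈ L)
    (hW : ∀ w ∈ dlR x (Vm L), n * w * n⁻¹ ∈ dlR x (Vm L)) :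
    ∃ i : ℕ, (i = 1 ∨ i = 2) ∧ (x ^ i)⁻¹ * (n * x * n⁻¹) ∈ Cv L := by
  have hM := ha.mover h
  set y := n * x * n⁻¹ with hy
  have hyN : y ∈ N0 T L := conj_mem (h.N0_norm hn) (ha.x_N0 h)
  have hy3 : y ^ 3 = 1 := by rw [hy, conj_pow, ha.x3]; group
  have hyV := h.V_norm (h.N0_le hyN)
  have hd := (ha.stab_conj h hn hW).1
  have hfix : ∀ c ∈ Vm L, x * c * x⁻¹ = c → y * c * y⁻¹ = c := by
    intro c hc hxc
    have h1 : x * (y * c * y⁻¹) * x⁻¹ = y * c * y⁻¹ := by rw [← ha.comm_V h hyN hy3 hc, hxc]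
    have h2 : x * dl y c * x⁻¹ = dl y c := by
      rw [dl]
      calc x * (y * c * y⁻¹ * c) * x⁻¹ = (x * (y * c * y⁻¹) * x⁻¹) * (x * c * x⁻¹) := by group
        _ = _ := by rw [h1, hxc]
    have h3 := hM.fix_eq_one (hd c hc) h2
    rw [dl] at h3
    rw [mul_eq_one_iff_eq_inv.1 h3, elem_inv hM.elem hc]
  obtain ⟨w, hw, hw1⟩ := ha.exists_ne h
  have hwV := hM.dlR_le hw
  obtain ⟨i, hi, hiw⟩ : ∃ i : ℕ, (i = 1 ∨ i = 2) ∧ y * w * y⁻¹ = x ^ i * w * (x ^ i)⁻¹ := by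
    have hm : y * w * y⁻¹ ∈ dlR x (Vm L) := by
      have := mul_mem (hd w hwV) hw
      rwa [dl, mul_assoc, elem_sq hM.elem hwV, mul_one] at this
    rcases ha.W_cases h hw hw1 hm with e | e | e | e
    · refine absurd ?_ hw1
      calc w = y⁻¹ * (y * w * y⁻¹) * y := by group
        _ = 1 := by rw [e]; group
    · -- a fixed point of `y` in its own image
      refine absurd ?_ hw1
      have hw' : n⁻¹ * w * n⁻¹⁻¹ ∈ dlR x (Vm L) := by
        have hle : cj n (dlR x (Vm L)) ≤ dlR x (Vm L) := by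
          rintro _ ⟨u, hu, rfl⟩
          exact hW u hu
        exact conj_mem (inv_mem (mem_normalizer_of_cj_le hle)) hw
      have h4 := hM.fix_eq_one hw' (by
        calc x * (n⁻¹ * w * n⁻¹⁻¹) * x⁻¹ = n⁻¹ * (y * w * y⁻¹) * n⁻¹⁻¹ := by rw [hy]; group
          _ = _ := by rw [e])
      calc w = n * (n⁻¹ * w * n⁻¹⁻¹) * n⁻¹ := by group
        _ = 1 := by rw [h4]; group
    · exact ⟨1, Or.inl rfl, by rw [e, pow_one]⟩
    · exact ⟨2, Or.inr rfl, by rw [e, pow_two]; group⟩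
  refine ⟨i, hi, (Setting.mem_Cv_iff (mul_mem (inv_mem (pow_mem ha.xL i)) (h.N0_le hyN))).2 fun v hv => ?_⟩
  suffices hev : y * v * y⁻¹ = x ^ i * v * (x ^ i)⁻¹ by
    calc (x ^ i)⁻¹ * y * v * ((x ^ i)⁻¹ * y)⁻¹ = (x ^ i)⁻¹ * (y * v * y⁻¹) * x ^ i := by group
      _ = v := by rw [hev]; group
  obtain ⟨c, hc, r, hr, hxc, rfl⟩ := hM.split hv
  have hstep : ∀ u ∈ Vm L, y * u * y⁻¹ = x ^ i * u * (x ^ i)⁻¹ →
      y * (x * u * x⁻¹) * y⁻¹ = x ^ i * (x * u * x⁻¹) * (x ^ i)⁻¹ := by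
    intro u hu he
    rw [ha.comm_V h hyN hy3 hu, he,
      show x * (x ^ i * u * (x ^ i)⁻¹) * x⁻¹ = (x * x ^ i) * u * (x * x ^ i)⁻¹ by group,
      ← pow_succ', pow_succ]
    group
  have hr' : y * r * y⁻¹ = x ^ i * r * (x ^ i)⁻¹ := by
    rcases ha.W_cases h hw hw1 hr with e | e | e | e <;> rw [e]
    · group
    · exact hiw
    · exact hstep w hwV hiw
    · exact hstep _ (conj_mem hM.norm hwV) (hstep w hwV hiw)
  have hc' : y * c * y⁻¹ = x ^ i * c * (x ^ i)⁻¹ := by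
    rw [hfix c hc hxc]
    have hcc : x ^ i ∈ centralizer ({c} : Set G) :=
      pow_mem (mem_centralizer_singleton_iff.2 (mul_inv_eq_iff_eq_mul.1 hxc)) i
    rw [mem_centralizer_singleton_iff.1 hcc, mul_inv_cancel_right]
  calc y * (c * r) * y⁻¹ = (y * c * y⁻¹) * (y * r * y⁻¹) := by group
    _ = _ := by rw [hc', hr']; group

/-- The stabilizer of the four-group sends `a` into `x^k a x^{-k} P`. -/
theorem conj_a (ha : Atom T L x a) (h : Setting T L) {n : G} (hn : n ∈ L)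
    (hW : ∀ w ∈ dlR x (Vm L), n * w * n⁻¹ ∈ dlR x (Vm L)) :
    ∃ k : ℕ, (x ^ k * a * (x ^ k)⁻¹)⁻¹ * (n * a * n⁻¹) ∈ Pc L := by
  have hM := ha.mover h
  obtain ⟨i, hi, hic⟩ := ha.conj_x h hn hW
  set b := n * a * n⁻¹ with hb
  set y := n * x * n⁻¹ with hy
  have hbb : b * b = 1 := by rw [hb, show n * a * n⁻¹ * (n * a * n⁻¹) = n * (a * a) * n⁻¹ by group, ha.a2]; group
  have hbL : b ∈ L := mul_mem (mul_mem hn (h.J_le_L ha.aJ)) (inv_mem hn)
  have hbV := h.V_norm hbL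
  have hbxb : b * y * b = y⁻¹ := by
    rw [hb, hy, show n * a * n⁻¹ * (n * x * n⁻¹) * (n * a * n⁻¹) = n * (a * x * a) * n⁻¹ by group, ha.ax]; group
  have hbinv : b⁻¹ = b := inv_eq_of_mul_eq_one_right hbb
  -- `b` inverts `x` on `V`
  have hRi : ∀ v ∈ Vm L, b * (x ^ i * v * (x ^ i)⁻¹) * b = (x ^ i)⁻¹ * (b * v * b) * x ^ i := by
    intro v hv
    set c := (x ^ i)⁻¹ * y with hcdef
    have hyc : y = x ^ i * c := by rw [hcdef]; group
    have hv' : b * v * b ∈ Vm L := by have := conj_mem hbV hv; rwa [hbinv] at this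
    calc b * (x ^ i * v * (x ^ i)⁻¹) * b = b * (x ^ i * (c * v * c⁻¹) * (x ^ i)⁻¹) * b := by rw [C_V h hic hv]
      _ = b * y * v * y⁻¹ * b := by rw [hyc]; group
      _ = (b * y * b) * (b⁻¹ * v * b⁻¹) * (b⁻¹ * y * b⁻¹)⁻¹ := by group
      _ = y⁻¹ * (b * v * b) * y := by rw [hbinv, hbxb, inv_inv]
      _ = c⁻¹ * ((x ^ i)⁻¹ * (b * v * b) * (x ^ i)⁻¹⁻¹) * c⁻¹⁻¹ := by rw [hyc]; group
      _ = _ := by
        rw [C_V h (inv_mem hic) (conj_mem (inv_mem (h.V_norm (pow_mem ha.xL i))) hv'), inv_inv]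
  have hR1 : ∀ v ∈ Vm L, b * (x * v * x⁻¹) * b = x⁻¹ * (b * v * b) * x := by
    intro v hv
    rcases hi with rfl | rfl
    · simpa using hRi v hv
    · have hv2 := conj_mem (h.V_norm (pow_mem ha.xL 2)) hv
      have h1 := hRi _ hv2
      rw [hRi v hv] at h1
      have h4 : x ^ 2 * x ^ 2 = x := by
        rw [← pow_add, show (2 + 2 : ℕ) = 3 + 1 from rfl, pow_add, ha.x3, one_mul, pow_one]
      calc b * (x * v * x⁻¹) * b = b * ((x ^ 2 * x ^ 2) * v * (x ^ 2 * x ^ 2)⁻¹) * b := by rw [h4]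
        _ = b * (x ^ 2 * (x ^ 2 * v * (x ^ 2)⁻¹) * (x ^ 2)⁻¹) * b := by group
        _ = (x ^ 2 * x ^ 2)⁻¹ * (b * v * b) * (x ^ 2 * x ^ 2) := by rw [h1]; group
        _ = _ := by rw [h4]
  -- a fixed point
  obtain ⟨u, hu, hu1, hbu⟩ : ∃ u ∈ dlR x (Vm L), u ≠ 1 ∧ b * u * b = u := by
    obtain ⟨w, hw, hw1⟩ := ha.exists_ne h
    have hbW : ∀ u ∈ dlR x (Vm L), b * u * b ∈ dlR x (Vm L) := fun u hu => by
      have := mul_mem ((ha.stab_conj h hn hW).2 u (hM.dlR_le hu)) hu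
      rwa [mul_assoc, elem_sq hM.elem (hM.dlR_le hu), mul_one] at this
    set r := b * w * b * w with hr
    by_cases hr1 : r = 1
    · exact ⟨w, hw, hw1, by
        rw [mul_eq_one_iff_eq_inv.1 (hr ▸ hr1 : b * w * b * w = 1), elem_inv hM.elem (hM.dlR_le hw)]⟩
    · refine ⟨r, mul_mem (hbW w hw) hw, hr1, ?_⟩
      calc b * r * b = (b * b) * w * (b * w * b) := by rw [hr]; group
        _ = r := by
          rw [hbb, one_mul, hr]
          exact elem_comm hM.elem (hM.dlR_le hw) (hM.dlR_le (hbW w hw))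
  obtain ⟨u0, hu0, hu01, hau0⟩ : ∃ u ∈ dlR x (Vm L), u ≠ 1 ∧ a * u * a = u := by
    obtain ⟨w, hw, hw1⟩ := ha.exists_ne h
    have haW : ∀ u ∈ dlR x (Vm L), a * u * a ∈ dlR x (Vm L) := fun u hu => by
      have := mul_mem (ha.brk u (hM.dlR_le hu)) hu
      rwa [mul_assoc, elem_sq hM.elem (hM.dlR_le hu), mul_one] at this
    set r := a * w * a * w with hr
    by_cases hr1 : r = 1
    · exact ⟨w, hw, hw1, by
        rw [mul_eq_one_iff_eq_inv.1 (hr ▸ hr1 : a * w * a * w = 1), elem_inv hM.elem (hM.dlR_le hw)]⟩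
    · refine ⟨r, mul_mem (haW w hw) hw, hr1, ?_⟩
      calc a * r * a = (a * a) * w * (a * w * a) := by rw [hr]; group
        _ = r := by
          rw [ha.a2, one_mul, hr]
          exact elem_comm hM.elem (hM.dlR_le hw) (hM.dlR_le (haW w hw))
  obtain ⟨k, hk⟩ : ∃ k : ℕ, u = x ^ k * u0 * (x ^ k)⁻¹ := by
    rcases ha.W_cases h hu0 hu01 hu with e | e | e | e
    · exact absurd e hu1
    · exact ⟨0, by rw [e]; group⟩
    · exact ⟨1, by rw [e, pow_one]⟩
    · exact ⟨2, by rw [e, pow_two]; group⟩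
  refine ⟨k, ?_⟩
  set d := x ^ k * a * (x ^ k)⁻¹ with hd
  have hdd : d * d = 1 := by
    rw [hd, show x ^ k * a * (x ^ k)⁻¹ * (x ^ k * a * (x ^ k)⁻¹) = x ^ k * (a * a) * (x ^ k)⁻¹ by group, ha.a2]
    group
  have hdinv : d⁻¹ = d := inv_eq_of_mul_eq_one_right hdd
  have hdx : d * x * d = x⁻¹ := by
    rw [hd, show x ^ k * a * (x ^ k)⁻¹ * x * (x ^ k * a * (x ^ k)⁻¹) = x ^ k * (a * x * a) * (x ^ k)⁻¹ by group,
      ha.ax]
    group
  have hdu : d * u * d = u := by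
    rw [hd, hk, show x ^ k * a * (x ^ k)⁻¹ * (x ^ k * u0 * (x ^ k)⁻¹) * (x ^ k * a * (x ^ k)⁻¹) =
      x ^ k * (a * u0 * a) * (x ^ k)⁻¹ by group, hau0]
  have hdR : ∀ v ∈ Vm L, d * (x * v * x⁻¹) * d = x⁻¹ * (d * v * d) * x := fun v _ => by
    calc d * (x * v * x⁻¹) * d = (d * x * d) * (d⁻¹ * v * d⁻¹) * (d⁻¹ * x * d⁻¹)⁻¹ := by group
      _ = _ := by rw [hdinv, hdx, inv_inv]
  -- both fix the fixed points of `x`
  have hfix : ∀ g ∈ L, g * g = 1 → (∀ v ∈ Vm L, g * (x * v * x⁻¹) * g = x⁻¹ * (g * v * g) * x) →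
      ∀ c ∈ Vm L, x * c * x⁻¹ = c → g * c * g * c ∈ dlR x (Vm L) → g * c * g = c := by
    intro g hg hgg hgR c hc hxc hgc
    have h1 : x * (g * c * g) * x⁻¹ = g * c * g := by
      have h2 := hgR c hc
      rw [hxc] at h2
      calc x * (g * c * g) * x⁻¹ = x * (x⁻¹ * (g * c * g) * x) * x⁻¹ := by rw [← h2]
        _ = _ := by group
    have h3 := hM.fix_eq_one hgc (by
      calc x * (g * c * g * c) * x⁻¹ = (x * (g * c * g) * x⁻¹) * (x * c * x⁻¹) := by group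
        _ = _ := by rw [h1, hxc])
    rw [mul_eq_one_iff_eq_inv.1 h3, elem_inv hM.elem hc]
  have hdL : d ∈ L := mul_mem (mul_mem (pow_mem ha.xL k) (h.J_le_L ha.aJ)) (inv_mem (pow_mem ha.xL k))
  have hWx : ∀ m : ℕ, ∀ w ∈ dlR x (Vm L), x ^ m * w * (x ^ m)⁻¹ ∈ dlR x (Vm L) := fun m => by
    induction m with
    | zero => intro w hw; simpa using hw
    | succ m ih =>
      intro w hw
      rw [pow_succ', show x * x ^ m * w * (x * x ^ m)⁻¹ = x * (x ^ m * w * (x ^ m)⁻¹) * x⁻¹ by group]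
      exact hM.conj_mem_dlR (ih w hw)
  have hdW : ∀ v ∈ Vm L, d * v * d * v ∈ dlR x (Vm L) := by
    intro v hv
    set v' := (x ^ k)⁻¹ * v * (x ^ k)⁻¹⁻¹
    have := hWx k _ (ha.brk v' (conj_mem (inv_mem (h.V_norm (pow_mem ha.xL k))) hv))
    rw [show d * v * d * v = x ^ k * (a * v' * a * v') * (x ^ k)⁻¹ by simp only [v']; rw [hd]; group]
    exact this
  have hagree : ∀ v ∈ Vm L, b * v * b = d * v * d := by
    intro v hv
    obtain ⟨c, hc, r, hr, hxc, rfl⟩ := hM.split hv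
    have hr' : b * r * b = d * r * d := by
      have hstep : ∀ z ∈ Vm L, b * z * b = d * z * d → b * (x * z * x⁻¹) * b = d * (x * z * x⁻¹) * d :=
        fun z hz he => by rw [hR1 z hz, hdR z hz, he]
      have huV := hM.dlR_le hu
      rcases ha.W_cases h hu hu1 hr with e | e | e | e <;> rw [e]
      · rw [mul_one, mul_one, hbb, hdd]
      · rw [hbu, hdu]
      · exact hstep u huV (by rw [hbu, hdu])
      · exact hstep _ (conj_mem hM.norm huV) (hstep u huV (by rw [hbu, hdu]))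
    have hbc := hfix b hbL hbb hR1 c hc hxc ((ha.stab_conj h hn hW).2 c hc)
    have hdc := hfix d hdL hdd hdR c hc hxc (hdW c hc)
    calc b * (c * r) * b = b * c * (b * b) * r * b := by rw [hbb]; group
      _ = (b * c * b) * (b * r * b) := by group
      _ = (d * c * d) * (d * r * d) := by rw [hbc, hr', hdc]
      _ = d * c * (d * d) * r * d := by group
      _ = _ := by rw [hdd]; group
  set c2 := d⁻¹ * b with hc2
  have hc2C : c2 ∈ Cv L := (Setting.mem_Cv_iff (mul_mem (inv_mem hdL) hbL)).2 fun v hv => by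
    calc d⁻¹ * b * v * (d⁻¹ * b)⁻¹ = d⁻¹ * (b * v * b⁻¹) * d := by group
      _ = d * (d * v * d) * d := by rw [hbinv, hagree v hv, hdinv]
      _ = (d * d) * v * (d * d) := by group
      _ = v := by rw [hdd, one_mul, mul_one]
  have hdN : d ∈ N0 T L :=
    mul_mem (mul_mem (pow_mem (ha.x_N0 h) k) (ha.a_N0 h)) (inv_mem (pow_mem (ha.x_N0 h) k))
  have hcm := h.comm_N0 hc2C hdN
  refine h.mem_P_of_sq hc2C ?_
  rw [show c2 * c2 = ⁅c2, d⁆ from ?_]
  · exact hcm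
  rw [commutatorElement_def, hc2, hdinv]
  calc d * b * (d * b) = d * b * d * b := by group
    _ = d * b * d * b⁻¹ := by rw [hbinv]
    _ = _ := by group

/-- `O₂(L)⟨x⟩`. -/
abbrev X0 (L : Subgroup G) (x : G) : Subgroup G := Pc L ⊔ zpowers x

/-- The component attached to an atom. -/
abbrev Kx (L : Subgroup G) (x : G) : Subgroup G := oddGen (X0 L x)

theorem X0_le (ha : Atom T L x a) : X0 L x ≤ L := sup_le (pCoreOf_le L) (zpowers_le.2 ha.xL)

/-- The stabilizer of the four-group normalizes `O₂(L)⟨x⟩`. -/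
theorem stab_X0 (ha : Atom T L x a) (h : Setting T L) {n : G} (hn : n ∈ L)
    (hW : ∀ w ∈ dlR x (Vm L), n * w * n⁻¹ ∈ dlR x (Vm L)) : n ∈ normalizer (X0 L x : Set G) := by
  refine mem_normalizer_of_cj_le ?_
  rw [show cj n (X0 L x) = cj n (Pc L) ⊔ cj n (zpowers x) from Subgroup.map_sup _ _ _,
    cj_eq_self (h.P_norm hn)]
  refine sup_le le_sup_left ?_
  rw [cj, MonoidHom.map_zpowers, zpowers_le]
  show n * x * n⁻¹ ∈ X0 L x
  obtain ⟨i, -, hic⟩ := ha.conj_x h hn hW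
  obtain ⟨k, hk⟩ := ha.conj_a h hn hW
  set y := n * x * n⁻¹ with hy
  set b := n * a * n⁻¹ with hb
  set c := (x ^ i)⁻¹ * y with hc
  set d := x ^ k * a * (x ^ k)⁻¹ with hd
  set p := d⁻¹ * b with hp
  have hbN : b ∈ N0 T L := subset_closure ⟨n, hn, a, ha.aJ, rfl⟩
  have hdinv : d⁻¹ = d := by
    rw [hd, show (x ^ k * a * (x ^ k)⁻¹)⁻¹ = x ^ k * a⁻¹ * (x ^ k)⁻¹ by group, ha.a_inv]
  have hq := h.comm_N0 hic hbN
  set q := ⁅c, b⁆ with hqdef
  -- `y² ≡ x^i b x^{-i} b`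
  have hbinv : b⁻¹ = b := by
    rw [hb, show (n * a * n⁻¹)⁻¹ = n * a⁻¹ * n⁻¹ by group, ha.a_inv]
  have hyinv : b * y⁻¹ * b = y := by
    rw [hb, hy, show n * a * n⁻¹ * (n * x * n⁻¹)⁻¹ * (n * a * n⁻¹) = n * (a⁻¹ * x * a⁻¹)⁻¹ * n⁻¹ by group,
      ha.a_inv, ha.ax, inv_inv]
  have hy2 : y * y = (x ^ i * q * (x ^ i)⁻¹) * (x ^ i * b * (x ^ i)⁻¹ * b) := by
    calc y * y = y * (b * y⁻¹ * b) := by rw [hyinv]
      _ = x ^ i * c * b * (x ^ i * c)⁻¹ * b := by
        rw [show x ^ i * c = y by rw [hc]; group]; group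
      _ = _ := by rw [hqdef, commutatorElement_def]; group
  have hXx : ∀ m : ℕ, x ^ m ∈ X0 L x := fun m => pow_mem (mem_sup_right (mem_zpowers x)) m
  have hax : a * (x ^ i)⁻¹ * a = x ^ i := by
    calc a * (x ^ i)⁻¹ * a = a * x⁻¹ ^ i * a⁻¹ := by rw [inv_pow, ha.a_inv]
      _ = (a * x⁻¹ * a⁻¹) ^ i := by rw [conj_pow]
      _ = x ^ i := by
        rw [show a * x⁻¹ * a⁻¹ = (a * x * a⁻¹)⁻¹ by group, ha.a_inv, ha.ax, inv_inv]
  have hmain : x ^ i * b * (x ^ i)⁻¹ * b ∈ X0 L x := by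
    have hbd : b = d * p := by rw [hp]; group
    set g1 := x ^ i * d
    set g2 := (x ^ i)⁻¹ * d
    have hgg : g1 * g2 = x ^ i * x ^ i := by
      have e2 : d * (x ^ i)⁻¹ * d = x ^ i := by
        rw [hd, show x ^ k * a * (x ^ k)⁻¹ * (x ^ i)⁻¹ * (x ^ k * a * (x ^ k)⁻¹) =
          x ^ k * (a * (x ^ i)⁻¹ * a) * (x ^ k)⁻¹ by group, hax]
        group
      calc g1 * g2 = x ^ i * (d * (x ^ i)⁻¹ * d) := by simp only [g1, g2]; group
        _ = _ := by rw [e2]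
    have hg1 : g1 ∈ L := mul_mem (pow_mem ha.xL i)
      (mul_mem (mul_mem (pow_mem ha.xL k) (h.J_le_L ha.aJ)) (inv_mem (pow_mem ha.xL k)))
    rw [show x ^ i * b * (x ^ i)⁻¹ * b = (g1 * p * g1⁻¹) * (g1 * g2) * p by
      rw [hbd]; simp only [g1, g2]; group, hgg]
    exact mul_mem (mul_mem (mem_sup_left (conj_mem (h.P_norm hg1) hk)) (mul_mem (hXx i) (hXx i)))
      (mem_sup_left hk)
  have hyy : y * y ∈ X0 L x := by
    rw [hy2]
    exact mul_mem (mem_sup_left (conj_mem (h.P_norm (pow_mem ha.xL i)) hq)) hmain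
  have := mul_mem hyy hyy
  rwa [show y * y * (y * y) = y ^ 3 * y by simp only [pow_succ, pow_zero, one_mul, mul_assoc],
    show y ^ 3 = 1 by rw [hy, conj_pow, ha.x3]; group, one_mul] at this

/-- `N0` stabilizes the four-group. -/
theorem N0_stab (ha : Atom T L x a) (h : Setting T L) {g : G} (hg : g ∈ N0 T L) :
    ∀ w ∈ dlR x (Vm L), g * w * g⁻¹ ∈ dlR x (Vm L) := by
  have hM := ha.mover h
  intro w hw
  obtain ⟨v, hv, rfl⟩ := hM.mem_dlR.1 hw
  have hgV := h.V_norm (h.N0_le hg)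
  have hv' := conj_mem hgV hv
  obtain ⟨c, hc, h1 | h1⟩ := ha.conj_cases h hg
  · rw [show g * dl x v * g⁻¹ = (g * x * g⁻¹) * (g * v * g⁻¹) * (g * x * g⁻¹)⁻¹ * (g * v * g⁻¹) by
      rw [dl]; group, h1,
      show x * c * (g * v * g⁻¹) * (x * c)⁻¹ = x * (c * (g * v * g⁻¹) * c⁻¹) * x⁻¹ by group, C_V h hc hv']
    exact hM.mem_dlR.2 ⟨_, hv', rfl⟩
  · rw [show g * dl x v * g⁻¹ = (g * x * g⁻¹) * (g * v * g⁻¹) * (g * x * g⁻¹)⁻¹ * (g * v * g⁻¹) by
      rw [dl]; group, h1,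
      show x⁻¹ * c * (g * v * g⁻¹) * (x⁻¹ * c)⁻¹ = x⁻¹ * (c * (g * v * g⁻¹) * c⁻¹) * x by group, C_V h hc hv']
    -- `x² v + v` is the image of `x v + v`
    set u := g * v * g⁻¹
    refine hM.mem_dlR.2 ⟨dl x u, hM.dl_mem hv', ?_⟩
    have hu1 := conj_mem hM.norm hv'
    have hu2 := conj_mem hM.norm hu1
    have e : x⁻¹ * u * x = x * (x * u * x⁻¹) * x⁻¹ := by
      conv_lhs => rw [← hM.conj3 u]
      group
    rw [dl, dl, e, show x * (x * u * x⁻¹ * u) * x⁻¹ * (x * u * x⁻¹ * u) =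
      x * (x * u * x⁻¹) * x⁻¹ * ((x * u * x⁻¹) * (x * u * x⁻¹)) * u by group, elem_sq hM.elem hu1, mul_one]

theorem N0_norm_X0 (ha : Atom T L x a) (h : Setting T L) : N0 T L ≤ normalizer (X0 L x : Set G) :=
  fun _ hg => ha.stab_X0 h (h.N0_le hg) (ha.N0_stab h hg)

theorem C_norm_X0 (ha : Atom T L x a) (h : Setting T L) : Cv L ≤ normalizer (X0 L x : Set G) := fun c hc =>
  ha.stab_X0 h (mem_inf.1 hc).1 fun w hw => by rw [C_V h hc ((ha.mover h).dlR_le hw)]; exact hw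

theorem idx_X0 (ha : Atom T L x a) (h : Setting T L) : (Pc L).relIndex (X0 L x) = 3 := by
  set P' := (Pc L).subgroupOf (X0 L x)
  haveI : P'.Normal := normal_subgroupOf_of_le_normalizer (ha.X0_le.trans h.P_norm)
  have e := Subgroup.relIndex_sup_right (H := (zpowers x).subgroupOf (X0 L x)) (K := P')
  rw [← subgroupOf_sup le_sup_right le_sup_left, sup_comm, subgroupOf_self, relIndex_top_right,
    relIndex_subgroupOf le_sup_right] at e
  have hbot : Pc L ⊓ zpowers x = ⊥ := by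
    rw [eq_bot_iff]
    intro y hy
    refine mem_bot.2 (eq_one_of_odd (isPGroup_pCoreOf L) (mem_inf.1 hy).1 ?_)
    have h3 : orderOf y ∣ 3 := by
      have := orderOf_dvd_natCard (⟨y, (mem_inf.1 hy).2⟩ : zpowers x)
      rwa [Nat.card_zpowers, ha.order, orderOf_mk] at this
    exact Odd.of_dvd_nat (by decide) h3
  show P'.index = 3
  rw [e, ← inf_relIndex_right, hbot, relIndex_bot_left, Nat.card_zpowers, ha.order]

theorem two_mem (ha : Atom T L x a) (h : Setting T L) {R : Subgroup G} (hR : IsPGroup 2 R)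
    (hRX : R ≤ X0 L x) : R ≤ Pc L := by
  intro y hy
  haveI : ((Pc L).subgroupOf (X0 L x)).Normal :=
    normal_subgroupOf_of_le_normalizer (ha.X0_le.trans h.P_norm)
  have h3 := Subgroup.pow_index_mem ((Pc L).subgroupOf (X0 L x)) ⟨y, hRX hy⟩
  rw [mem_subgroupOf, show ((Pc L).subgroupOf (X0 L x)).index = 3 from ha.idx_X0 h] at h3
  obtain ⟨k, hk⟩ := hR ⟨y, hy⟩
  have hk' : y ^ 2 ^ k = 1 := congrArg Subtype.val hk
  exact mem_of_coprime_pows (Nat.Coprime.pow_left k (by decide : Nat.Coprime 2 3)) (by rw [hk']; exact one_mem _) h3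

theorem x_mem_Kx (ha : Atom T L x a) : x ∈ Kx L x :=
  mem_oddGen (mem_sup_right (mem_zpowers x)) (by rw [ha.order]; decide)

theorem J_norm_Kx (ha : Atom T L x a) (h : Setting T L) : Jof T ≤ normalizer (Kx L x : Set G) :=
  (h.J_le_N0.trans (ha.N0_norm_X0 h)).trans (normalizer_le_oddGen _)

theorem P_norm_Kx (L : Subgroup G) (x : G) : Pc L ≤ normalizer (Kx L x : Set G) :=
  ((le_sup_left : Pc L ≤ X0 L x).trans le_normalizer).trans (normalizer_le_oddGen _)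

theorem tri (ha : Atom T L x a) (h : Setting T L) :
    Cfsg.pCoreOf 2 (Kx L x) = Kx L x ⊓ Pc L ∧ Tri (Kx L x) (Jof T) := by
  set K := Kx L x with hK
  set P := Pc L
  have hKL : K ≤ L := (oddGen_le _).trans ha.X0_le
  have hO : Cfsg.pCoreOf 2 K = K ⊓ P := le_antisymm
    (le_inf (pCoreOf_le K) (ha.two_mem h (isPGroup_pCoreOf K) ((pCoreOf_le K).trans (oddGen_le _))))
    (le_pCoreOf ((isPGroup_pCoreOf L).to_le inf_le_right) inf_le_left
      (Cfsg.Lib.Coprime.le_normalizer_inf le_normalizer (hKL.trans h.P_norm)))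
  have hsup : X0 L x = P ⊔ K := le_antisymm (sup_le le_sup_left (zpowers_le.2 (mem_sup_right ha.x_mem_Kx)))
    (sup_le le_sup_left (oddGen_le _))
  have hidx : (Cfsg.pCoreOf 2 K).relIndex K = 3 := by
    rw [hO, inf_comm, inf_relIndex_right]
    haveI : (P.subgroupOf (X0 L x)).Normal := normal_subgroupOf_of_le_normalizer (ha.X0_le.trans h.P_norm)
    have e := Subgroup.relIndex_sup_right (H := K.subgroupOf (X0 L x)) (K := P.subgroupOf (X0 L x))
    rw [← subgroupOf_sup (oddGen_le _) le_sup_left, sup_comm K P, ← hsup, subgroupOf_self, relIndex_top_right,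
      relIndex_subgroupOf (oddGen_le _)] at e
    exact e.symm.trans (ha.idx_X0 h)
  refine ⟨hO, oddGen_idem _, ?_, hidx⟩
  set Kt := ⁅K, Jof T⁆
  have hKtK : Kt ≤ K := commutator_le.2 fun k hk j hj => by
    rw [commutatorElement_def, mul_assoc, mul_assoc]
    exact mul_mem hk (by simpa [mul_assoc] using conj_mem (ha.J_norm_Kx h hj) (inv_mem hk))
  have hxKt : x ∈ Kt := by
    have h1 : ⁅x, a⁆ ∈ Kt := commutator_mem_commutator ha.x_mem_Kx ha.aJ
    have e : ⁅x, a⁆ = x * x := by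
      rw [commutatorElement_def, show x * a * x⁻¹ * a⁻¹ = x * (a * x * a⁻¹)⁻¹ by group,
        ha.a_inv, ha.ax, inv_inv]
    rw [e] at h1
    have := mul_mem h1 h1
    rwa [show x * x * (x * x) = x ^ 3 * x by simp only [pow_succ, pow_zero, one_mul, mul_assoc], ha.x3,
      one_mul] at this
  refine le_antisymm hKtK ((closure_le Kt).2 fun g hg => mem_of_two_power_index
    (Cfsg.Lib.Coprime.le_normalizer_commutator_left (Jof T) K) ?_ (show g ∈ K from mem_oddGen hg.1 hg.2) hg.2)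
  haveI : Fact (Nat.Prime 2) := ⟨Nat.prime_two⟩
  obtain ⟨m, hm⟩ := IsPGroup.iff_card.1 (isPGroup_pCoreOf (p := 2) K)
  have h1 : Nat.card (Cfsg.pCoreOf 2 K) * 3 = Nat.card K := by
    rw [← hidx, ← relIndex_bot_left, relIndex_mul_relIndex _ _ _ bot_le (pCoreOf_le K), relIndex_bot_left]
  have h2 : 3 * (zpowers x).relIndex K = Nat.card K := by
    rw [← ha.order, ← Nat.card_zpowers, ← relIndex_bot_left, relIndex_mul_relIndex _ _ _ bot_le
      (zpowers_le.2 ha.x_mem_Kx), relIndex_bot_left]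
  have h3 : (zpowers x).relIndex K = 2 ^ m := by rw [← hm]; omega
  obtain ⟨j, -, hj⟩ := (Nat.dvd_prime_pow Nat.prime_two).1
    (h3 ▸ relIndex_dvd_of_le_left K (zpowers_le.2 hxKt))
  exact ⟨j, hj⟩

theorem wOf_Kx (ha : Atom T L x a) (h : Setting T L) : Cfsg.wOf (Kx L x) = dlR x (Vm L) := by
  set K := Kx L x
  obtain ⟨hO, htri⟩ := ha.tri h
  have hM := ha.mover h
  have hM' := htri.mover ha.x_mem_Kx ha.order
  set W := dlR x (Vm L)
  have hWZ : W ≤ Cfsg.omegaCenterOf (Cfsg.pCoreOf 2 K) := by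
    intro w hw
    obtain ⟨v, hv, rfl⟩ := hM.mem_dlR.1 hw
    obtain ⟨hvP, hvc, hv2⟩ := mem_omegaCenterOf.1 (hM.dl_mem hv)
    have hdK : dl x v ∈ K := by
      rw [dl, show x * v * x⁻¹ * v = x * (v * x⁻¹ * v⁻¹) * (v * v) by group,
        elem_sq hM.elem hv, mul_one]
      exact mul_mem ha.x_mem_Kx (conj_mem (P_norm_Kx L x (omegaCenterOf_le _ hv)) (inv_mem ha.x_mem_Kx))
    rw [hO]
    exact mem_omegaCenterOf.2 ⟨mem_inf.2 ⟨hdK, hvP⟩, fun o ho => hvc o (mem_inf.1 ho).2, hv2⟩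
  have hle : W ≤ Cfsg.wOf K := by
    intro w hw
    rw [htri.wOf_eq ha.x_mem_Kx ha.order]
    obtain ⟨u, hu, he⟩ := hM.mem_dlR.1 hw
    exact hM'.mem_dlR.2 ⟨_, hWZ (hM.conj_mem_dlR hw), hM.dl_conj_self hw⟩
  obtain ⟨A, hA, a', ha', hna⟩ : ∃ A, MaxE T A ∧ ∃ a' ∈ A, a' ∉ kCen K := by
    by_contra hno
    push Not at hno
    exact htri.not_le_kCen (jof_le_iff.2 hno)
  have hKJ : K ⊔ Jof T ≤ L := sup_le ((oddGen_le _).trans ha.X0_le) h.J_le_L
  obtain ⟨h4, -⟩ := core htri hA.2.1 (maxE_le_jof hA)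
    (fun B hB hBe => h.two_comp hA (hB.trans hKJ) hBe) ha' hna
  exact (eq_of_le_of_card_ge hle (h4.trans (ha.card_eq h).ge)).symm

theorem isComp (ha : Atom T L x a) (h : Setting T L) : Cfsg.IsJComponent T (Kx L x) := by
  obtain ⟨-, htri⟩ := ha.tri h
  refine ⟨htri.gen, htri.comm, htri.idx, fun S hS hJS => ?_, ?_, fun w hw => ?_⟩
  · exact h.jof_two hS.2.1 (hS.1.trans (sup_le ((oddGen_le _).trans ha.X0_le) h.J_le_L)) hJS
  · rw [ha.wOf_Kx h, ha.card_eq h]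
  · rw [ha.wOf_Kx h] at hw
    exact elem_sq (ha.mover h).elem ((ha.mover h).dlR_le hw)

theorem subnormal (ha : Atom T L x a) (h : Setting T L) : ((Kx L x).subgroupOf L).IsSubnormal := by
  have hstep : ∀ A B : Subgroup G, A ≤ B → B ≤ L → B ≤ normalizer (A : Set G) →
      (B.subgroupOf L).IsSubnormal → (A.subgroupOf L).IsSubnormal := fun A B hAB _ hn hsn => by
    refine Subgroup.IsSubnormal.step _ (B.subgroupOf L) (comap_mono hAB) hsn
      (normal_subgroupOf_of_le_normalizer (le_normalizer_of_conj fun g hg y hy => ?_))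
    exact mem_subgroupOf.2 (conj_mem (hn (mem_subgroupOf.1 hg)) (mem_subgroupOf.1 hy))
  have hNP : N0 T L ⊔ Pc L ≤ L := sup_le h.N0_le (pCoreOf_le L)
  refine hstep _ (X0 L x) (oddGen_le _) ha.X0_le (le_normalizer.trans (normalizer_le_oddGen _))
    (hstep _ (N0 T L ⊔ Pc L) (sup_le le_sup_right ((zpowers_le.2 (ha.x_N0 h)).trans le_sup_left)) hNP
      (sup_le (ha.N0_norm_X0 h) (h.P_le_C.trans (ha.C_norm_X0 h))) ?_)
  refine Subgroup.Normal.isSubnormal (normal_subgroupOf_of_le_normalizer fun l hl => ?_)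
  refine mem_normalizer_of_cj ?_
  rw [show cj l (N0 T L ⊔ Pc L) = cj l (N0 T L) ⊔ cj l (Pc L) from Subgroup.map_sup _ _ _,
    cj_eq_self (h.N0_norm hl), cj_eq_self (h.P_norm hl)]

end Atom

namespace Setting

open Atom in
theorem classify (h : Setting T L) {K : Subgroup G} (hK : Cfsg.IsJComponent T K) (hKL : K ≤ L) :
    ∃ x a, Atom T L x a ∧ K = Kx L x ∧ Cfsg.wOf K = dlR x (Vm L) := by
  have htri := tri_of_comp hK
  set O := Cfsg.pCoreOf 2 K with hO
  set P := Pc L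
  have hKJ : K ⊔ Jof T ≤ L := sup_le hKL h.J_le_L
  have hPJ : P ≤ normalizer (Jof T : Set G) := h.P_le_T.trans
    (le_normalizer.trans (Cfsg.Lib.Thompson.normalizer_le_normalizer_thompson T))
  have hPK : P ≤ normalizer (K : Set G) :=
    Cfsg.Lib.Misc.SweepLocal.jComponent_normalized h.syl.2.1 hK (hKJ.trans h.P_norm) hPJ
  have hPc : P ≤ kCen K := fun p hp => by
    refine ⟨hPK hp, fun k hk => ?_⟩
    refine le_pCoreOf ((isPGroup_pCoreOf L).to_le inf_le_right) inf_le_left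
      (Cfsg.Lib.Coprime.le_normalizer_inf le_normalizer (hKL.trans h.P_norm))
      (mem_inf.2 (⟨?_, ?_⟩ : ⁅k, p⁆ ∈ K ∧ ⁅k, p⁆ ∈ P))
    · rw [commutatorElement_def, mul_assoc, mul_assoc]
      exact mul_mem hk (by simpa [mul_assoc] using conj_mem (hPK hp) (inv_mem hk))
    · rw [commutatorElement_def]
      exact mul_mem (conj_mem (h.P_norm (hKL hk)) hp) (inv_mem hp)
  obtain ⟨x, a, ha, hna⟩ : ∃ x a, Atom T L x a ∧ a ∉ kCen K := by
    by_contra hno
    push Not at hno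
    exact htri.not_le_kCen (h.J_le_kill hPc hno)
  obtain ⟨y, hyK, hy3, hay⟩ := htri.exists_inverted (htri.J_norm ha.aJ) ha.a2 hna
  have hKN : K ≤ N0 T L := by
    conv_lhs => rw [← htri.comm]
    refine commutator_le.2 fun k hk j hj => ?_
    rw [commutatorElement_def]
    exact mul_mem (subset_closure ⟨k, hKL hk, j, hj, rfl⟩) (inv_mem (h.J_le_N0 hj))
  have hX := ha.N0_norm_X0 h
  -- `y` lies in `X0`
  have hyX : y ∈ X0 L x := by
    obtain ⟨k, hk⟩ := ha.conj_a h (hKL hyK) (ha.N0_stab h (hKN hyK))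
    set d := x ^ k * a * (x ^ k)⁻¹ with hd
    set p := d⁻¹ * (y * a * y⁻¹) with hp
    have e1 : y * a * y⁻¹ * a = y * y := by
      rw [show y * a * y⁻¹ * a = y * (a⁻¹ * y * a⁻¹)⁻¹ by group, ha.a_inv, hay, inv_inv]
    have e2 : a * (x ^ k)⁻¹ * a = x ^ k := by
      calc a * (x ^ k)⁻¹ * a = a * x⁻¹ ^ k * a⁻¹ := by rw [inv_pow, ha.a_inv]
        _ = (a * x⁻¹ * a⁻¹) ^ k := by rw [conj_pow]
        _ = x ^ k := by
          rw [show a * x⁻¹ * a⁻¹ = (a * x * a⁻¹)⁻¹ by group, ha.a_inv, ha.ax, inv_inv]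
    have hyy : y * y = x ^ k * x ^ k * (a * p * a⁻¹) := by
      calc y * y = d * p * a := by rw [← e1, hp]; group
        _ = x ^ k * (a * (x ^ k)⁻¹ * a) * (a⁻¹ * p * a) := by rw [hd]; group
        _ = _ := by rw [e2, ha.a_inv]
    have hXx : x ^ k ∈ X0 L x := pow_mem (mem_sup_right (mem_zpowers x)) k
    have hm : y * y ∈ X0 L x := by
      rw [hyy]
      exact mul_mem (mul_mem hXx hXx) (mem_sup_left (conj_mem (h.P_norm (h.J_le_L ha.aJ)) hk))
    have := mul_mem hm hm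
    rwa [show y * y * (y * y) = y ^ 3 * y by simp only [pow_succ, pow_zero, one_mul, mul_assoc],
      show y ^ 3 = 1 by rw [← hy3]; exact pow_orderOf_eq_one y, one_mul] at this
  -- `K ≤ X0`
  set M := K ⊓ X0 L x
  have hKM : K ≤ normalizer (M : Set G) :=
    Cfsg.Lib.Coprime.le_normalizer_inf le_normalizer (hKN.trans hX)
  have hKX : K ≤ X0 L x := by
    conv_lhs => rw [← htri.gen]
    refine (closure_le _).2 fun g hg => (mem_inf.1 (?_ : g ∈ M)).2
    refine mem_of_two_power_index hKM ?_ hg.1 hg.2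
    haveI : Fact (Nat.Prime 2) := ⟨Nat.prime_two⟩
    obtain ⟨m, hm : Nat.card O = 2 ^ m⟩ := IsPGroup.iff_card.1 (isPGroup_pCoreOf (p := 2) K)
    have h1 : Nat.card O * 3 = Nat.card K := by
      rw [← htri.idx, ← relIndex_bot_left, relIndex_mul_relIndex _ _ _ bot_le (pCoreOf_le K), relIndex_bot_left]
    have h2 : 3 * (zpowers y).relIndex K = Nat.card K := by
      rw [← hy3, ← Nat.card_zpowers, ← relIndex_bot_left, relIndex_mul_relIndex _ _ _ bot_le
        (zpowers_le.2 hyK), relIndex_bot_left]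
    have h3 : (zpowers y).relIndex K = 2 ^ m := by rw [← hm]; omega
    obtain ⟨j, -, hj⟩ := (Nat.dvd_prime_pow Nat.prime_two).1
      (h3 ▸ relIndex_dvd_of_le_left K (zpowers_le.2 (mem_inf.2 ⟨hyK, hyX⟩) : zpowers y ≤ M))
    exact ⟨j, hj⟩
  have hle : K ≤ Kx L x := by
    conv_lhs => rw [← htri.gen]
    exact oddGen_mono hKX
  -- and conversely
  have hxKP : X0 L x ≤ K ⊔ P := by
    refine sup_le le_sup_right (zpowers_le.2 ?_)
    have hzn : zpowers x ≤ normalizer (P : Set G) := zpowers_le.2 (h.P_norm ha.xL)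
    obtain ⟨p, hp, z, hz, hpz⟩ := (Cfsg.Lib.Coprime.mem_sup_of_le_normalizer hzn).1 hyX
    have hz1 : z ≠ 1 := fun e => by
      have := eq_one_of_odd (isPGroup_pCoreOf L) (by rw [← hpz, e, mul_one]; exact hp : y ∈ P)
        (by rw [hy3]; decide)
      rw [this, orderOf_one] at hy3
      omega
    have hzm : z ∈ K ⊔ P := by
      rw [show z = p⁻¹ * y by rw [← hpz]; group]
      exact mul_mem (mem_sup_right (inv_mem hp)) (mem_sup_left hyK)
    haveI : Fact (Nat.Prime 3) := ⟨Nat.prime_three⟩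
    have h9 : zpowers z = zpowers x := eq_of_le_of_card_ge (zpowers_le.2 hz) (by
      have hdvd : orderOf z ∣ 3 := by
        have := orderOf_dvd_natCard (⟨z, hz⟩ : zpowers x)
        rwa [Nat.card_zpowers, ha.order, orderOf_mk] at this
      rw [Nat.card_zpowers, Nat.card_zpowers, ha.order]
      rcases (Nat.dvd_prime Nat.prime_three).1 hdvd with h5 | h5
      · exact absurd (orderOf_eq_one_iff.1 h5) hz1
      · exact h5.ge)
    exact (zpowers_le.2 hzm) (h9.symm ▸ mem_zpowers x)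
  refine ⟨x, a, ha, le_antisymm hle ((closure_le K).2 fun g hg => ?_), ?_⟩
  · exact mem_of_two_power_index (sup_le le_normalizer hPK) (relIndex_sup_two_pow (isPGroup_pCoreOf L) hPK)
      (hxKP hg.1) hg.2
  · rw [show K = Kx L x from le_antisymm hle ((closure_le K).2 fun g hg => mem_of_two_power_index
      (sup_le le_normalizer hPK) (relIndex_sup_two_pow (isPGroup_pCoreOf L) hPK) (hxKP hg.1) hg.2)]
    exact ha.wOf_Kx h

/-- An element of `L` stabilizing `W_K` normalizes `K`. -/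
theorem stab_normalizes (h : Setting T L) {K : Subgroup G} (hK : Cfsg.IsJComponent T K) (hKL : K ≤ L)
    {n : G} (hn : n ∈ L) (hW : ∀ w ∈ Cfsg.wOf K, n * w * n⁻¹ ∈ Cfsg.wOf K) : n ∈ normalizer (K : Set G) := by
  obtain ⟨x, a, ha, rfl, hWeq⟩ := h.classify hK hKL
  exact normalizer_le_oddGen _ (ha.stab_X0 h hn (hWeq ▸ hW))

/-- `T` normalizes a component whose four-group meets `Z(T)`. -/
theorem T_normalizes (h : Setting T L) {K : Subgroup G} (hK : Cfsg.IsJComponent T K) (hKL : K ≤ L)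
    (hZW : T ⊓ centralizer (T : Set G) ⊓ Cfsg.wOf K ≠ ⊥) : T ≤ normalizer (K : Set G) := by
  obtain ⟨x, a, ha, rfl, hWeq⟩ := h.classify hK hKL
  obtain ⟨z, hz, hz1⟩ := (T ⊓ centralizer (T : Set G) ⊓ Cfsg.wOf (Atom.Kx L x)).bot_or_exists_ne_one.resolve_left hZW
  rw [hWeq] at hz
  obtain ⟨hzT, hzW⟩ := mem_inf.1 hz
  have hM := ha.mover h
  intro t ht
  have htL := h.syl.1 ht
  have hy : t * x * t⁻¹ ∈ N0 T L := conj_mem (h.N0_norm htL) (ha.x_N0 h)
  set W := dlR x (Vm L)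
  set U := W ⊓ cj t⁻¹ W with hU
  have hzU : z ∈ U := mem_inf.2 ⟨hzW, mem_cj.2 (by
    rw [inv_inv, mem_centralizer_iff.1 (mem_inf.1 hzT).2 t ht, mul_inv_cancel_right]
    exact hzW)⟩
  have hUW : U = W := by
    refine hM.irred ha.card inf_le_left (fun u hu => ?_) hzU hz1
    obtain ⟨hu1, hu2⟩ := mem_inf.1 hu
    refine mem_inf.2 ⟨hM.conj_mem_dlR hu1, mem_cj.2 ?_⟩
    rw [show t⁻¹⁻¹ * (x * u * x⁻¹) * t⁻¹ = (t * x * t⁻¹) * (t⁻¹⁻¹ * u * t⁻¹) * (t * x * t⁻¹)⁻¹ by group]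
    exact ha.N0_stab h hy _ (mem_cj.1 hu2)
  refine normalizer_le_oddGen _ (ha.stab_X0 h htL fun w hw => ?_)
  have := mem_cj.1 (mem_inf.1 (hUW.ge hw : w ∈ U)).2
  rwa [inv_inv] at this

/-- A subgroup with `C`, the components and `N_L(J)` contains `L`. -/
theorem le_of_comps (h : Setting T L) {M : Subgroup G} (hNJ : L ⊓ normalizer (Jof T : Set G) ≤ M)
    (hX : ∀ x a, Atom T L x a → Atom.Kx L x ≤ M) : L ≤ M := by
  have hP : Pc L ≤ M := le_trans (le_inf (pCoreOf_le L) (h.P_le_T.trans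
    (le_normalizer.trans (Cfsg.Lib.Thompson.normalizer_le_normalizer_thompson T)))) hNJ
  have hJ : Jof T ≤ M := le_trans (le_inf h.J_le_L le_normalizer) hNJ
  have hN0 : N0 T L ≤ M := (closure_le M).2 (by
    rintro _ ⟨l, hl, j, hj, rfl⟩
    obtain ⟨g, hg, n, hn, rfl⟩ := frattini_jof h.syl h.N0_le h.N0_norm h.J_le_N0 l hl
    rw [show g * n * j * (g * n)⁻¹ = g * (n * j * n⁻¹) * g⁻¹ by group]
    have hle : Jof T ≤ M.comap (MulAut.conj g).toMonoidHom := by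
      refine h.J_le_kill (fun p hp => hP (conj_mem (h.P_norm (h.N0_le hg)) hp)) fun x a ha => ?_
      show g * a * g⁻¹ ∈ M
      obtain ⟨k, hk⟩ := ha.conj_a h (h.N0_le hg) (ha.N0_stab h hg)
      rw [show g * a * g⁻¹ = x ^ k * a * (x ^ k)⁻¹ * ((x ^ k * a * (x ^ k)⁻¹)⁻¹ * (g * a * g⁻¹)) by group]
      have hxM : x ^ k ∈ M := pow_mem (hX x a ha ha.x_mem_Kx) k
      exact mul_mem (mul_mem (mul_mem hxM (hJ ha.aJ)) (inv_mem hxM)) (hP hk)
    exact hle (conj_mem (mem_inf.1 hn).2 hj))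
  intro l hl
  obtain ⟨g, hg, n, hn, rfl⟩ := frattini_jof h.syl h.N0_le h.N0_norm h.J_le_N0 l hl
  exact mul_mem (hN0 hg) (hNJ hn)

end Setting

end Cfsg.Lib.JComp
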