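import Cfsg.Agent.JComp.Max

/-!
The maximal 2-local subgroup above a component outside `M` is unique.
-/

set_option autoImplicit false
set_option linter.unusedSectionVars false
set_option linter.style.haveILetI false

namespace Cfsg.Lib.JComp

open Subgroup
open scoped commutatorElement

universe u

variable {G : Type u} [Group G] [Finite G]

theorem exists_maximal_local {N : Subgroup G} (hN : Cfsg.IsTwoLocal N) :
    ∃ L, Cfsg.IsMaximalTwoLocal L ∧ N ≤ L := by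
  obtain ⟨L, ⟨hL, hNL⟩, hmax⟩ := Set.exists_max_image {L : Subgroup G | Cfsg.IsTwoLocal L ∧ N ≤ L}
    (fun L => Nat.card L) (Set.toFinite _) ⟨N, hN, le_rfl⟩
  exact ⟨L, ⟨hL, fun L' hL' hle => (eq_of_le_of_card_ge hle (hmax L' ⟨hL', hNL.trans hle⟩)).symm⟩, hNL⟩

namespace Setting

variable {T L : Subgroup G}

theorem N0_norm_comp (h : Setting T L) {K : Subgroup G} (hK : Cfsg.IsJComponent T K) (hKL : K ≤ L) :
    N0 T L ⊔ Pc L ≤ normalizer (K : Set G) := by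
  obtain ⟨x, a, ha, rfl, -⟩ := h.classify hK hKL
  exact (sup_le (ha.N0_norm_X0 h) (h.P_le_C.trans (ha.C_norm_X0 h))).trans (normalizer_le_oddGen _)

/-- Two components of `L` normalize each other. -/
theorem comps_le (h : Setting T L) {K K' : Subgroup G} (hK : Cfsg.IsJComponent T K) (hKL : K ≤ L)
    (hK' : Cfsg.IsJComponent T K') (hKL' : K' ≤ L) : K' ≤ normalizer (K : Set G) := by
  obtain ⟨x, a, ha, rfl, -⟩ := h.classify hK' hKL'
  exact ((oddGen_le _).trans (sup_le le_sup_right ((zpowers_le.2 (ha.x_N0 h)).trans le_sup_left))).trans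
    (h.N0_norm_comp hK hKL)

end Setting

theorem mem_normalizer_sSup {S : Set (Subgroup G)} {g : G} (h : ∀ K ∈ S, cj g K ≤ sSup S) :
    g ∈ normalizer ((sSup S : Subgroup G) : Set G) := by
  refine mem_normalizer_of_cj_le ?_
  rw [cj, map_le_iff_le_comap]
  exact sSup_le fun K hK => map_le_iff_le_comap.1 (h K hK)

theorem normalizer_cj (g : G) (H : Subgroup G) :
    normalizer (cj g H : Set G) = cj g (normalizer (H : Set G)) := by
  ext y
  rw [mem_cj]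
  refine ⟨fun hy => mem_normalizer_of_cj ?_, fun hy => mem_normalizer_of_cj ?_⟩
  · have h1 := cj_eq_self hy
    rw [cj_cj] at h1
    rw [mul_assoc, ← cj_cj, h1, cj_inv_cj]
  · have h1 := cj_eq_self hy
    conv_rhs => rw [← h1]
    rw [cj_cj, cj_cj]
    congr 1
    group

variable (hL : Cfsg.IsCharacteristicTwoType G) (hN : ∀ N : Subgroup G, Cfsg.IsTwoLocal N → Group.IsSolvable ↥N)
  (hZ : ∀ S : Sylow 2 G, centralizer (Cfsg.omegaCenterOf (S : Subgroup G) : Set G) ≤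
    normalizer ((S : Subgroup G) : Set G))

include hL hN hZ

theorem local_setting {S : Sylow 2 G} {M : Subgroup G} (hMJ : normalizer (Jof (S : Subgroup G) : Set G) ≤ M)
    {T : Subgroup G} (hT : T ∈ Cfsg.maxStraddlingTwoSubgroups M) {L : Subgroup G} (hL2 : Cfsg.IsTwoLocal L)
    (hLM : ¬ L ≤ M) (hJL : Jof T ≤ L) : ∃ T₀, Setting T₀ L ∧ Jof T₀ = Jof T := by
  obtain ⟨T₀, hJT₀, hT₀⟩ := exists_sylowIn hJL (isPGroup_jof hT.1.1)
  obtain ⟨hJ, hs, hov, -⟩ := straddle_sylow hL hMJ hT hL2 hLM hT₀ hJT₀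
  exact ⟨T₀, setting_of hN hZ hs.2.1 hov, hJ⟩

theorem unique_maximal {S : Sylow 2 G} {M : Subgroup G} (hMJ : normalizer (Jof (S : Subgroup G) : Set G) ≤ M)
    {T : Subgroup G} (hT : T ∈ Cfsg.maxStraddlingTwoSubgroups M) {K : Subgroup G}
    (hK : K ∈ Cfsg.jComponentsOutside M T) :
    ∃ L : Subgroup G, Cfsg.IsMaximalTwoLocal L ∧ K ⊔ Jof T ≤ L ∧ normalizer (K : Set G) ≤ L ∧
      (∀ L' : Subgroup G, Cfsg.IsMaximalTwoLocal L' → K ⊔ Jof T ≤ L' → L' = L) ∧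
      (K.subgroupOf L).IsSubnormal ∧ T ≤ L ∧ Setting T L := by
  obtain ⟨hK0, hKM, hKT⟩ := hK
  have hKc := hK0.1
  have htri := tri_of_comp hKc
  obtain ⟨hT2, hT1, -, -⟩ := hT.1
  have hNK := (zero_main hL hN hZ hT2 hK0).1
  have hWe : Cfsg.IsElementaryAbelian 2 (Cfsg.wOf K) := elem_of_sq hKc.2.2.2.2.2
  have hW1 : Cfsg.wOf K ≠ ⊥ := fun e => by
    have := hKc.2.2.2.2.1
    rw [e, card_bot] at this
    omega
  set NK := normalizer (K : Set G) with hNKdef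
  have hKJN : K ⊔ Jof T ≤ NK := sup_le le_normalizer htri.J_norm
  have hN2 : Cfsg.IsTwoLocal NK := ⟨_, elem_isPGroup hWe, hW1, hNK⟩
  obtain ⟨L, hLmax, hNL⟩ := exists_maximal_local hN2
  have hout : ∀ L', K ⊔ Jof T ≤ L' → ¬ L' ≤ M := fun L' h hle => hKM ((le_sup_left.trans h).trans hle)
  have hKJL : K ⊔ Jof T ≤ L := hKJN.trans hNL
  set 𝒦 : Set (Subgroup G) := {K' | Cfsg.IsJComponent T K' ∧ K' ≤ NK} with h𝒦
  set X := sSup 𝒦 with hX
  -- members of a maximal 2-local above `K ⊔ J`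
  have hmem : ∀ L', Cfsg.IsTwoLocal L' → K ⊔ Jof T ≤ L' →
      (∀ K', Cfsg.IsJComponent T K' → K' ≤ L' → K' ∈ 𝒦) ∧ ∃ T₀, Setting T₀ L' ∧ Jof T₀ = Jof T := by
    intro L' hL' hle
    obtain ⟨T₀, hset, hJ⟩ := local_setting hL hN hZ hMJ hT hL' (hout L' hle) (le_sup_right.trans hle)
    exact ⟨fun K' hK' hK'L => ⟨hK', hset.comps_le (comp_congr hJ hKc) (le_sup_left.trans hle)
      (comp_congr hJ hK') hK'L⟩, T₀, hset, hJ⟩
  obtain ⟨-, T₀, hset, hJ⟩ := hmem L hLmax.1 hKJL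
  have h𝒦L : ∀ K' ∈ 𝒦, K' ≤ L := fun K' hK' => hK'.2.trans hNL
  -- an element of `N(J)` sending `K` to a member normalizes `X`
  have hperm : ∀ n ∈ normalizer (Jof T : Set G), cj n K ∈ 𝒦 → n ∈ normalizer (X : Set G) := by
    intro n hn hnK
    have h1 : n⁻¹ ∈ normalizer (X : Set G) := by
      refine mem_normalizer_sSup fun K' hK' => le_sSup ⟨?_, ?_⟩
      · refine comp_congr ?_ (comp_cj hK'.1 n⁻¹)
        rw [jof_cj, cj_eq_self (inv_mem hn)]
      · have h2 := hset.comps_le (comp_congr hJ hnK.1) (h𝒦L _ hnK) (comp_congr hJ hK'.1) (h𝒦L _ hK')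
        rw [normalizer_cj] at h2
        have h3 : cj n⁻¹ K' ≤ cj n⁻¹ (cj n NK) := map_mono h2
        rwa [cj_inv_cj] at h3
    simpa using inv_mem h1
  have hconjJ : ∀ {n : G}, n ∈ normalizer (Jof T : Set G) → Cfsg.IsJComponent T (cj n K) := fun {n} hn => by
    refine comp_congr ?_ (comp_cj hKc n)
    rw [jof_cj, cj_eq_self hn]
  have hN0X : ∀ g ∈ N0 T₀ L, g ∈ normalizer (X : Set G) := fun g hg => mem_normalizer_sSup fun K' hK' => by
    rw [cj_eq_self (hset.N0_norm_comp (comp_congr hJ hK'.1) (h𝒦L _ hK') (mem_sup_left hg))]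
    exact le_sSup hK'
  have hLX : ∀ L', Cfsg.IsTwoLocal L' → K ⊔ Jof T ≤ L' → (∀ g, g ∈ L' → g ∈ NK → g ∈ L) →
      (∀ g, g ∈ L' → g ∈ L → g ∈ normalizer (X : Set G)) → L' ≤ normalizer (X : Set G) := by
    intro L' hL' hle hsub hin l hl
    obtain ⟨hm, T₁, hset', hJ'⟩ := hmem L' hL' hle
    obtain ⟨g, hg, n, hn, rfl⟩ := frattini_jof hset'.syl hset'.N0_le hset'.N0_norm hset'.J_le_N0 l hl
    obtain ⟨hnL, hnJ⟩ := mem_inf.1 hn
    rw [hJ'] at hnJ
    have hgL' := hset'.N0_le hg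
    refine mul_mem (hin g hgL' (hsub g hgL'
      (hset'.N0_norm_comp (comp_congr hJ' hKc) (le_sup_left.trans hle) (mem_sup_left hg))))
      (hperm n hnJ (hm _ (hconjJ hnJ) ?_))
    rintro _ ⟨k, hk, rfl⟩
    exact mul_mem (mul_mem hnL ((le_sup_left.trans hle) hk)) (inv_mem hnL)
  have hLN : L ≤ normalizer (X : Set G) := by
    intro l hl
    obtain ⟨g, hg, n, hn, rfl⟩ := frattini_jof hset.syl hset.N0_le hset.N0_norm hset.J_le_N0 l hl
    obtain ⟨hnL, hnJ⟩ := mem_inf.1 hn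
    rw [hJ] at hnJ
    refine mul_mem (hN0X g hg) (hperm n hnJ ((hmem L hLmax.1 hKJL).1 _ (hconjJ hnJ) ?_))
    rintro _ ⟨k, hk, rfl⟩
    exact mul_mem (mul_mem hnL ((le_sup_left.trans hKJL) hk)) (inv_mem hnL)
  -- the 2-core of `X` is nontrivial
  have hKX : K ∈ 𝒦 := ⟨hKc, le_normalizer⟩
  have hP1 : Pc X ≠ ⊥ := by
    intro e
    have hle : Cfsg.pCoreOf 2 K ≤ Pc X := le_pCoreOf (isPGroup_pCoreOf K)
      ((pCoreOf_le K).trans (le_sSup hKX))
      ((sSup_le fun K' hK' => hK'.2).trans (normalizer_le_pCoreOf 2 K))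
    rw [e] at hle
    exact hW1 (eq_bot_iff.2 ((htri.wOf_le_core.trans (omegaCenterOf_le _)).trans hle))
  have hP2 : Cfsg.IsTwoLocal (normalizer (Pc X : Set G)) := ⟨_, isPGroup_pCoreOf X, hP1, rfl⟩
  have huniq : ∀ L' : Subgroup G, Cfsg.IsMaximalTwoLocal L' → K ⊔ Jof T ≤ L' → L' = L := by
    intro L' hL' hle
    have h1 := hLX L' hL'.1 hle (fun g _ hg => hNL hg) fun g _ hg => hLN hg
    have e1 := hL'.2 _ hP2 (h1.trans (normalizer_le_pCoreOf 2 X))
    have e2 := hLmax.2 _ hP2 (hLN.trans (normalizer_le_pCoreOf 2 X))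
    exact e1.symm.trans e2
  -- `T` lies in it
  set Y := K ⊔ T
  have hQ2 : Cfsg.IsTwoLocal (normalizer (Pc Y : Set G)) := ⟨_, isPGroup_pCoreOf Y, hKT, rfl⟩
  have hYQ : Y ≤ normalizer (Pc Y : Set G) := le_normalizer_pCoreOf Y
  obtain ⟨L₂, hL₂, hle₂⟩ := exists_maximal_local hQ2
  have he := huniq L₂ hL₂ ((sup_le_sup_left (jof_le T) K).trans (hYQ.trans hle₂))
  have hTL : T ≤ L := he ▸ (le_sup_right.trans (hYQ.trans hle₂))
  obtain ⟨hsetT, -⟩ := straddle_main hL hN hZ hMJ hT hLmax.1 (hout L hKJL) hTL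
  obtain ⟨x, a, ha, hKeq, -⟩ := hsetT.classify hKc (le_sup_left.trans hKJL)
  exact ⟨L, hLmax, hKJL, hNL, huniq, hKeq ▸ ha.subnormal hsetT, hTL, hsetT⟩

end Cfsg.Lib.JComp
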